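import Cfsg.Agent.H64.SFBasic
import Cfsg.Agent.H86.NUDef

/-! STD-F4 (row S3328), spec piece 3: the three models `(Y, ι, τ)` and the endgame.
Proof notes: `blueprints/STDF4.md`, part 3.  `M = N(G₁)`, `S = U* ⟨t⟩`. -/

set_option autoImplicit false

namespace H64.SF

open Cfsg.Lie H63 H65 H64
open H64.SG (O2 Syl Cz Cs Ns cjs Is2 Inv2 IsO2 fx Cov UF UU UJ)
open H67.SA (cm Gen)
open H59.SO (NS CE)
open H86.WR (XF US UF4)
open H86.NU (NUm UT AllQ)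
open H46.SF (sh iE gE yE yT inc)
open H68 (rhoE6)

universe u

section Mod

variable {F : Type} [Field F] {Y : Type} [Group Y] (ι : XF F →* Y) (τ : MulAut Y)
  (Gd : XF F → Prop) (U : Subgroup Y) (A : ℕ → Y → Prop)

/-- `i` lies in the big root subgroup at `b` and is moved by `τ`. -/
def D4 (b : ℕ) (i : Y) (T : F) : Prop := A b i ∧ T ≠ 0 ∧ i * τ i = ι (x F b T)

/-- Basic facts. -/
structure M1 : Prop where
  ns : NS Y
  inj : Function.Injective ι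
  t2 : τ * τ = 1
  fix : ∀ y, τ y = y ↔ y ∈ ι.range
  syl : Syl U ⊤
  stU : τ ∈ H67.SA.St U
  dich : (∀ u, Gd u) ∨ (∀ u, Gd u ↔ Sh u) ∧ ∀ b i, A b i → b = 44
  bb : ∀ b i, A b i → (b = 44 ∨ b = 47) ∧ i ∈ Cs ((Q F b).map ι)
  onto : ∀ b i, A b i → ∀ c, ∃ a, A b a ∧ a * τ a = ι (x F b c)
  gdc : ∀ u, u * u = 1 → Gd u → ∃ g, ι u = g * (τ g)⁻¹
  gen : ∃ a T, D4 ι τ A 44 a T ∧ ι.range ⊔ cjs a ι.range = ⊤

/-- The layers of `U`. -/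
structure M2 : Prop where
  lay : ∀ W ≤ U, ¬ U ≤ W → ∃ N ≤ W, U ≤ Ns N ∧ τ ∈ H67.SA.St N ∧ ∃ i ∈ U, i ∉ W ∧ (∀ u ∈ U, cm u i ∈ N) ∧
    (i * i = 1 ∧ τ i = i ∨
      ∃ g b j T, D4 ι τ A b j T ∧ i = ι g * j * (ι g)⁻¹ ∧ i * τ i ∈ W)
  cob : ∀ v ∈ U, v * τ v = 1 → (∃ w ∈ U, v = w * (τ w)⁻¹) ∨
    ∃ y c, c ≠ 0 ∧ ¬ Gd (x F 47 c) ∧ v = y * ι (x F 47 c) * (τ y)⁻¹

/-- The fixed points of the second class of outer involutions. -/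
def MZ : Prop := ∀ c, c ≠ 0 → ¬ Gd (x F 47 c) → ∀ y,
  ι (x F 47 c) * y * (ι (x F 47 c))⁻¹ = τ y → τ y = y

/-- Outer automorphisms. -/
structure M3 : Prop where
  tne : τ ∉ commutator (MulAut Y)
  k2 : ∀ β ∈ commutator (MulAut Y), Is2 β → ∃ y, β = MulAut.conj y
  phi : ∀ β : MulAut Y, β * β = 1 → Is2 (β * τ) → Outer β → Outer (β * τ) →
    ∃ (y : Y) (β' : MulAut Y) (ψ : MulAut (XF F)) (z : XF F),
      β' = MulAut.conj y * β * (MulAut.conj y)⁻¹ ∧ β' * τ = τ * β' ∧ (∀ u, β' (ι u) = ι (ψ u)) ∧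
        Outer ψ ∧ z ∈ O2 (fx ψ) ∧ Inv2 z ∧ ¬ Gd z

/-- Every involution is conjugate into `X`. -/
def MI : Prop := ∀ y : Y, y * y = 1 → ∃ u, IsConj y (ι u)

/-- The centralisers of `Q_σ` and `Q_θ`. -/
structure M4 : Prop where
  ca2 : ∀ j, j = 44 ∨ j = 47 → ∀ α : MulAut Y, (∀ u ∈ Q F j, α (ι u) = ι u) → Is2 α
  ce : ∀ j, j = 44 ∨ j = 47 → ∀ y ∈ Cs ((Q F j).map ι), y * y = 1

/-- The centraliser of `z₀ = ι x_b(T)`. -/
structure M5 : Prop where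
  np : (∀ u, Gd u) → ∀ b i T, D4 ι τ A b i T → Cz (ι (x F b T)) ≤ Cz i
  nq : ∀ b i T, D4 ι τ A b i T → ∃ R : Subgroup Y, IsPGroup 2 R ∧ (Q F b).map ι ≤ R ∧ R ≤ Cz i ∧
    ∀ α : MulAut Y, α (ι (x F b T)) = ι (x F b T) → α ∈ H67.SA.St R
  e7 : ∀ b i T, D4 ι τ A b i T → ∀ y ∈ Cz (ι (x F b T)), y ∈ Cs ((Z F b).map ι) ∧
    ∀ c, y * i * y⁻¹ = i * ι (x F b c) → c = 0 ∨ c = T

/-- An element `y τ` with square `z = β z₀` is inverted by an involution `j y τ`. -/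
def M9 : Prop := ∀ b i T, D4 ι τ A b i T → ∀ (y z : Y) (β : MulAut Y), z = β (ι (x F b T)) →
  y * τ y = z → ∃ j, j * j = 1 ∧ j * z = z * j ∧ j * (y * τ j * y⁻¹) = z

/-- All facts on the model. -/
structure MF : Prop extends M1 ι τ Gd U A, M2 ι τ Gd U A, M3 ι τ Gd, M4 ι, M5 ι τ Gd A where
  fz : MZ ι τ Gd
  icin : MI ι
  e9 : M9 ι τ A

end Mod

/-- A property of models. -/
abbrev MP : Type 1 := ∀ (F : Type) [Field F] (Y : Type) [Group Y],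
  (XF F →* Y) → MulAut Y → (XF F → Prop) → Subgroup Y → (ℕ → Y → Prop) → Prop

/-- The big root subgroups of `F₄(K)`. -/
def AF (K : Type) [Field K] (b : ℕ) (i : XF K) : Prop := (b = 44 ∨ b = 47) ∧ ∃ a, i = x K b a
/-- The big root subgroup of `E₆(F)`. -/
def AE (F : Type) [Field F] (b : ℕ) (i : chevE6.group F) : Prop := b = 44 ∧ ∃ a a', i = yE F 44 a a'
/-- The big root subgroup of `²E₆(q)`. -/
def AT {F K : Type} [Field F] [CharP F 2] [Field K] [Fintype K] [CharP K 2] (x : Qx F K) (b : ℕ)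
    (i : twistedE6 K (Nat.card F)) : Prop :=
  b = 44 ∧ ∃ a, i = yT (q := Nat.card F) (f := (x.σ : K →+* K)) 44 a

/-- `P` holds for `F₄(K)`. -/
def OnF (P : MP) : Prop := AllQ fun F K _ _ _ _ _ x => P F _ x.ιF x.τF (fun _ => True) (UF4 K) (AF K)
/-- `P` holds for `E₆(F)`. -/
def OnE (P : MP) : Prop := ∀ (F : Type) [Field F] [Finite F] [CharP F 2],
  P F _ (iE F) (gE F) Sh (UU chevE6 (xG chevE6 F)) (AE F)
/-- `P` holds for `²E₆(q)`. -/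
def OnT (P : MP) : Prop := AllQ fun F _ _ _ _ _ _ x => P F _ x.ιT x.τT Sh (UT x) (AT x)
/-- `P` holds for `E₆(F)` and for `²E₆(q)`. -/
def OnET (P : MP) : Prop := OnE P ∧ OnT P

section E6

variable (K : Type) [Field K]

/-- `O₂` of the parabolic subgroup of type `D₄`. -/
noncomputable abbrev QE : Subgroup (chevE6.group K) :=
  UJ chevE6 (xG chevE6 K) {i | (i : ℕ) ≠ 0 ∧ (i : ℕ) ≠ 5}

/-- Bruhat decomposition and supports in `X₆₆ X₆₈ X₆₉ X₇₀ X₇₁ ≤ E₆(K)`. -/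
structure Sup : Prop where
  lin : ∀ r ∈ [44, 45, 46, 47], ∀ (g : chevE6.group K) a b a' b',
    g * yE K r a b * g⁻¹ = yE K r a' b' →
      ∀ l, g * yE K r (l * a) (l * b) * g⁻¹ = yE K r (l * a') (l * b')
  par : ∀ (g : chevE6.group K) a b a' b', a * b ≠ 0 → g * yE K 44 a b * g⁻¹ = yE K 44 a' b' →
    a' * b' ≠ 0 ∧ g ∈ Ns (QE K)
  bor : ∀ g : chevE6.group K, (∀ r ∈ [44, 45, 46, 47], ∃ a b a' b', a * b ≠ 0 ∧
    g * yE K r a b * g⁻¹ = yE K r a' b') → g ∈ UU chevE6 (xG chevE6 K) ⊔ HH chevE6 (xG chevE6 K)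

variable {K} in
/-- A standard automorphism of `E₆(K)` with field part `φ` and graph part `ε`. -/
def SdE (β : MulAut (chevE6.group K)) (φ : RingAut K) (ε : Bool) : Prop :=
  ∀ s < 72, ∃ m : K, m ≠ 0 ∧ ∀ a, β (xG chevE6 K s a) = xG chevE6 K (if ε then rhoE6 s else s) (m * φ a)

end E6

def JobSup : Prop := All fun K _ => Sup K

/-- Automorphisms of `E₆(K)`. -/
def JobXE : Prop := All fun K _ => ∀ α : MulAut (chevE6.group K),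
  ∃ (g : chevE6.group K) (β : MulAut (chevE6.group K)) (φ : RingAut K) (ε : Bool),
    SdE β φ ε ∧ α = MulAut.conj g * β

/-- Automorphisms of `²E₆(q)` extend to `E₆(K)`. -/
def JobXT : Prop := AllQ fun F K _ _ _ _ _ x => ∀ α : MulAut (twistedE6 K (Nat.card F)),
  ∃ g β φ, SdE β φ false ∧ ∀ y, inc x.hq x.hK (α y) =
    inc x.hq x.hK g * β (inc x.hq x.hK y) * (inc x.hq x.hK g)⁻¹

def JobMF1 : Prop := OnF fun _ _ _ _ ι τ Gd U A => M1 ι τ Gd U A ∧ M2 ι τ Gd U A ∧ MI ι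
def JobMF2 : Prop := OnF fun _ _ _ _ ι τ Gd _ A => M3 ι τ Gd ∧ M4 ι ∧ M5 ι τ Gd A ∧ M9 ι τ A
def JobM1 : Prop := OnET fun _ _ _ _ ι τ Gd U A => M1 ι τ Gd U A
def JobM2 : Prop := OnET fun _ _ _ _ ι τ Gd U A => M2 ι τ Gd U A
def JobMZ : Prop := OnET fun _ _ _ _ ι τ Gd _ _ => MZ ι τ Gd
def JobM3E : Prop := OnE fun _ _ _ _ ι τ Gd _ _ => M3 ι τ Gd
def JobM3T : Prop := OnT fun _ _ _ _ ι τ Gd _ _ => M3 ι τ Gd
def JobMI : Prop := OnET fun _ _ _ _ ι _ _ _ _ => MI ι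
def JobM4 : Prop := OnET fun _ _ _ _ ι _ _ _ _ => M4 ι
def JobM5 : Prop := OnET fun _ _ _ _ ι τ Gd _ A => M5 ι τ Gd A
def JobM9 : Prop := OnET fun _ _ _ _ ι τ _ _ A => M9 ι τ A

section End

variable {F : Type} [Field F] {Y : Type} [Group Y] {G : Type u} [Group G] (ι : XF F →* Y)
  (τ : MulAut Y) (Gd : XF F → Prop) (U : Subgroup Y) (A : ℕ → Y → Prop) (e : XF F →* G) (t : G)
  (G₁ : Subgroup G) (c : Cov Y G₁) (Us K₀ : Subgroup G)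

/-- The start of the endgame; `Us` is the `2`-subgroup of `G₁` over `U` (`Cov.exists_up`). -/
structure E0 : Prop extends Bl ι τ Gd e t G₁ c, CE e t where
  up : ∀ g, g ∈ Us ↔ g ∈ G₁ ∧ Is2 g ∧ c.pi g ∈ U
  twoU : IsPGroup 2 Us
  im : c.im Us = U

/-- The facts on the model, lifted to `G₁`. -/
structure EA : Prop where
  odd : Odd (Nat.card (Cs G₁))
  ct : Cz t ≤ Ns G₁
  tx : ∀ u, u * u = 1 → Gd u → ∃ w ∈ G₁, t * e u = w * t * w⁻¹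
  cl : ∀ v ∈ G₁, v * t * (v * t) = 1 → ∃ g ∈ G₁, v * t = g * t * g⁻¹ ∨
    ∃ a, a ≠ 0 ∧ ¬ Gd (x F 47 a) ∧ v * t = g * (t * e (x F 47 a)) * g⁻¹
  cob : ∀ v ∈ Us, IsConj t (v * t) → ∃ w ∈ Us, v * t = w * t * w⁻¹
  ic : ∀ z ∈ G₁, z * z = 1 → ∃ g ∈ G₁, ∃ u, z = g * e u * g⁻¹
  inn : ∀ m ∈ Ns G₁, Is2 m → ∀ y, c.ac m = MulAut.conj y → m ∈ G₁

/-- Centralisers. -/
structure EC : Prop where
  cuS : Cs ((Q F 44).map e) ≤ Ns G₁
  cuT : Cs ((Q F 47).map e) ≤ Ns G₁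
  co : ∀ j, j = 44 ∨ j = 47 → ∀ m ∈ Ns G₁, m ∈ Cs ((Q F j).map e) → Odd (orderOf m) → m ∈ Cs G₁

/-- The result of the transfer: a normal subgroup `K₀` of index `2`. -/
structure EK : Prop where
  nor : K₀.Normal
  nt : t ∉ K₀
  le : G₁ ≤ K₀
  top : ∀ g, g ∈ K₀ ∨ g * t ∈ K₀
  two : ∀ m ∈ Ns G₁, Is2 m → m ∈ K₀ → m ∈ G₁
  syl : Syl (Us ⊔ Subgroup.zpowers t) (Ns G₁)

/-- The involutions of `G₁ t` outside `T`. -/
def EI : Prop := ∀ a, a ≠ 0 → ¬ Gd (x F 47 a) → Cz (t * e (x F 47 a)) ≤ Ns G₁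

/-- The elements `d = a t` of order `4`. -/
def E4 : Prop := ∀ b i T, D4 ι τ A b i T → ∀ a ∈ G₁, Is2 a → c.pi a = i →
  Ns (Subgroup.zpowers (a * t)) ≤ Ns G₁

end End

/-- A statement for all models and all groups in the endgame. -/
def AllE (P : ∀ (F : Type) [Field F] (Y : Type) [Group Y] (G : Type u) [Group G],
    (XF F →* Y) → MulAut Y → (XF F → Prop) → Subgroup Y → (ℕ → Y → Prop) → (XF F →* G) → G →
      ∀ G₁ : Subgroup G, Cov Y G₁ → Subgroup G → Prop) : Prop :=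
  ∀ (F : Type) [Field F] [Finite F] [CharP F 2] (Y : Type) [Group Y] [Finite Y] (G : Type u)
    [Group G] [Finite G] (ι : XF F →* Y) (τ : MulAut Y) (Gd : XF F → Prop) (U : Subgroup Y)
    (A : ℕ → Y → Prop) (e : XF F →* G) (t : G) (G₁ : Subgroup G) (c : Cov Y G₁) (Us : Subgroup G),
    MF ι τ Gd U A → E0 ι τ Gd U e t G₁ c Us → P F Y G ι τ Gd U A e t G₁ c Us

def JobEA : Prop := AllE.{u} fun _ _ _ _ _ _ _ _ Gd _ _ e t G₁ c Us => EA Gd e t G₁ c Us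

def JobUF : Prop := AllE.{u} fun _ _ _ _ _ _ _ _ Gd _ _ e t G₁ c Us => EA Gd e t G₁ c Us →
  UF (Ns G₁) t

def JobCU : Prop := AllE.{u} fun _ _ _ _ _ _ _ _ Gd _ _ e t G₁ c Us => EA Gd e t G₁ c Us →
  UF (Ns G₁) t → EC e G₁

def JobEV : Prop := AllE.{u} fun _ _ _ _ _ _ _ _ Gd _ _ e t G₁ c Us => EA Gd e t G₁ c Us →
  UF (Ns G₁) t → Gen t → ∃ K₀, EK t G₁ Us K₀

def JobDI : Prop := AllE.{u} fun _ _ _ _ _ _ _ _ Gd _ _ e t G₁ c Us => EA Gd e t G₁ c Us →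
  UF (Ns G₁) t → EC e G₁ → EI Gd e t G₁

def JobD4 : Prop := AllE.{u} fun _ _ _ _ _ _ ι τ Gd _ A e t G₁ c Us => EA Gd e t G₁ c Us →
  UF (Ns G₁) t → EC e G₁ → ∀ K₀, EK t G₁ Us K₀ → E4 ι τ A t G₁ c

def JobEF : Prop := AllE.{u} fun _ _ _ _ _ _ ι τ Gd U A e t G₁ c Us => EA Gd e t G₁ c Us →
  UF (Ns G₁) t → EC e G₁ → ∀ K₀, EK t G₁ Us K₀ → EI Gd e t G₁ → E4 ι τ A t G₁ c →
    NUm.{u} ι τ U → Ns G₁ = ⊤

end H64.SF
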