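import Cfsg.Agent.H64.Collect
import Cfsg.Agent.H64.WData

/-! Root group data: a group with root subgroups `X r`, a torus `H` and representatives `n i` of
the simple reflections. The subgroups `U, V, B, N`, the action of `N` on the roots. -/

set_option autoImplicit false
set_option linter.unusedSectionVars false

namespace H64

open scoped commutatorElement

/-- `c` lies strictly between the positive roots `a` and `b`. -/
def WData.Btw {Φ ι : Type*} (R : WData Φ ι) (ht : Φ → ℕ) (a b c : Φ) : Prop :=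
  ht a < ht c ∧ ht b < ht c ∧ ∀ w : R.W, R.pos (w.1 a) → R.pos (w.1 b) → R.pos (w.1 c)

/-- A root group datum of type `R` in the group `G`. -/
structure RGD {Φ ι : Type*} (R : WData Φ ι) (G : Type*) [Group G] where
  X : Φ → Subgroup G
  H : Subgroup G
  n : ι → G
  ht : Φ → ℕ
  h_conj : ∀ h ∈ H, ∀ r, ∀ x ∈ X r, h * x * h⁻¹ ∈ X r
  n_conj : ∀ i r, ∀ x ∈ X r, n i * x * (n i)⁻¹ ∈ X (R.s i r)
  n_H : ∀ i, ∀ h ∈ H, n i * h * (n i)⁻¹ ∈ H
  n_sq : ∀ i, n i * n i ∈ H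
  rank_one : ∀ i, ∀ y ∈ X (R.neg (R.p i)), y ≠ 1 →
    ∃ a ∈ X (R.p i), ∃ b ∈ X (R.p i), ∃ h ∈ H, y = a * n i * h * b
  nontriv : ∀ i, ∃ x ∈ X (R.p i), x ≠ 1
  comm : ∀ a b, R.pos a → R.pos b → a ≠ b → ∀ x ∈ X a, ∀ y ∈ X b,
    ⁅x, y⁆ ∈ gen X {c | R.Btw ht a b c}
  borel_neg : ∀ u ∈ gen X {r | R.pos r}, ∀ h ∈ H, u * h ∈ gen X {r | ¬ R.pos r} → u * h = 1

namespace RGD

variable {Φ ι : Type*} {R : WData Φ ι} {G : Type*} [Group G] (T : RGD R G)

/-- The positive unipotent subgroup. -/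
def U : Subgroup G := gen T.X {r | R.pos r}
/-- The negative unipotent subgroup. -/
def V : Subgroup G := gen T.X {r | ¬ R.pos r}
/-- The Borel subgroup. -/
def B : Subgroup G := T.U ⊔ T.H
/-- The monomial subgroup. -/
def N : Subgroup G := T.H ⊔ Subgroup.closure (Set.range T.n)
/-- The group generated by the root subgroups and the torus. -/
def Gp : Subgroup G := gen T.X Set.univ ⊔ T.H

theorem X_le_U {r : Φ} (h : R.pos r) : T.X r ≤ T.U := le_gen T.X h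
theorem X_le_V {r : Φ} (h : ¬ R.pos r) : T.X r ≤ T.V := le_gen T.X h
theorem U_le_B : T.U ≤ T.B := le_sup_left
theorem H_le_B : T.H ≤ T.B := le_sup_right
theorem H_le_N : T.H ≤ T.N := le_sup_left
theorem n_mem_N (i : ι) : T.n i ∈ T.N :=
  Subgroup.mem_sup_right (Subgroup.subset_closure ⟨i, rfl⟩)
theorem X_le_Gp (r : Φ) : T.X r ≤ T.Gp := (le_gen T.X (Set.mem_univ r)).trans le_sup_left
theorem H_le_Gp : T.H ≤ T.Gp := le_sup_right
theorem gen_le_Gp (S : Set Φ) : gen T.X S ≤ T.Gp := gen_le fun r _ => T.X_le_Gp r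
theorem U_le_Gp : T.U ≤ T.Gp := T.gen_le_Gp _
theorem V_le_Gp : T.V ≤ T.Gp := T.gen_le_Gp _
theorem B_le_Gp : T.B ≤ T.Gp := sup_le T.U_le_Gp T.H_le_Gp

theorem h_conj_gen {h : G} (hh : h ∈ T.H) {S : Set Φ} {g : G} (hg : g ∈ gen T.X S) :
    h * g * h⁻¹ ∈ gen T.X S :=
  conj_mem_of_gen (fun c hc y hy => le_gen T.X hc (T.h_conj h hh c y hy)) hg

theorem H_le_normalizer_gen (S : Set Φ) : T.H ≤ Subgroup.normalizer (gen T.X S : Set G) := by
  intro h hh
  rw [Subgroup.mem_normalizer_iff]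
  intro g
  refine ⟨T.h_conj_gen hh, fun hg => ?_⟩
  have := T.h_conj_gen (inv_mem hh) hg
  simpa [mul_assoc] using this

theorem mem_gen_sup_H {S : Set Φ} {g : G} :
    g ∈ gen T.X S ⊔ T.H ↔ ∃ u ∈ gen T.X S, ∃ h ∈ T.H, g = u * h := by
  rw [← SetLike.mem_coe, Subgroup.coe_mul_of_right_le_normalizer_left _ _
    (T.H_le_normalizer_gen S), Set.mem_mul]
  simp only [SetLike.mem_coe, eq_comm]

theorem mem_B {g : G} : g ∈ T.B ↔ ∃ u ∈ T.U, ∃ h ∈ T.H, g = u * h := T.mem_gen_sup_H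

theorem mem_B' {g : G} : g ∈ T.B ↔ ∃ h ∈ T.H, ∃ u ∈ T.U, g = h * u := by
  rw [mem_B]
  constructor
  · rintro ⟨u, hu, h, hh, rfl⟩
    exact ⟨h, hh, h⁻¹ * u * h⁻¹⁻¹, T.h_conj_gen (inv_mem hh) hu, by group⟩
  · rintro ⟨h, hh, u, hu, rfl⟩
    exact ⟨h * u * h⁻¹, T.h_conj_gen hh hu, h, hh, by group⟩

theorem eq_one_of_mem_B_V {g : G} (hB : g ∈ T.B) (hV : g ∈ T.V) : g = 1 := by
  obtain ⟨u, hu, h, hh, rfl⟩ := T.mem_B.1 hB
  exact T.borel_neg u hu h hh hV

theorem B_inf_V : T.B ⊓ T.V = ⊥ :=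
  eq_bot_iff.2 fun _ hg => T.eq_one_of_mem_B_V hg.1 hg.2

theorem eq_one_of_mem_U_V {g : G} (hU : g ∈ T.U) (hV : g ∈ T.V) : g = 1 :=
  T.eq_one_of_mem_B_V (T.U_le_B hU) hV

theorem n_inv_eq (i : ι) : (T.n i)⁻¹ = T.n i * (T.n i * T.n i)⁻¹ := by group

/-- `g` permutes the root subgroups as `w` permutes the roots. -/
def Act (g : G) (w : R.W) : Prop := ∀ r x, x ∈ T.X r ↔ g * x * g⁻¹ ∈ T.X (w.1 r)

variable {T}

theorem Act.mul {g g' : G} {w w' : R.W} (h : T.Act g w) (h' : T.Act g' w') :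
    T.Act (g * g') (w * w') := by
  intro r x
  rw [h' r x, h, R.mul_apply]
  simp only [mul_assoc, mul_inv_rev]

theorem Act.inv {g : G} {w : R.W} (h : T.Act g w) : T.Act g⁻¹ w⁻¹ := by
  intro r x
  rw [h ((w⁻¹).1 r), R.apply_inv_apply]
  simp [mul_assoc]

theorem Act.conj_mem {g : G} {w : R.W} (h : T.Act g w) {r : Φ} {x : G} (hx : x ∈ T.X r) :
    g * x * g⁻¹ ∈ T.X (w.1 r) := (h r x).1 hx

theorem Act.conj_gen {g : G} {w : R.W} (h : T.Act g w) {S S' : Set Φ} (hS : ∀ r ∈ S, w.1 r ∈ S')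
    {x : G} (hx : x ∈ gen T.X S) : g * x * g⁻¹ ∈ gen T.X S' :=
  conj_mem_of_gen (fun c hc _ hy => le_gen T.X (hS c hc) (h.conj_mem hy)) hx

theorem Act.map_X {g : G} {w : R.W} (h : T.Act g w) (r : Φ) :
    (T.X r).map (MulAut.conj g).toMonoidHom = T.X (w.1 r) := by
  ext x
  constructor
  · rintro ⟨y, hy, rfl⟩
    exact h.conj_mem hy
  · intro hx
    refine ⟨g⁻¹ * x * g, (h r _).2 (by simpa [mul_assoc] using hx), by simp [mul_assoc]⟩

variable (T)

theorem act_H {h : G} (hh : h ∈ T.H) : T.Act h 1 := by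
  intro r x
  refine ⟨T.h_conj h hh r x, fun hx => ?_⟩
  have := T.h_conj h⁻¹ (inv_mem hh) r _ hx
  simpa [mul_assoc] using this

theorem act_one : T.Act 1 1 := T.act_H (one_mem _)

theorem act_n (i : ι) : T.Act (T.n i) (R.sW i) := by
  intro r x
  refine ⟨T.n_conj i r x, fun hx => ?_⟩
  have h1 := T.n_conj i _ _ hx
  rw [R.sW_val, R.s_s] at h1
  have h2 := T.h_conj _ (inv_mem (T.n_sq i)) r _ h1
  simpa [mul_assoc] using h2

theorem n_inv_H (i : ι) {h : G} (hh : h ∈ T.H) : (T.n i)⁻¹ * h * T.n i ∈ T.H := by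
  have := T.n_H i _ (T.H.mul_mem (T.H.mul_mem (inv_mem (T.n_sq i)) hh) (T.n_sq i))
  convert this using 1
  group

theorem N_le_normalizer_H : T.N ≤ Subgroup.normalizer (T.H : Set G) := by
  refine sup_le Subgroup.le_normalizer ((Subgroup.closure_le _).2 ?_)
  rintro _ ⟨i, rfl⟩
  rw [SetLike.mem_coe, Subgroup.mem_normalizer_iff]
  intro h
  refine ⟨T.n_H i h, fun hh => ?_⟩
  have := T.n_inv_H i hh
  simpa [mul_assoc] using this

theorem conj_H {g : G} (hg : g ∈ T.N) {h : G} (hh : h ∈ T.H) : g * h * g⁻¹ ∈ T.H :=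
  (Subgroup.mem_normalizer_iff.1 (T.N_le_normalizer_H hg) h).1 hh

/-- The element of `N` attached to a word in the simple reflections. -/
abbrev nw (l : List ι) : G := H67.wp T.n l

theorem nw_mem_N (l : List ι) : T.nw l ∈ T.N := by
  induction l with
  | nil => simp
  | cons i l ih => rw [nw, H67.wp_cons]; exact T.N.mul_mem (T.n_mem_N i) ih

theorem act_nw (l : List ι) : T.Act (T.nw l) (H67.wp R.sW l) := by
  induction l with
  | nil => simpa using T.act_one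
  | cons i l ih => rw [nw, H67.wp_cons, H67.wp_cons]; exact (T.act_n i).mul ih

theorem mem_N_iff {g : G} : g ∈ T.N ↔ ∃ l : List ι, ∃ h ∈ T.H, g = T.nw l * h := by
  constructor
  · intro hg
    rw [N, Subgroup.sup_eq_closure] at hg
    induction hg using Subgroup.closure_induction_left with
    | one => exact ⟨[], 1, one_mem _, by simp⟩
    | mul_left x hx y hy ih =>
      obtain ⟨l, h, hh, rfl⟩ := ih
      rcases hx with hx | hx
      · refine ⟨l, ((T.nw l)⁻¹ * x * (T.nw l)⁻¹⁻¹) * h,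
          T.H.mul_mem (T.conj_H (inv_mem (T.nw_mem_N l)) hx) hh, by group⟩
      · induction hx using Subgroup.closure_induction_left with
        | one => exact ⟨l, h, hh, by simp⟩
        | mul_left z hz y' _ ih' =>
          obtain ⟨i, rfl⟩ := hz
          obtain ⟨l', h', hh', e⟩ := ih'
          exact ⟨i :: l', h', hh', by rw [mul_assoc, e]; simp [mul_assoc]⟩
        | inv_mul_cancel z hz y' _ ih' =>
          obtain ⟨i, rfl⟩ := hz
          obtain ⟨l', h', hh', e⟩ := ih'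
          refine ⟨i :: l', ((T.nw l')⁻¹ * (T.n i * T.n i)⁻¹ * (T.nw l')⁻¹⁻¹) * h',
            T.H.mul_mem (T.conj_H (inv_mem (T.nw_mem_N l')) (inv_mem (T.n_sq i))) hh', ?_⟩
          rw [mul_assoc, e, nw, nw, H67.wp_cons]; group
    | inv_mul_cancel x hx y hy ih =>
      obtain ⟨l, h, hh, rfl⟩ := ih
      rcases hx with hx | hx
      · refine ⟨l, ((T.nw l)⁻¹ * x⁻¹ * (T.nw l)⁻¹⁻¹) * h,
          T.H.mul_mem (T.conj_H (inv_mem (T.nw_mem_N l)) (inv_mem hx)) hh, by group⟩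
      · have hx' : x⁻¹ ∈ Subgroup.closure (Set.range T.n) := inv_mem hx
        generalize x⁻¹ = x' at hx'
        induction hx' using Subgroup.closure_induction_left with
        | one => exact ⟨l, h, hh, by simp⟩
        | mul_left z hz y' _ ih' =>
          obtain ⟨i, rfl⟩ := hz
          obtain ⟨l', h', hh', e⟩ := ih'
          exact ⟨i :: l', h', hh', by rw [mul_assoc, e]; simp [mul_assoc]⟩
        | inv_mul_cancel z hz y' _ ih' =>
          obtain ⟨i, rfl⟩ := hz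
          obtain ⟨l', h', hh', e⟩ := ih'
          refine ⟨i :: l', ((T.nw l')⁻¹ * (T.n i * T.n i)⁻¹ * (T.nw l')⁻¹⁻¹) * h',
            T.H.mul_mem (T.conj_H (inv_mem (T.nw_mem_N l')) (inv_mem (T.n_sq i))) hh', ?_⟩
          rw [mul_assoc, e, nw, nw, H67.wp_cons]; group
  · rintro ⟨l, h, hh, rfl⟩
    exact T.N.mul_mem (T.nw_mem_N l) (T.H_le_N hh)

theorem exists_act {g : G} (hg : g ∈ T.N) : ∃ w : R.W, T.Act g w := by
  obtain ⟨l, h, hh, rfl⟩ := T.mem_N_iff.1 hg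
  exact ⟨_, (T.act_nw l).mul (T.act_H hh)⟩

theorem exists_mem_N_act (w : R.W) : ∃ g ∈ T.N, T.Act g w := by
  obtain ⟨l, rfl⟩ := R.exch.exists_word w
  exact ⟨_, T.nw_mem_N l, T.act_nw l⟩

theorem eq_one_of_mem_X {a b : Φ} (ha : R.pos a) (hb : ¬ R.pos b) {x : G} (h1 : x ∈ T.X a)
    (h2 : x ∈ T.X b) : x = 1 := T.eq_one_of_mem_U_V (T.X_le_U ha h1) (T.X_le_V hb h2)

theorem Act.unique {T : RGD R G} {g : G} {w w' : R.W} (h : T.Act g w) (h' : T.Act g w') :
    w = w' := by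
  have h1 := h'.inv.mul h
  rw [inv_mul_cancel] at h1
  rw [← inv_mul_eq_one, eq_comm, ← inv_inv (w⁻¹ * w'), eq_comm, inv_eq_one, mul_inv_rev, inv_inv]
  refine R.eq_one_of_pos fun i => ?_
  by_contra hc
  obtain ⟨x, hx, hx1⟩ := T.nontriv i
  have := h1.conj_mem hx
  rw [one_mul, inv_one, mul_one] at this
  exact hx1 (T.eq_one_of_mem_X (R.pos_p i) hc hx this)

theorem exists_neg_nontriv (i : ι) : ∃ y ∈ T.X (R.neg (R.p i)), y ≠ 1 := by
  obtain ⟨x, hx, hx1⟩ := T.nontriv i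
  refine ⟨_, R.s_p i ▸ T.n_conj i _ x hx, fun h => hx1 ?_⟩
  rwa [mul_inv_eq_one, mul_eq_left] at h

theorem exists_n_eq (i : ι) : ∃ a ∈ T.X (R.p i), ∃ y ∈ T.X (R.neg (R.p i)), ∃ b ∈ T.X (R.p i),
    ∃ h ∈ T.H, y ≠ 1 ∧ T.n i = a * y * b * h := by
  obtain ⟨y, hy, hy1⟩ := T.exists_neg_nontriv i
  obtain ⟨a, ha, b, hb, h, hh, e⟩ := T.rank_one i y hy hy1
  exact ⟨a⁻¹, inv_mem ha, y, hy, b⁻¹, inv_mem hb, h⁻¹, inv_mem hh, hy1, by rw [e]; group⟩

theorem n_mem_Gp (i : ι) : T.n i ∈ T.Gp := by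
  obtain ⟨a, ha, y, hy, b, hb, h, hh, -, e⟩ := T.exists_n_eq i
  rw [e]
  exact T.Gp.mul_mem (T.Gp.mul_mem (T.Gp.mul_mem (T.X_le_Gp _ ha) (T.X_le_Gp _ hy))
    (T.X_le_Gp _ hb)) (T.H_le_Gp hh)

theorem N_le_Gp : T.N ≤ T.Gp :=
  sup_le T.H_le_Gp ((Subgroup.closure_le _).2 (by rintro _ ⟨i, rfl⟩; exact T.n_mem_Gp i))

theorem eq_one_of_normalizes {i : ι} {y : G} (hy : y ∈ T.X (R.neg (R.p i)))
    (hn : ∀ x ∈ T.X (R.p i), y * x * y⁻¹ ∈ T.X (R.p i)) : y = 1 := by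
  by_contra hy1
  obtain ⟨a, ha, b, hb, h, hh, rfl⟩ := T.rank_one i y hy hy1
  obtain ⟨x, hx, hx1⟩ := T.nontriv i
  have h1 : b⁻¹ * (h⁻¹ * x * h⁻¹⁻¹) * b ∈ T.X (R.p i) :=
    (T.X _).mul_mem ((T.X _).mul_mem (inv_mem hb) (T.h_conj _ (inv_mem hh) _ _ hx)) hb
  have h2 := (T.X _).mul_mem ((T.X _).mul_mem (inv_mem ha) (hn _ h1)) ha
  have e : a⁻¹ * (a * T.n i * h * b * (b⁻¹ * (h⁻¹ * x * h⁻¹⁻¹) * b) * (a * T.n i * h * b)⁻¹) * a =
      T.n i * x * (T.n i)⁻¹ := by group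
  rw [e] at h2
  have h3 := T.n_conj i _ x hx
  rw [R.s_p] at h3
  have := T.eq_one_of_mem_X (R.pos_p i) (R.not_pos_neg_p i) h2 h3
  rw [mul_inv_eq_one, mul_eq_left] at this
  exact hx1 this

theorem eq_one_of_normalizes' {i : ι} {y : G} (hy : y ∈ T.X (R.p i))
    (hn : ∀ x ∈ T.X (R.neg (R.p i)), y * x * y⁻¹ ∈ T.X (R.neg (R.p i))) : y = 1 := by
  have h1 := T.n_conj i _ y hy
  rw [R.s_p] at h1
  have := T.eq_one_of_normalizes h1 (fun x hx => by
    have h2 := (T.act_n i).inv.conj_mem hx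
    rw [R.sW_inv, R.sW_val, R.s_p] at h2
    have h3 := T.n_conj i _ _ (hn _ h2)
    rw [R.s_neg_p] at h3
    convert h3 using 1
    group)
  rwa [mul_inv_eq_one, mul_eq_left] at this

theorem conj_n {m : G} (hm : m ∈ T.N) {w : R.W} (hw : T.Act m w) {i j : ι}
    (hij : w.1 (R.p j) = R.p i) : (T.n i)⁻¹ * (m * T.n j * m⁻¹) ∈ T.H := by
  have hact : T.Act (m * T.n j * m⁻¹) (R.sW i) := by
    have := (hw.mul (T.act_n j)).mul hw.inv
    rwa [R.conjW w hij, mul_assoc (R.sW i), mul_inv_cancel, mul_one] at this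
  obtain ⟨a, ha, y, hy, b, hb, h, hh, hy1, e⟩ := T.exists_n_eq j
  have ha' := hw.conj_mem ha
  have hy' := hw.conj_mem hy
  have hb' := hw.conj_mem hb
  have hh' := T.conj_H hm hh
  rw [R.w_neg] at hy'
  rw [hij] at ha' hy' hb'
  obtain ⟨c, hc, d, hd, k, hk, e2⟩ := T.rank_one i _ hy'
    (fun h => hy1 (by rwa [mul_inv_eq_one, mul_eq_left] at h))
  have e3 : m * T.n j * m⁻¹ =
      (m * a * m⁻¹ * c) * T.n i * k * (d * (m * b * m⁻¹)) * (m * h * m⁻¹) := by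
    have : m * T.n j * m⁻¹ = (m * a * m⁻¹) * (m * y * m⁻¹) * (m * b * m⁻¹) * (m * h * m⁻¹) := by
      rw [e]; group
    rw [this, e2]; group
  have hA := (T.X _).mul_mem ha' hc
  have hB := (T.X _).mul_mem hd hb'
  generalize m * a * m⁻¹ * c = A at e3 hA
  generalize d * (m * b * m⁻¹) = B' at e3 hB
  generalize m * h * m⁻¹ = h' at e3 hh'
  generalize m * T.n j * m⁻¹ = n' at e3 hact
  have hA1 : A = 1 := by
    refine T.eq_one_of_normalizes' hA fun z hz => ?_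
    have h1 := (T.act_n i).inv.conj_mem hz
    rw [R.sW_inv, R.sW_val, R.s_neg_p] at h1
    have h2 := T.h_conj _ (inv_mem hk) _ _ h1
    have h3 := (T.X _).mul_mem ((T.X _).mul_mem (inv_mem hB) h2) hB
    have h4 := hact.conj_mem (T.h_conj _ (inv_mem hh') _ _ h3)
    rw [R.sW_val, R.s_p, e3] at h4
    convert h4 using 1
    group
  have hB1 : B' = 1 := by
    refine T.eq_one_of_normalizes' hB fun z hz => ?_
    have h1 := (((T.act_H (inv_mem hk)).mul (T.act_n i).inv).mul hact).mul (T.act_H (inv_mem hh'))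
    rw [one_mul, inv_mul_cancel, one_mul] at h1
    have h2 := h1.conj_mem hz
    rw [e3, hA1, R.one_apply] at h2
    convert h2 using 1
    group
  rw [e3, hA1, hB1]
  convert T.H.mul_mem hk hh' using 1
  group

theorem exists_split_word (i : ι) (l : List ι)
    (h : ¬ R.pos (((H67.wp R.sW l)⁻¹).1 (R.p i))) :
    ∃ (l₁ l₂ : List ι) (j : ι), l = l₁ ++ j :: l₂ ∧ (H67.wp R.sW l₁).1 (R.p j) = R.p i := by
  induction l using List.reverseRecOn with
  | nil => exact absurd (by simpa only [H67.wp_nil, inv_one, R.one_apply] using R.pos_p i) h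
  | append_singleton u j ih =>
    by_cases hc : R.pos (((H67.wp R.sW u)⁻¹).1 (R.p i))
    · refine ⟨u, [], j, rfl, ?_⟩
      rw [H67.wp_append, H67.wp_singleton, mul_inv_rev, R.sW_inv, R.mul_apply] at h
      rw [← R.eq_p_of_s_not_pos hc h, R.apply_inv_apply]
    · obtain ⟨l₁, l₂, k, rfl, hk⟩ := ih hc
      exact ⟨l₁, l₂ ++ [j], k, by simp, hk⟩

theorem nw_mem_H (l : List ι) (hl : H67.wp R.sW l = 1) : T.nw l ∈ T.H := by
  induction hn : l.length using Nat.strong_induction_on generalizing l with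
  | _ n ih =>
    cases l with
    | nil => simp
    | cons i l =>
      rw [H67.wp_cons, mul_eq_one_iff_inv_eq, R.sW_inv] at hl
      obtain ⟨l₁, l₂, j, rfl, hj⟩ := exists_split_word (R := R) i l (by
        rw [← hl, R.sW_inv, R.sW_val, R.s_p]; exact R.not_pos_neg_p i)
      have h1 : H67.wp R.sW (l₁ ++ l₂) = 1 := by
        rw [H67.wp_append, H67.wp_cons, ← mul_assoc, R.conjW _ hj, mul_assoc, left_eq_mul] at hl
        rw [H67.wp_append, hl]
      have h2 := ih _ (by simp at hn ⊢; omega) _ h1 rfl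
      have h3 := T.conj_n (T.nw_mem_N l₁) (T.act_nw l₁) hj
      have := T.H.mul_mem (T.H.mul_mem (T.n_sq i) h3) h2
      convert this using 1
      simp only [nw, H67.wp_cons, H67.wp_append]
      group

theorem mem_H_of_act_one {g : G} (hg : g ∈ T.N) (h1 : T.Act g 1) : g ∈ T.H := by
  obtain ⟨l, h, hh, rfl⟩ := T.mem_N_iff.1 hg
  have := ((T.act_nw l).mul (T.act_H hh)).unique h1
  rw [mul_one] at this
  exact T.H.mul_mem (T.nw_mem_H l this) hh

theorem inv_mul_mem_H {g g' : G} (hg : g ∈ T.N) (hg' : g' ∈ T.N) {w : R.W} (h : T.Act g w)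
    (h' : T.Act g' w) : g⁻¹ * g' ∈ T.H :=
  T.mem_H_of_act_one (T.N.mul_mem (inv_mem hg) hg') (by simpa using h.inv.mul h')

/-- The homomorphism `N → W`. -/
noncomputable def piN : T.N →* R.W :=
  MonoidHom.mk' (fun g => (T.exists_act g.2).choose) fun a b =>
    (T.exists_act (a * b).2).choose_spec.unique
      ((T.exists_act a.2).choose_spec.mul (T.exists_act b.2).choose_spec)

theorem act_piN (g : T.N) : T.Act g (T.piN g) := (T.exists_act g.2).choose_spec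

theorem piN_eq_iff {g : T.N} {w : R.W} : T.piN g = w ↔ T.Act g w :=
  ⟨fun h => h ▸ T.act_piN g, fun h => (T.act_piN g).unique h⟩

theorem piN_surjective : Function.Surjective T.piN := fun w => by
  obtain ⟨g, hg, h⟩ := T.exists_mem_N_act w
  exact ⟨⟨g, hg⟩, T.piN_eq_iff.2 h⟩

theorem piN_ker : T.piN.ker = T.H.subgroupOf T.N := by
  ext g
  rw [MonoidHom.mem_ker, piN_eq_iff, Subgroup.mem_subgroupOf]
  exact ⟨T.mem_H_of_act_one g.2, T.act_H⟩

theorem piN_n (i : ι) : T.piN ⟨T.n i, T.n_mem_N i⟩ = R.sW i := T.piN_eq_iff.2 (T.act_n i)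

end RGD

end H64
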