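import Cfsg.Agent.H64.RGDLevi
import Cfsg.Agent.S0319

/-! Root group data: the (B,N)-pair and the simplicity criterion. -/

set_option autoImplicit false
set_option linter.unusedSectionVars false

namespace H64

namespace RGD

variable {Φ ι : Type*} {R : WData Φ ι} {G : Type*} [Group G] (T : RGD R G) [Finite Φ]

theorem n_injective : Function.Injective T.n := fun i j h =>
  R.sW_injective ((T.act_n i).unique (h ▸ T.act_n j))

theorem cell_iff_doubleCoset {w : R.W} {m : G} (hm : m ∈ T.N) (hw : T.Act m w) {g : G} :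
    T.Cell w g ↔ g ∈ DoubleCoset.doubleCoset m (T.B : Set G) T.B := by
  rw [DoubleCoset.mem_doubleCoset]
  exact ⟨fun h => h.exists_eq hm hw, fun ⟨b, hb, b', hb', e⟩ => ⟨b, hb, m, hm, b', hb', hw, e⟩⟩

/-- The (B,N)-pair of the group generated by the root subgroups and the torus. -/
def bnPair (K : Subgroup G) (hK : K = T.Gp) : Cfsg.BNPair K where
  B := T.B.subgroupOf K
  N := T.N.subgroupOf K
  S := {g | ∃ i, (g : G) = T.n i}
  sup_eq_top := by
    subst hK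
    rw [← Subgroup.subgroupOf_sup T.B_le_Gp T.N_le_Gp, T.B_sup_N, Subgroup.subgroupOf_self]
  conj_mem n hn t ht := T.H_le_B (T.conj_H hn (T.mem_H_of_mem_B_N ht.1 ht.2))
  subset := by
    rintro g ⟨i, hi⟩
    change (g : G) ∈ T.N
    rw [hi]; exact T.n_mem_N i
  sq_mem := by
    rintro g ⟨i, hi⟩
    change (g : G) * g ∈ T.B
    rw [hi]; exact T.H_le_B (T.n_sq i)
  inj := by
    rintro g ⟨i, hi⟩ g' ⟨j, hj⟩ h
    change (g : G)⁻¹ * g' ∈ T.B at h
    rw [hi, hj] at h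
    have := T.eq_one_of_act_of_mem_B h ((T.act_n i).inv.mul (T.act_n j))
    rw [inv_mul_eq_one] at this
    exact Subtype.ext (by rw [hi, hj, R.sW_injective this])
  closure_sup := by
    subst hK
    apply Subgroup.map_injective T.Gp.subtype_injective
    have e : T.B.subgroupOf T.Gp ⊓ T.N.subgroupOf T.Gp = T.H.subgroupOf T.Gp := by
      rw [← T.B_inf_N]; rfl
    rw [Subgroup.map_sup, MonoidHom.map_closure, e,
      Subgroup.map_subgroupOf_eq_of_le T.H_le_Gp, Subgroup.map_subgroupOf_eq_of_le T.N_le_Gp,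
      sup_comm, N]
    congr 2
    ext g
    constructor
    · rintro ⟨g, ⟨i, hi⟩, rfl⟩; exact ⟨i, hi.symm⟩
    · rintro ⟨i, rfl⟩; exact ⟨⟨_, T.n_mem_Gp i⟩, ⟨i, rfl⟩, rfl⟩
  mul_mem_union := by
    subst hK
    rintro s ⟨i, hi⟩ n hn b hb
    obtain ⟨w, hw⟩ := T.exists_act hn
    have h1 := ((hw.cell hn).mul_left hb).n_mul i
    rw [← hi] at h1
    simp only [Set.mem_union, DoubleCoset.mem_doubleCoset]
    rcases h1 with h1 | h1
    · left
      obtain ⟨c, hc, c', hc', e⟩ := h1.exists_eq (T.N.mul_mem (T.n_mem_N i) hn) ((T.act_n i).mul hw)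
      exact ⟨⟨c, T.B_le_Gp hc⟩, hc, ⟨c', T.B_le_Gp hc'⟩, hc', Subtype.ext (by
        simpa [hi, mul_assoc] using e)⟩
    · right
      obtain ⟨c, hc, c', hc', e⟩ := h1.exists_eq hn hw
      exact ⟨⟨c, T.B_le_Gp hc⟩, hc, ⟨c', T.B_le_Gp hc'⟩, hc', Subtype.ext (by
        simpa [mul_assoc] using e)⟩
  conj_ne := by
    subst hK
    rintro s ⟨i, hi⟩ h
    have : T.X ((R.sW i).1 (R.p i)) ≤ T.B := by
      rw [← (T.act_n i).map_X]
      rintro _ ⟨x, hx, rfl⟩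
      have h1 : s * ⟨x, T.X_le_Gp _ hx⟩ * s ∈ ((T.B.subgroupOf T.Gp : Subgroup T.Gp) : Set T.Gp) := by
        rw [← h]
        exact ⟨⟨x, T.X_le_Gp _ hx⟩, T.U_le_B (T.X_le_U (R.pos_p i) hx), rfl⟩
      have h2 : (s : G) * x * s ∈ T.B := h1
      have := T.B.mul_mem h2 (T.H_le_B (inv_mem (T.n_sq i)))
      rw [hi] at this
      convert this using 1
      simp only [MulEquiv.toMonoidHom_eq_coe, MonoidHom.coe_coe, MulAut.conj_apply]
      group
    have := T.pos_of_X_le_B this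
    rw [R.sW_val, R.s_p] at this
    exact R.not_pos_neg_p i this

theorem bnPair_B (K : Subgroup G) (hK : K = T.Gp) : (T.bnPair K hK).B = T.B.subgroupOf K := rfl
theorem bnPair_N (K : Subgroup G) (hK : K = T.Gp) : (T.bnPair K hK).N = T.N.subgroupOf K := rfl
theorem bnPair_S (K : Subgroup G) (hK : K = T.Gp) :
    (T.bnPair K hK).S = {g : K | ∃ i, (g : G) = T.n i} := rfl

theorem bnPair_irreducible (K : Subgroup G) (hK : K = T.Gp)
    (hconn : ∀ J : Set ι, J.Nonempty → Jᶜ.Nonempty → ∃ i ∈ J, ∃ j ∉ J, R.s i * R.s j ≠ R.s j * R.s i) :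
    (T.bnPair K hK).Irreducible := by
  subst hK
  rintro J hJ ⟨s, hs⟩ ⟨s', hs', hs'J⟩
  obtain ⟨i0, hi0⟩ := hJ hs
  obtain ⟨j0, hj0⟩ := hs'
  obtain ⟨i, hi, j, hj, hij⟩ := hconn {i | (⟨T.n i, T.n_mem_Gp i⟩ : T.Gp) ∈ J}
    ⟨i0, by rwa [Set.mem_ofPred_eq, ← Subtype.ext (a1 := s) (a2 := ⟨_, T.n_mem_Gp i0⟩) hi0]⟩
    ⟨j0, by rwa [Set.mem_compl_iff, Set.mem_ofPred_eq,
      ← Subtype.ext (a1 := s') (a2 := ⟨_, T.n_mem_Gp j0⟩) hj0]⟩
  refine ⟨_, hi, ⟨T.n j, T.n_mem_Gp j⟩, ⟨⟨j, rfl⟩, hj⟩, fun h => hij ?_⟩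
  have h1 : T.n i * T.n j * (T.n i)⁻¹ * (T.n j)⁻¹ ∈ T.B := h
  have := T.eq_one_of_act_of_mem_B h1
    ((((T.act_n i).mul (T.act_n j)).mul (T.act_n i).inv).mul (T.act_n j).inv)
  rw [mul_inv_eq_one, mul_inv_eq_iff_eq_mul] at this
  exact congrArg Subtype.val this

theorem normalCore_B_eq_bot (K : Subgroup G) (hK : K = T.Gp)
    (hcent : ∀ h ∈ T.H, (∀ r, ∀ x ∈ T.X r, h * x = x * h) → h = 1) :
    (T.B.subgroupOf K).normalCore = ⊥ := by
  subst hK
  refine eq_bot_iff.2 fun g hg => ?_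
  have := T.mem_H_and_comm_of_conj_mem_B (g := g) fun y hy => hg ⟨y, hy⟩
  exact Subtype.ext (hcent _ this.1 this.2)

theorem isSolvable_B (hU : Group.IsSolvable T.U) (hH : Group.IsSolvable T.H) :
    Group.IsSolvable T.B := by
  have hn : (T.U.subgroupOf T.B).Normal := ⟨fun u hu b => T.B_conj_U b.2 hu⟩
  let f := (QuotientGroup.mk' (T.U.subgroupOf T.B)).comp (Subgroup.inclusion T.H_le_B)
  have hf : Function.Surjective f := by
    intro q
    obtain ⟨⟨b, hb⟩, rfl⟩ := QuotientGroup.mk'_surjective _ q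
    obtain ⟨h, hh, u, hu, rfl⟩ := T.mem_B'.1 hb
    refine ⟨⟨h, hh⟩, ?_⟩
    simp only [f, MonoidHom.comp_apply, QuotientGroup.mk'_apply, QuotientGroup.eq]
    simpa [Subgroup.mem_subgroupOf] using hu
  have h1 := Group.isSolvable_of_surjective hf
  have h2 : Group.IsSolvable (T.U.subgroupOf T.B) :=
    Group.isSolvable_of_surjective (f := (Subgroup.subgroupOfEquivOfLe T.U_le_B).symm.toMonoidHom)
      (MulEquiv.surjective _)
  exact Group.isSolvable_of_ker_le_range (T.U.subgroupOf T.B).subtype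
    (QuotientGroup.mk' (T.U.subgroupOf T.B)) (by simp)

theorem nontrivial_Gp [Nonempty ι] : Nontrivial T.Gp := by
  obtain ⟨i⟩ := ‹Nonempty ι›
  obtain ⟨x, hx, hx1⟩ := T.nontriv i
  exact ⟨⟨⟨x, T.X_le_Gp _ hx⟩, 1, fun h => hx1 (congrArg Subtype.val h)⟩⟩

theorem not_isMulCommutative [Nonempty ι] : ¬ IsMulCommutative T.Gp := by
  intro hc
  obtain ⟨i⟩ := ‹Nonempty ι›
  obtain ⟨x, hx, hx1⟩ := T.nontriv i
  have h1 := T.n_conj i _ x hx
  have h2 : T.n i * x = x * T.n i :=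
    congrArg Subtype.val (hc.is_comm.comm (⟨_, T.n_mem_Gp i⟩ : T.Gp) ⟨x, T.X_le_Gp _ hx⟩)
  rw [R.s_p, h2, mul_inv_cancel_right] at h1
  exact hx1 (T.eq_one_of_mem_X (R.pos_p i) (R.not_pos_neg_p i) hx h1)

/-- Tits' simplicity criterion for root group data. -/
theorem isSimpleGroup [Nonempty ι] (K : Subgroup G) (hK : K = T.Gp)
    (hconn : ∀ J : Set ι, J.Nonempty → Jᶜ.Nonempty → ∃ i ∈ J, ∃ j ∉ J, R.s i * R.s j ≠ R.s j * R.s i)
    (hB : Group.IsSolvable T.B) (hperf : commutator K = ⊤)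
    (hcent : ∀ h ∈ T.H, (∀ r, ∀ x ∈ T.X r, h * x = x * h) → h = 1) :
    IsSimpleGroup K ∧ ¬ IsMulCommutative K := by
  subst hK
  have := T.nontrivial_Gp
  refine ⟨Cfsg.Agent.S0319.result (T.bnPair _ rfl) (T.bnPair_irreducible _ rfl hconn) ?_ hperf
    (T.normalCore_B_eq_bot _ rfl hcent), T.not_isMulCommutative⟩
  exact Group.isSolvable_of_surjective (f := (Subgroup.subgroupOfEquivOfLe T.B_le_Gp).symm.toMonoidHom)
    (MulEquiv.surjective _)

end RGD

end H64
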