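import Cfsg.Agent.H64.SFTab

/-! STD-F4: root elements of `X`, Weyl words, the torus, the graph automorphism, `Mir`. -/

set_option autoImplicit false
set_option linter.unusedSectionVars false
set_option synthInstance.maxSize 2000

namespace H64.SF

open Cfsg.Lie H63 H65 H64 Subgroup
open H64.SG (O2 Syl Cz Cs Ns cjs Is2 Inv2 IsO2 fx Cov mem_Cs mem_Cz)
open H67.SA (St cI cm)
open H59.SO (NS AutOn Ind B1 B0 CE CW twe range_twe)
open H86.WR (XF US UF4)
open H46.SF (sh)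
open H68 (rhoF4 expF4)

universe u

section X

variable {F : Type} [Field F] [CharP F 2]

theorem stB : StB chevF4 (xG chevF4 F) := H86.F4.stB F
theorem st : H64.St chevF4 (xG chevF4 F) := stB.toStN.toSt

theorem x_add {r : ℕ} (hr : r < 48) (a b : F) : x F r a * x F r b = x F r (a + b) := st.add r hr a b
theorem x_zero {r : ℕ} (hr : r < 48) : x F r 0 = 1 := st.x_zero ⟨r, hr⟩
theorem x_sq {r : ℕ} (hr : r < 48) (a : F) : x F r a * x F r a = 1 := by
  rw [x_add hr, CharTwo.add_self_eq_zero, x_zero hr]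
theorem x_inv {r : ℕ} (hr : r < 48) (a : F) : (x F r a)⁻¹ = x F r a :=
  inv_eq_of_mul_eq_one_right (x_sq hr a)
theorem x_c0 {r s : ℕ} (hr : r < 48) (hs : s < 48) (e : 0 ≤ ip r s) (a b : F) :
    x F r a * x F s b = x F s b * x F r a := st_c0 st hr hs e a b
theorem x_c1 {r s : ℕ} (hr : r < 48) (hs : s < 48) (e1 : sh r = sh s) (e2 : ip r s < 0)
    (e3 : s ≠ 47 - r) (a b : F) : cm (x F r a) (x F s b) = x F (ad r s) (a * b) :=
  st_c1 st hr hs e1 e2 e3 a b
theorem x_c2 {r l : ℕ} (hr : S r) (hl : L l) (e : ip r l < 0) (a b : F) :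
    cm (x F r a) (x F l b) = x F (ad r l) (a * b) * x F (ad r (ad r l)) (a ^ 2 * b) :=
  st_c2 st hr hl e a b

/-- For numerals. -/
theorem c0' (r s : ℕ) (a b : F) (e : r < 48 ∧ s < 48 ∧ 0 ≤ ip r s := by decide +kernel) :
    x F r a * x F s b = x F s b * x F r a := x_c0 e.1 e.2.1 e.2.2 a b
theorem c1' (r s v : ℕ) (a b : F) (e : r < 48 ∧ s < 48 ∧ sh r = sh s ∧ ip r s < 0 ∧ s ≠ 47 - r ∧
    ad r s = v := by decide +kernel) : cm (x F r a) (x F s b) = x F v (a * b) :=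
  e.2.2.2.2.2 ▸ x_c1 e.1 e.2.1 e.2.2.1 e.2.2.2.1 e.2.2.2.2.1 a b
theorem c2' (r l v w : ℕ) (a b : F) (e : S r ∧ L l ∧ ip r l < 0 ∧ ad r l = v ∧ ad r v = w := by
    decide +kernel) : cm (x F r a) (x F l b) = x F v (a * b) * x F w (a ^ 2 * b) := by
  obtain ⟨h1, h2, h3, rfl, rfl⟩ := e
  exact x_c2 h1 h2 h3 a b

theorem n_eq {s : ℕ} (hs : s < 48) : n F s = x F s 1 * x F (47 - s) 1 * x F s 1 := by
  rw [n, nn_eq, neg_eq s hs]; simp [CharTwo.neg_eq]

theorem n_conj {s r : ℕ} (hs : s < 48) (hr : r < 48) (a : F) :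
    n F s * x F r a * (n F s)⁻¹ = x F (rf s r) a := by
  have := H64.SG.nn_conj2 (stB (F := F)).toStN ⟨s, hs⟩ ⟨r, hr⟩ a
  rwa [show refl (D := chevF4) ⟨s, hs⟩ ⟨r, hr⟩ = ⟨rf s r, (rf_lt s hs r hr).1⟩ from rt_inj (by
    rw [rt_refl]; funext i; exact (rf_rt s hs r hr i i.2).symm)] at this

theorem h_conj {s r : ℕ} (hs : s < 48) (hr : r < 48) {l : F} (hl : l ≠ 0) (a : F) :
    h F s l * x F r a * (h F s l)⁻¹ = x F r (l ^ (2 * ip s r / ip s s) * a) := by
  rw [← pairing_eq s hs r hr]; exact (stB (F := F)).toStN.hh_conj ⟨s, hs⟩ ⟨r, hr⟩ hl a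

theorem mem_top' {K : Subgroup (XF F)} (h : ∀ r < 48, ∀ a, x F r a ∈ K) (g : XF F) : g ∈ K :=
  GG_le (x := xG chevF4 F) (K := K) (fun r => h r r.2) (GG_xG (D := chevF4) (F := F) ▸ mem_top g)

theorem hom_ext {G : Type*} [Group G] {φ ψ : XF F →* G}
    (h : ∀ r < 48, ∀ a, φ (x F r a) = ψ (x F r a)) : φ = ψ := H46.SF.hom_ext_xG h

theorem x_mem {l : List ℕ} {r : ℕ} (hr : r ∈ l) (h : r < 48) (a : F) : x F r a ∈ US F l :=
  H86.F4.x_mem (x := xG chevF4 F) hr h a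

theorem US_le {l : List ℕ} {K : Subgroup (XF F)} (h : ∀ r ∈ l, r < 48 → ∀ a, x F r a ∈ K) :
    US F l ≤ K := H64.SG.gen_le_iff.2 fun r hr a => h r hr r.2 a

theorem US_mono {l l' : List ℕ} (h : ∀ r ∈ l, r ∈ l') : US F l ≤ US F l' :=
  H86.F4.GS_mono (x := xG chevF4 F) h

theorem mem_Z {r : ℕ} (hr : r < 48) {g : XF F} : g ∈ Z F r ↔ ∃ c, g = x F r c := by
  refine ⟨fun hg => ?_, by rintro ⟨c, rfl⟩; exact x_mem (by simp) hr c⟩
  refine (st.mem_XR (r := ⟨r, hr⟩)).1 (US_le (fun s hs _ a => ?_) hg)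
  obtain rfl : s = r := by simpa using hs
  exact x_mem_XR _ _ (⟨s, hr⟩ : H63.Rt chevF4) a

theorem mem_Cs_US {G : Type*} [Group G] {e : XF F →* G} {l : List ℕ} {g : G} :
    g ∈ Cs ((US F l).map e) ↔ ∀ r ∈ l, r < 48 → ∀ a, e (x F r a) * g = g * e (x F r a) := by
  refine ⟨fun h r hr h1 a => mem_Cs.1 h _ (mem_map_of_mem e (x_mem hr h1 a)), fun h => ?_⟩
  have : (US F l).map e ≤ Cz g := map_le_iff_le_comap.2 (US_le fun r hr h1 a =>
    mem_Cz.2 (h r hr h1 a).symm)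
  exact mem_Cs.2 fun a ha => (mem_Cz.1 (this ha)).symm

/-! ### Weyl words -/

variable (F) in
/-- The product of the `n_s(1)`, `s ∈ w`. -/
noncomputable def nW (w : List ℕ) : XF F := (w.map (n F)).prod
/-- The action of a word on the roots. -/
def act (w : List ℕ) (r : ℕ) : ℕ := w.foldr rf r
/-- A word in roots. -/
abbrev Wd (w : List ℕ) : Prop := ∀ s ∈ w, s < 48

@[simp] theorem nW_nil : nW F [] = 1 := rfl
@[simp] theorem nW_cons (s : ℕ) (w : List ℕ) : nW F (s :: w) = n F s * nW F w := by simp [nW]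
theorem nW_append (v w : List ℕ) : nW F (v ++ w) = nW F v * nW F w := by simp [nW]
@[simp] theorem act_nil (r : ℕ) : act [] r = r := rfl
@[simp] theorem act_cons (s : ℕ) (w : List ℕ) (r : ℕ) : act (s :: w) r = rf s (act w r) := rfl
theorem act_append (v w : List ℕ) (r : ℕ) : act (v ++ w) r = act v (act w r) := by simp [act]

theorem act_lt {w : List ℕ} (hw : Wd w) {r : ℕ} (hr : r < 48) : act w r < 48 ∧ sh (act w r) = sh r := by
  induction w with
  | nil => exact ⟨hr, rfl⟩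
  | cons s w ih =>
    have h1 := ih fun v hv => hw v (List.mem_cons_of_mem _ hv)
    have h2 := rf_lt s (hw s List.mem_cons_self) _ h1.1
    exact ⟨h2.1, h2.2.2.1.trans h1.2⟩

theorem ip_act {w : List ℕ} (hw : Wd w) {a b : ℕ} (ha : a < 48) (hb : b < 48) :
    ip (act w a) (act w b) = ip a b := by
  induction w with
  | nil => rfl
  | cons s w ih =>
    have h1 : Wd w := fun v hv => hw v (List.mem_cons_of_mem _ hv)
    rw [act_cons, act_cons, ip_rf (hw s List.mem_cons_self) (act_lt h1 ha).1 (act_lt h1 hb).1, ih h1]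

theorem ad_act {w : List ℕ} (hw : Wd w) {a b : ℕ} (ha : a < 48) (hb : b < 48) (h : ad a b < 48) :
    ad (act w a) (act w b) = act w (ad a b) := by
  induction w with
  | nil => rfl
  | cons s w ih =>
    have h1 : Wd w := fun v hv => hw v (List.mem_cons_of_mem _ hv)
    rw [act_cons, act_cons, ad_rf (hw s List.mem_cons_self) (act_lt h1 ha).1 (act_lt h1 hb).1
      (by rw [ih h1]; exact (act_lt h1 h).1), ih h1, act_cons]

theorem act_reverse {w : List ℕ} (hw : Wd w) {r : ℕ} (hr : r < 48) : act w.reverse (act w r) = r := by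
  induction w with
  | nil => rfl
  | cons s w ih =>
    have h1 : Wd w := fun v hv => hw v (List.mem_cons_of_mem _ hv)
    rw [List.reverse_cons, act_append, act_cons, act_cons, act_nil,
      (rf_lt s (hw s List.mem_cons_self) _ (act_lt h1 hr).1).2.1, ih h1]

theorem Wd.reverse {w : List ℕ} (hw : Wd w) : Wd w.reverse := fun s hs => hw s (List.mem_reverse.1 hs)

theorem Wd.append {v w : List ℕ} (hv : Wd v) (hw : Wd w) : Wd (v ++ w) :=
  fun s hs => (List.mem_append.1 hs).elim (hv s) (hw s)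

theorem nW_conj {w : List ℕ} (hw : Wd w) {r : ℕ} (hr : r < 48) (a : F) :
    nW F w * x F r a * (nW F w)⁻¹ = x F (act w r) a := by
  induction w with
  | nil => simp
  | cons s w ih =>
    have h1 : Wd w := fun v hv => hw v (List.mem_cons_of_mem _ hv)
    rw [nW_cons, act_cons, ← n_conj (hw s List.mem_cons_self) (act_lt h1 hr).1, ← ih h1]; group

theorem cjs_US {w : List ℕ} (hw : Wd w) {l l' : List ℕ} (h : ∀ r < 48, r ∈ l ↔ act w r ∈ l') :
    cjs (nW F w) (US F l) = US F l' := by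
  refine le_antisymm (map_le_iff_le_comap.2 (US_le fun r hr h1 a => ?_)) (US_le fun r hr h1 a => ?_)
  · change nW F w * x F r a * (nW F w)⁻¹ ∈ US F l'
    rw [nW_conj hw h1]; exact x_mem ((h r h1).1 hr) (act_lt hw h1).1 a
  · have h2 := (act_lt hw.reverse h1).1
    have h3 : act w (act w.reverse r) = r := by simpa using act_reverse hw.reverse h1
    refine ⟨x F (act w.reverse r) a, x_mem ((h _ h2).2 (by rwa [h3])) h2 a, ?_⟩
    change nW F w * _ * (nW F w)⁻¹ = _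
    rw [nW_conj hw h2, h3]

theorem act_inj {w : List ℕ} (hw : Wd w) {a b : ℕ} (ha : a < 48) (hb : b < 48) :
    act w a = act w b ↔ a = b :=
  ⟨fun e => by rw [← act_reverse hw ha, e, act_reverse hw hb], fun e => e ▸ rfl⟩

theorem cjs_Z {w : List ℕ} (hw : Wd w) {r : ℕ} (hr : r < 48) : cjs (nW F w) (Z F r) = Z F (act w r) :=
  cjs_US hw fun s hs => by simp [act_inj hw hs hr]
theorem cjs_P {w : List ℕ} (hw : Wd w) {r : ℕ} (hr : r < 48) : cjs (nW F w) (P F r) = P F (act w r) :=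
  cjs_US hw fun s hs => by simp [mem_lP, hs, (act_lt hw hs).1, ip_act hw hr hs]
theorem cjs_Q {w : List ℕ} (hw : Wd w) {r : ℕ} (hr : r < 48) : cjs (nW F w) (Q F r) = Q F (act w r) :=
  cjs_US hw fun s hs => by simp [mem_lQ, hs, (act_lt hw hs).1, ip_act hw hr hs]
theorem cjs_Y {w : List ℕ} (hw : Wd w) {r : ℕ} (hr : r < 48) : cjs (nW F w) (Y F r) = Y F (act w r) :=
  cjs_US hw fun s hs => by
    simp [mem_lY, hs, (act_lt hw hs).1, (act_lt hw hs).2, (act_lt hw hr).2, ip_act hw hr hs]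
theorem cjs_V {w : List ℕ} (hw : Wd w) {r : ℕ} (hr : r < 48) : cjs (nW F w) (V F r) = V F (act w r) :=
  cjs_US hw fun s hs => by
    simp [mem_lV, hs, (act_lt hw hs).1, (act_lt hw hs).2, (act_lt hw hr).2, ip_act hw hr hs,
      act_inj hw hs hr]

/-- A word in the simple roots that carries the dominant root of the length of `r` to `r`. -/
def wd0 (r : ℕ) : List ℕ :=
  [[24, 25, 27, 33, 25, 27, 24, 25, 27, 33, 24, 25, 27, 25, 24], [25, 27, 33, 25, 27, 24, 25, 27,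
   33, 24, 25, 27, 25, 24], [27, 33, 25, 27, 24, 25, 27, 33, 24, 25, 27, 25, 24], [33, 27, 25,
   27, 24, 25, 27, 33, 27, 25, 27, 24, 25, 27, 33], [33, 25, 27, 24, 25, 27, 33, 24, 25, 27, 25,
   24], [33, 27, 24, 25, 27, 33, 24, 25, 27, 25, 24], [33, 27, 25, 27, 33, 24, 25, 27, 25, 24],
   [27, 25, 27, 24, 25, 27, 33, 27, 25, 27, 24, 25, 27, 33], [25, 27, 24, 25, 27, 33, 27, 25,
   27, 24, 25, 27, 33], [27, 24, 25, 27, 33, 27, 25, 27, 24, 25, 27, 33], [27, 25, 27, 33, 27,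
   25, 27, 24, 25, 27, 33], [24, 25, 27, 33, 27, 25, 27, 24, 25, 27, 33], [25, 27, 33, 27, 25,
   27, 24, 25, 27, 33], [27, 33, 27, 25, 27, 24, 25, 27, 33], [33, 27, 25, 27, 24, 25, 27, 33],
   [25, 27, 24, 25, 27, 33, 24, 25, 27, 25, 24], [27, 24, 25, 27, 33, 24, 25, 27, 25, 24], [27,
   25, 27, 33, 24, 25, 27, 25, 24], [24, 25, 27, 33, 25, 27, 24, 25, 27, 33], [25, 27, 33, 25,
   27, 24, 25, 27, 33], [27, 33, 25, 27, 24, 25, 27, 33], [24, 25, 27, 33, 24, 25, 27, 25, 24],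
   [25, 27, 33, 24, 25, 27, 25, 24], [24, 25, 27, 33, 25, 27, 25, 24], [25, 27, 33, 25, 27, 25,
   24], [27, 33, 24, 25, 27, 25, 24], [27, 33, 25, 27, 25, 24], [33, 25, 27, 24, 25, 27, 33],
   [33, 27, 24, 25, 27, 33], [33, 27, 25, 27, 33], [33, 24, 25, 27, 25, 24], [33, 25, 27, 25,
   24], [33, 27, 25, 24], [27, 25, 27, 24, 25, 27, 33], [25, 27, 24, 25, 27, 33], [27, 24, 25,
   27, 33], [27, 25, 27, 33], [24, 25, 27, 33], [25, 27, 33], [27, 33], [33], [24, 25, 27, 25,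
   24], [25, 27, 25, 24], [27, 25, 24], [], [25, 24], [24], []].getD r []

theorem wd0_spec : ∀ r < 48, (∀ s ∈ wd0 r, s ∈ [24, 25, 27, 33]) ∧ Wd (wd0 r) ∧
    act (wd0 r) (if sh r then 44 else 47) = r := by decide +kernel

/-- The reflection in `s` as a word in the simple roots. -/
def wdS (s : ℕ) : List ℕ :=
  [[24, 25, 27, 33, 25, 27, 24, 25, 25, 25, 24, 27, 25, 33, 27, 25, 24], [25, 27, 33, 25, 27, 24,
   25, 25, 25, 24, 27, 25, 33, 27, 25], [27, 33, 25, 27, 24, 25, 25, 25, 24, 27, 25, 33, 27],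
   [33, 27, 25, 27, 33, 24, 25, 27, 27, 27, 25, 24, 33, 27, 25, 27, 33], [33, 25, 27, 24, 25,
   25, 25, 24, 27, 25, 33], [33, 27, 24, 25, 25, 25, 24, 27, 33], [33, 27, 25, 25, 25, 27, 33],
   [27, 25, 27, 33, 24, 25, 27, 27, 27, 25, 24, 33, 27, 25, 27], [25, 27, 33, 24, 25, 27, 27,
   27, 25, 24, 33, 27, 25], [27, 33, 24, 25, 27, 27, 27, 25, 24, 33, 27], [27, 33, 25, 27, 27,
   27, 25, 33, 27], [33, 24, 25, 27, 27, 27, 25, 24, 33], [33, 25, 27, 27, 27, 25, 33], [33, 27,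
   27, 27, 33], [27, 33, 27, 27, 27, 33, 27], [25, 27, 24, 25, 25, 25, 24, 27, 25], [27, 24, 25,
   25, 25, 24, 27], [27, 25, 25, 25, 27], [24, 25, 27, 27, 27, 25, 24], [25, 27, 27, 27, 25],
   [27, 27, 27], [24, 25, 25, 25, 24], [25, 25, 25], [24, 25, 24, 25, 24, 25, 24], [25, 24, 25,
   24, 25], [25], [24, 25, 24], [27], [25, 27, 25], [24, 25, 27, 25, 24], [27, 25, 27], [27, 24,
   25, 24, 27], [25, 27, 24, 25, 24, 27, 25], [27, 33, 27, 33, 27], [33, 27, 33], [33, 25, 27,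
   25, 33], [33, 24, 25, 27, 25, 24, 33], [27, 33, 25, 27, 25, 33, 27], [27, 33, 24, 25, 27, 25,
   24, 33, 27], [25, 27, 33, 24, 25, 27, 25, 24, 33, 27, 25], [27, 25, 27, 33, 24, 25, 27, 25,
   24, 33, 27, 25, 27], [33, 27, 25, 27, 33], [33, 27, 24, 25, 24, 27, 33], [33, 25, 27, 24, 25,
   24, 27, 25, 33], [33, 27, 25, 27, 33, 24, 25, 27, 25, 24, 33, 27, 25, 27, 33], [27, 33, 25,
   27, 24, 25, 24, 27, 25, 33, 27], [25, 27, 33, 25, 27, 24, 25, 24, 27, 25, 33, 27, 25], [24,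
   25, 27, 33, 25, 27, 24, 25, 24, 27, 25, 33, 27, 25, 24]].getD s []

theorem wdS_spec : ∀ s < 48, (∀ v ∈ wdS s, v ∈ [24, 25, 27, 33]) ∧ Wd (wdS s) ∧
    ((wdS s).countP sh % 2 = if sh s then 1 else 0) ∧
    ∀ r ∈ [24, 25, 27, 33], act (wdS s) r = rf s r := by decide +kernel

/-- `s * wd0 r = wd0 (rf s r) * stb s r` for `s` simple, `r` short. -/
def stb (s r : ℕ) : List ℕ :=
  ([[[], [], [], [24], [], [], [], [24], [24], [], [], [], [], [25], [25], [], [], [], [], [],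
   [25], [], [], [], [], [], [], [25], [], [], [], [], [], [25], [25], [], [], [], [], [24],
   [24], [], [], [], [24], [], [], []], [[], [], [], [25], [], [], [], [25], [], [], [24], [25],
   [], [], [24], [], [], [], [25], [], [], [], [], [], [], [], [], [], [], [25], [], [], [],
   [24], [], [], [25], [24], [], [], [25], [], [], [], [25], [], [], []], [[], [], [], [27], [],
   [], [], [], [], [], [], [], [], [], [], [], [], [], [27], [27], [], [], [], [], [], [], [],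
   [], [27], [27], [], [], [], [], [], [], [], [], [], [], [], [], [], [], [27], [], [], []],
   [[], [], [], [], [], [], [], [], [27], [27], [27], [], [], [], [], [], [], [], [], [], [],
   [], [], [], [], [], [], [], [], [], [], [], [], [], [], [], [], [27], [27], [27], [], [], [],
   [], [], [], [], []]].getD
    ([24, 25, 27, 33].idxOf s) []).getD r []

theorem stb_spec : ∀ s ∈ [24, 25, 27, 33], ∀ r < 48, sh r = true → (∀ v ∈ stb s r, v ∈ [24, 25, 27]) ∧
    ∀ v ∈ [24, 25, 27, 33], act (s :: wd0 r) v = act (wd0 (rf s r) ++ stb s r) v := by decide +kernel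

theorem wd_of_simple {w : List ℕ} (h : ∀ s ∈ w, s ∈ [24, 25, 27, 33]) : Wd w := fun s hs => by
  have := h s hs
  simp only [List.mem_cons, List.not_mem_nil, or_false] at this
  omega

/-- A word is determined by its action on the simple roots. -/
theorem act_ext {v w : List ℕ} (hv : Wd v) (hw : Wd w) (h : ∀ r ∈ [24, 25, 27, 33], act v r = act w r) :
    ∀ r < 48, act v r = act w r := fun r hr => by
  have k : ∀ a < 48, ∀ b < 48, (∀ s ∈ [24, 25, 27, 33], ip a s = ip b s) → a = b := by decide +kernel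
  rw [← act_inj hw.reverse (act_lt hv hr).1 (act_lt hw hr).1, act_reverse hw hr]
  refine k _ (act_lt hw.reverse (act_lt hv hr).1).1 _ hr fun s hs => ?_
  have h1 : s < 48 := wd_of_simple (w := [s]) (by simpa using hs) s (by simp)
  rw [← ip_act hv hr h1, h s hs, ← ip_act hw.reverse (act_lt hv hr).1 (act_lt hw h1).1,
    act_reverse hw h1]

variable [Finite F]

theorem ns : NS (XF F) := H86.F4.ns F

theorem eq_of_conj {g g' : XF F} (h : ∀ r < 48, ∀ a, g * x F r a * g⁻¹ = g' * x F r a * g'⁻¹) :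
    g = g' := ns.conj_inj (MulEquiv.toMonoidHom_injective (hom_ext h))

/-- Words with the same action on the simple roots are equal. -/
theorem nW_ext {v w : List ℕ} (hv : Wd v) (hw : Wd w)
    (h : ∀ r ∈ [24, 25, 27, 33], act v r = act w r) : nW F v = nW F w :=
  eq_of_conj fun r hr a => by rw [nW_conj hv hr, nW_conj hw hr, act_ext hv hw h r hr]

theorem nW_inv {w : List ℕ} (hw : Wd w) : (nW F w)⁻¹ = nW F w.reverse := by
  refine inv_eq_of_mul_eq_one_left ?_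
  rw [← nW_append]
  exact nW_ext (w := []) (hw.reverse.append hw) (by simp [Wd]) fun r hr => by
    rw [act_append, act_reverse hw (wd_of_simple (w := [r]) (by simpa using hr) r (by simp)), act_nil]

theorem n_inv {s : ℕ} (hs : s < 48) : (n F s)⁻¹ = n F s := by
  simpa using nW_inv (F := F) (w := [s]) (by simp [Wd, hs])

theorem mem_NW {g : XF F} : g ∈ NW F ↔ ∃ w, Wd w ∧ g = nW F w := by
  constructor
  · intro hg
    induction hg using closure_induction with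
    | mem g hg => obtain ⟨r, hr, rfl⟩ := hg; exact ⟨[r], by simp [Wd, hr], by simp⟩
    | one => exact ⟨[], by simp [Wd], rfl⟩
    | mul a b _ _ ha hb =>
      obtain ⟨v, hv, rfl⟩ := ha
      obtain ⟨w, hw, rfl⟩ := hb
      exact ⟨v ++ w, hv.append hw, (nW_append v w).symm⟩
    | inv a _ ha => obtain ⟨v, hv, rfl⟩ := ha; exact ⟨_, hv.reverse, nW_inv hv⟩
  · rintro ⟨w, hw, rfl⟩
    exact list_prod_mem fun g hg => by
      obtain ⟨s, hs, rfl⟩ := List.mem_map.1 hg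
      exact subset_closure ⟨s, hw s hs, rfl⟩

theorem x_eq_one {r : ℕ} (hr : r < 48) {a : F} : x F r a = 1 ↔ a = 0 := by
  refine ⟨fun e => ?_, fun e => e ▸ x_zero hr⟩
  obtain ⟨-, h1, h2⟩ := wd0_spec r hr
  have h3 : (if sh r then 44 else 47) ∈ H86.F4.PP ∧ (if sh r then 44 else 47) < 48 := by
    split_ifs <;> decide
  rw [← h2, ← nW_conj h1 h3.2, conj_eq_one_iff] at e
  exact H86.F4.Nm.eq_zero stB (T := []) (by simp [H86.F4.Nm]) h3.1 (by simp)
    (show x F _ a ∈ _ from e ▸ one_mem _)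

theorem x_inj {r : ℕ} (hr : r < 48) {a b : F} (e : x F r a = x F r b) : a = b := by
  have : x F r (a + b) = 1 := by rw [← x_add hr, e, x_sq hr]
  rwa [x_eq_one hr, CharTwo.add_eq_zero] at this

theorem inv2_x {r : ℕ} (hr : r < 48) {a : F} (ha : a ≠ 0) : Inv2 (x F r a) :=
  ⟨x_sq hr a, fun e => ha ((x_eq_one hr).1 e)⟩

theorem n_eq_nW {s : ℕ} (hs : s < 48) : n F s = nW F (wdS s) := by
  have := nW_ext (F := F) (v := [s]) (by simp [Wd, hs]) (wdS_spec s hs).2.1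
    fun r hr => ((wdS_spec s hs).2.2.2 r hr).symm
  simpa using this

theorem mem_NW' {g : XF F} (hg : g ∈ NW F) : ∃ w, (∀ s ∈ w, s ∈ [24, 25, 27, 33]) ∧ g = nW F w := by
  obtain ⟨w, hw, rfl⟩ := mem_NW.1 hg
  induction w with
  | nil => exact ⟨[], by simp, rfl⟩
  | cons s w ih =>
    have h1 : Wd w := fun v hv => hw v (List.mem_cons_of_mem _ hv)
    obtain ⟨v, hv, e⟩ := ih h1 (mem_NW.2 ⟨w, h1, rfl⟩)
    have hs := hw s List.mem_cons_self
    exact ⟨wdS s ++ v, fun a ha => (List.mem_append.1 ha).elim ((wdS_spec s hs).1 a) (hv a), by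
      rw [nW_cons, nW_append, e, n_eq_nW hs]⟩

theorem n_mul_wd0 {s r : ℕ} (hs : s ∈ [24, 25, 27, 33]) (hr : S r) :
    n F s * nW F (wd0 r) = nW F (wd0 (rf s r)) * nW F (stb s r) := by
  have h1 : s < 48 := wd_of_simple (w := [s]) (by simpa using hs) s (by simp)
  obtain ⟨h2, h3⟩ := stb_spec s hs r hr.1 hr.2
  rw [← nW_cons, ← nW_append]
  refine nW_ext (fun v hv => ?_) ((wd0_spec _ (rf_lt s h1 r hr.1).1).2.1.append fun v hv => ?_) h3
  · rcases List.mem_cons.1 hv with rfl | hv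
    exacts [h1, (wd0_spec r hr.1).2.1 v hv]
  · have := h2 v hv
    simp only [List.mem_cons, List.not_mem_nil, or_false] at this
    omega

/-- Every word is `wd0 r` times a word in `24, 25, 27`. -/
theorem nW_split {w : List ℕ} (h : ∀ s ∈ w, s ∈ [24, 25, 27, 33]) :
    ∃ k, (∀ v ∈ k, v ∈ [24, 25, 27]) ∧ nW F w = nW F (wd0 (act w 44)) * nW F k := by
  induction w with
  | nil => exact ⟨[], by simp, by simp [show wd0 44 = [] from rfl]⟩
  | cons s w ih =>
    have h0 : ∀ v ∈ w, v ∈ [24, 25, 27, 33] := fun v hv => h v (List.mem_cons_of_mem _ hv)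
    obtain ⟨k, hk, e⟩ := ih h0
    have h1 : S (act w 44) := ⟨(act_lt (wd_of_simple h0) (by decide)).1,
      (act_lt (wd_of_simple h0) (by decide)).2.trans (by decide +kernel)⟩
    have hs := h s List.mem_cons_self
    refine ⟨stb s (act w 44) ++ k, fun v hv => (List.mem_append.1 hv).elim
      ((stb_spec s hs _ h1.1 h1.2).1 v) (hk v), ?_⟩
    rw [nW_cons, e, ← mul_assoc, n_mul_wd0 hs h1, nW_append, mul_assoc, act_cons]

theorem x_ne {r s : ℕ} (hr : r < 48) (hs : s < 48) {a b : F} (ha : a ≠ 0) (e : x F r a = x F s b) :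
    r = s := by
  by_contra h1
  have k : ∀ r < 48, ∀ s < 48, r ≠ s → ∃ v < 48, 0 ≤ ip s v ∧ ip r v < 0 ∧ v ≠ 47 - r ∧ sh r = sh v := by
    decide +kernel
  obtain ⟨v, hv, k1, k2, k3, k4⟩ := k r hr s hs h1
  have := x_c1 hr hv k4 k2 k3 a 1
  rw [e, cm, x_c0 hs hv k1] at this
  exact ha (by simpa using (x_eq_one ((ad_lt r hr v hv).1 ⟨k4, k2, k3⟩).1).1 (this.symm.trans (by group)))

theorem act_of_cjs {w : List ℕ} (hw : Wd w) {r s : ℕ} (hr : r < 48) (hs : s < 48)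
    (h : cjs (nW F w) (Z F r) = Z F s) : act w r = s := by
  rw [cjs_Z hw hr] at h
  obtain ⟨c, hc⟩ := (mem_Z hs).1 (h.le (x_mem (l := [act w r]) (by simp) (act_lt hw hr).1 (1 : F)))
  exact x_ne (act_lt hw hr).1 hs one_ne_zero hc

/-- The stabiliser of `X_σ` in the Weyl group. -/
theorem stab {g : XF F} (hg : g ∈ NW F) (h : cjs g (Z F 44) = Z F 44) :
    ∃ k, (∀ v ∈ k, v ∈ [24, 25, 27]) ∧ g = nW F k := by
  obtain ⟨w, hw, rfl⟩ := mem_NW' hg
  obtain ⟨k, hk, e⟩ := nW_split (F := F) hw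
  rw [act_of_cjs (wd_of_simple hw) (by decide) (by decide) h] at e
  exact ⟨k, hk, by simpa [show wd0 44 = [] from rfl] using e⟩

/-! ### The torus, classes of root elements -/

theorem tor {r : ℕ} (hr : r < 48) : ∃ v < 48, ∀ l : F, l ≠ 0 → ∀ a,
    h F v l * x F r a * (h F v l)⁻¹ = x F r (l * a) := by
  have k : ∀ r < 48, ∃ v < 48, 2 * ip v r / ip v v = 1 := by decide +kernel
  obtain ⟨v, hv, e⟩ := k r hr
  exact ⟨v, hv, fun l hl a => by rw [h_conj hv hr hl, e, zpow_one]⟩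

theorem h_mem_Ns {s : ℕ} (hs : s < 48) {l : F} (hl : l ≠ 0) (T : List ℕ) : h F s l ∈ Ns (US F T) :=
  H98.mem_normalizer_of_cj_le (map_le_iff_le_comap.2 (US_le fun r hr h1 a => by
    change h F s l * x F r a * (h F s l)⁻¹ ∈ US F T
    rw [h_conj hs h1 hl]; exact x_mem hr h1 _))

theorem isConj_x {r s : ℕ} (hr : r < 48) (hs : s < 48) (e : sh r = sh s) {a b : F} (ha : a ≠ 0)
    (hb : b ≠ 0) : IsConj (x F r a) (x F s b) := by
  have k : ∀ r < 48, ∀ a : F, a ≠ 0 → IsConj (x F (if sh r then 44 else 47) 1) (x F r a) :=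
    fun r hr a ha => by
      obtain ⟨-, h1, h2⟩ := wd0_spec r hr
      obtain ⟨v, -, h3⟩ := tor (F := F) hr
      refine (isConj_iff.2 ⟨_, nW_conj h1 (by split_ifs <;> decide) 1⟩).trans ?_
      rw [h2]
      exact isConj_iff.2 ⟨_, (h3 a ha 1).trans (by rw [mul_one])⟩
  exact (k r hr a ha).symm.trans (e ▸ k s hs b hb)

theorem rt_iff {r : ℕ} (hr : r < 48) {u : XF F} : Rt r u ↔ IsConj (x F r 1) u :=
  ⟨fun ⟨g, _, hc, e⟩ => (isConj_x hr hr rfl one_ne_zero hc).trans (isConj_iff.2 ⟨g, e.symm⟩),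
    fun h => by obtain ⟨g, e⟩ := isConj_iff.1 h; exact ⟨g, 1, one_ne_zero, e.symm⟩⟩

theorem Rt.conj {r : ℕ} {u v : XF F} (h : Rt r u) (e : IsConj u v) : Rt r v := by
  obtain ⟨g, c, hc, rfl⟩ := h
  obtain ⟨k, rfl⟩ := isConj_iff.1 e
  exact ⟨k * g, c, hc, by group⟩

theorem Rt.inv2 {r : ℕ} (hr : r < 48) {u : XF F} (h : Rt r u) : Inv2 u := by
  obtain ⟨g, c, hc, rfl⟩ := h
  refine ⟨by rw [show g * x F r c * g⁻¹ * (g * x F r c * g⁻¹) = g * (x F r c * x F r c) * g⁻¹ by group,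
    x_sq hr]; simp, fun e => (inv2_x hr hc).2 (conj_eq_one_iff.1 e)⟩

theorem sh_x {r : ℕ} (hr : S r) {a : F} (ha : a ≠ 0) : Sh (x F r a) :=
  (rt_iff (by decide)).2 (isConj_x (by decide) hr.1 (by rw [hr.2]; decide +kernel) one_ne_zero ha)

theorem lg_x {r : ℕ} (hr : L r) {a : F} (ha : a ≠ 0) : Lg (x F r a) :=
  (rt_iff (by decide)).2 (isConj_x (by decide) hr.1 (by rw [hr.2]; decide +kernel) one_ne_zero ha)

/-! ### The graph automorphism -/

variable (F) in
theorem exists_gam : ∃ γ : MulAut (XF F), ∀ r < 48, ∀ c,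
    γ (x F r c) = x F (rhoF4 r) (if sh r then c ^ 2 else c) := by
  obtain ⟨α, hα⟩ := H68.isogF4.exists_aut (K := F) (by decide +kernel)
    (fun _ _ _ _ _ _ => by rw [H68.eta_char_two, H68.eta_char_two])
    fun a => (frobeniusEquiv F 2).surjective a
  refine ⟨α, fun r hr c => Subtype.ext ((hα _ r c hr rfl).trans ?_)⟩
  rw [(rho_lt r hr).2.2.2.1]
  split_ifs <;> simp

variable (F) in
/-- The graph automorphism; its square is the Frobenius map. -/
noncomputable def gam : MulAut (XF F) := (exists_gam F).choose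

theorem gam_x {r : ℕ} (hr : r < 48) (c : F) :
    gam F (x F r c) = x F (rhoF4 r) (if sh r then c ^ 2 else c) := (exists_gam F).choose_spec r hr c

variable {G : Type u} [Group G] {e e' : XF F →* G} {t : G}

theorem mir_gam (e : XF F →* G) : Mir e (twe e (gam F)) :=
  ⟨gam F, frobeniusEquiv F 2, 1, rfl, fun _ => rfl, fun _ hr c => gam_x hr c⟩

theorem Mir.symm (h : Mir e e') : Mir e' e := by
  obtain ⟨β, φ, ψ, rfl, h1, h2⟩ := h
  refine ⟨β⁻¹, ψ⁻¹, φ⁻¹, MonoidHom.ext fun u => by simp [H59.SO.twe_apply], fun c => ?_,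
    fun r hr c => ?_⟩
  · apply ψ.injective
    rw [map_pow, ← h1]
    exact (ψ.apply_symm_apply c).trans (φ.apply_symm_apply c).symm
  · obtain ⟨k1, k2, k3, -⟩ := rho_lt r hr
    rw [MulAut.inv_apply, MulEquiv.symm_apply_eq, h2 _ k1, k2, k3]
    cases sh r
    · exact congrArg _ (φ.apply_symm_apply c).symm
    · exact congrArg _ (ψ.apply_symm_apply c).symm

theorem Mir.range (h : Mir e e') : e'.range = e.range := by
  obtain ⟨β, -, -, rfl, -⟩ := h
  exact range_twe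

/-- The root elements of the mirror image. -/
theorem Mir.ex (h : Mir e e') : ∃ φ ψ : RingAut F, (∀ c, φ c = ψ c ^ 2) ∧
    (∀ r, S r → ∀ c, e' (x F r c) = e (x F (rhoF4 r) (φ c))) ∧
    (∀ r, L r → ∀ c, e' (x F r c) = e (x F (rhoF4 r) (ψ c))) ∧
    ∀ s < 48, e' (n F s) = e (n F (rhoF4 s)) := by
  obtain ⟨β, φ, ψ, rfl, h1, h2⟩ := h
  refine ⟨φ, ψ, h1, fun r hr c => ?_, fun r hr c => ?_, fun s hs => ?_⟩
  · rw [H59.SO.twe_apply, h2 r hr.1, hr.2]; rfl
  · rw [H59.SO.twe_apply, h2 r hr.1, hr.2]; rfl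
  · rw [H59.SO.twe_apply, n_eq hs, n_eq (rho_lt s hs).1, map_mul β, map_mul β, h2 s hs,
      h2 _ (by omega), (rho_lt s hs).2.2.2.2]
    simp

theorem Mir.b0 (m : Mir e e') (h : B0 e t) : B0 e' t := by
  obtain ⟨β, -, -, rfl, -⟩ := m
  exact h.twe β

theorem Mir.ch (m : Mir e e') (h : CH e t) (mv : Mv e' t) : CH e' t := by
  obtain ⟨β, -, -, rfl, -⟩ := m
  exact ⟨⟨h.toCE.twe β, mv⟩, by rw [range_twe]; exact h.ck⟩

theorem CH.inner (h : CH e t) {g : G} {s : XF F} (h1 : g ∈ Cz t) (i : Ind e g (MulAut.conj s)) :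
    g = e s ∨ g = t * e s := by
  rcases h.ck (g * (e s)⁻¹) (mul_mem h1 (inv_mem (h.toB1.mem_Cz s))) (H59.SO.ind_conj_iff.1 i) with k | k
  · exact Or.inl (mul_inv_eq_one.1 k)
  · exact Or.inr (mul_inv_eq_iff_eq_mul.1 k)

/-- How the facts `FC` are used. -/
theorem CH.ca (h : CH e t) {l l' : List ℕ} (c : CA F l l') {g : G} (h1 : g ∈ Cz t)
    (h2 : ∀ r ∈ l, ∀ a, g * e (x F r a) = e (x F r a) * g) :
    ∃ ζ ∈ US F l', g = e ζ ∨ g = t * e ζ := by
  obtain ⟨β, i⟩ := H59.SO.exists_ind h.inj (h.cz h1)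
  obtain ⟨ζ, hζ, rfl⟩ := c β fun r hr a => (i.comm_iff h.inj).1 (h2 r hr a)
  exact ⟨ζ, hζ, h.inner h1 i⟩

end X

end H64.SF
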