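import Cfsg.Agent.H14.CBSpec

/-! # S1308, tower CB: job Kb. -/

set_option autoImplicit false

namespace H64.CbKb

open Cfsg Subgroup H14 H98 H1.Gold H31.S2 H14.GC H14.FE H14.NF H14.CB
open scoped commutatorElement

universe u

variable {G : Type u} [Group G] {Q E Q₁ E₁ Q₂ E₂ : Subgroup G}

theorem el_comm {A : Subgroup G} (el : El A) {a b : G} (ha : a ∈ A) (hb : b ∈ A) :
    a * b = b * a := by
  have i : ∀ x ∈ A, x⁻¹ = x := fun x hx => inv_eq_of_mul_eq_one_right (el x hx)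
  rw [← i _ (A.mul_mem ha hb), mul_inv_rev, i a ha, i b hb]

theorem pt_le (h : TG Q E) (p : Pt Q E Q₁ E₁) : E₁ ≤ Q₁ := by
  obtain ⟨g, rfl, rfl⟩ := p
  exact cj_mono g h.le

theorem pt_el (h : TG Q E) (p : Pt Q E Q₁ E₁) : El E₁ := by
  obtain ⟨g, rfl, rfl⟩ := p
  rintro _ ⟨a, ha, rfl⟩
  rw [← map_mul, h.el a ha, map_one]

theorem pt_ne (h : TG Q E) (p : Pt Q E Q₁ E₁) : ∃ t ∈ E₁, t ≠ 1 := by
  obtain ⟨g, rfl, rfl⟩ := p
  obtain ⟨s, hs, -, -, s1, -⟩ := h.four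
  exact ⟨_, conj_mem_cj hs, fun e => s1.1 (by simpa using e)⟩

theorem pt_cen (h : TG Q E) (p : Pt Q E Q₁ E₁) {d : G} (hd : d ∈ Q₁) (d1 : d ≠ 1)
    (d2 : d * d = 1) : cen1 d ≤ nor Q₁ := by
  obtain ⟨g, rfl, rfl⟩ := p
  exact h.cen_le g d hd ⟨d1, d2⟩

theorem pt_cj (p : Pt Q E Q₁ E₁) (m : G) : Pt Q E (cj m Q₁) (cj m E₁) := by
  obtain ⟨g, rfl, rfl⟩ := p
  exact ⟨m * g, cj_cj _ _ _, cj_cj _ _ _⟩

theorem exc1 (h : TG Q E) (c : Col Q E Q₁ E₁ Q₂ E₂) {x : G} (hx : x ∈ Q₂) (x2 : x * x = 1)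
    (c1 : x ∈ cen E₁) (c2 : x ∈ cen E₂) : x ∈ E₂ := by
  have : Fact (Nat.Prime 2) := ⟨Nat.prime_two⟩
  obtain ⟨t, ht, t1⟩ := pt_ne h c.p1
  have l : cen E₁ ≤ nor Q₁ := fun g hg => pt_cen h c.p1 (pt_le h c.p1 ht) t1 (pt_el h c.p1 t ht)
    (mem_centralizer_singleton_iff.2 (hg t ht).symm)
  refine h.exc _ _ _ _ c (E₂ ⊔ zpowers x) (le_inf (sup_le (pt_le h c.p2) (zpowers_le.2 hx))
    ((sup_le c.comm (zpowers_le.2 c1)).trans l)) ?_ le_sup_left (mem_sup_right (mem_zpowers x))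
  exact IsPGroup.to_sup_of_normal_left' (fun g => ⟨1, Subtype.ext
    (by simpa [pow_two] using pt_el h c.p2 g g.2)⟩)
    (isPGroup_zpowers (k := 1) (by rw [pow_one, pow_two, x2]))
    (zpowers_le.2 (centralizer_le_normalizer _ c2))

theorem calc1 {t y w z : G} (tt : t * t = 1) (dd : t * y * (t * y) = 1) (ee : t * w * (t * w) = 1)
    (yw : y * w = w * y) (ww : w * w = y * y * z) (zt : t * z = z * t) (zy : y * z = z * y) :
    t * y * (t * w) * (t * y)⁻¹ = t * w * z := by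
  have ti : t⁻¹ = t := inv_eq_of_mul_eq_one_right tt
  have e1 : t * y * t = y⁻¹ := eq_inv_of_mul_eq_one_left (by rw [← dd]; group)
  have e2 : t * w = w⁻¹ * t := by
    rw [← eq_inv_of_mul_eq_one_left (show t * w * t * w = 1 by rw [← ee]; group), mul_assoc (t * w),
      tt, mul_one]
  calc t * y * (t * w) * (t * y)⁻¹ = t * y * t * w * y⁻¹ * t⁻¹ := by group
    _ = y⁻¹ * (w * y) * y⁻¹ * y⁻¹ * t := by rw [e1, ti]; group
    _ = w⁻¹ * (w * w) * y⁻¹ * y⁻¹ * t := by rw [← yw]; group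
    _ = w⁻¹ * y * (y * z) * y⁻¹ * y⁻¹ * t := by rw [ww]; group
    _ = w⁻¹ * (y * z) * y⁻¹ * t := by nth_rw 1 [zy]; group
    _ = w⁻¹ * (z * t) := by rw [zy]; group
    _ = t * w * z := by rw [← zt, e2]; group

theorem jobX : JKb.{u} := by
  intro f3 G _ _ Q E h Q₁ T P Z Q₂ T' ln pl pl2 col pa ⟨a, ⟨⟨aQ, aT⟩, aZ⟩, a2, a1⟩
  have EP : E ≤ P := ln.pg.lt.le
  obtain ⟨r, hr, r1⟩ := pt_ne h col.p1
  obtain ⟨⟨z0, hz0⟩, z01⟩ := ne_bot_iff_exists_ne_one.1 (show Z ≠ ⊥ from fun e => by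
    have := pl.card
    rw [e, card_bot, eq_comm, card_eq_one] at this
    exact r1 (mem_bot.1 (this ▸ hr)))
  have z01' : z0 ≠ 1 := fun e => z01 (Subtype.ext e)
  obtain ⟨m, mm, mP⟩ := pl2 r hr r1 z0 hz0
  have mP := mP z01'
  have nc : ∀ s ∈ E, s ≠ 1 → ⁅s, m⁆ ≠ 1 := fun s hs s1 e => by
    have mN : m ∈ nor Q := pt_cen h col.p1 (h.le hs) s1 (h.el s hs)
      (mem_centralizer_singleton_iff.2 (commutatorElement_eq_one_iff_mul_comm.1 e).symm)
    have zQ : z0 ∈ Q := (Q.mul_mem_cancel_left (h.le hr)).1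
      (mm.mv ▸ conj_mem_of_mem_normalizer mN (h.le hr))
    have := exc1 h (h.sym _ _ _ _ ln.col) zQ (pl.el z0 hz0) (pl.cT hz0)
      (centralizer_anti EP (pl.cP hz0))
    exact z01' (mem_bot.1 (pl.dj ▸ (⟨hz0, this⟩ : z0 ∈ Z ⊓ E)))
  have eT := pt_el h ln.col.p2
  have eT' := pt_el h col.p2
  -- conjugation of `m d m⁻¹` by `d`
  have key : ∀ d ∈ T', d ≠ 1 → ∃ z ∈ Z, z ≠ 1 ∧ d * (m * d * m⁻¹) * d⁻¹ = m * d * m⁻¹ * z := by
    intro d hd d1
    obtain ⟨t, ht, y, hy, yE, rfl⟩ := pa d hd d1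
    have dd := eT' _ hd
    have tt := eT t ht
    have yy : y * y ∈ E := by
      have e : ⁅t, y⁆ = (y * y)⁻¹ := by
        calc ⁅t, y⁆ = t * y * (t * y) * y⁻¹ * (t * t)⁻¹ * y⁻¹ := by
              rw [commutatorElement_def]; group
          _ = (y * y)⁻¹ := by rw [dd, tt]; group
      exact E.inv_mem_iff.1 (e ▸ ln.pg.cm t ht y hy)
    have hz := mm.cm _ yy
    have e : m * (t * y) * m⁻¹ = t * (m * y * m⁻¹) := by
      rw [← mul_assoc, ← mm.cT t ht]; group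
    refine ⟨_, hz, nc _ yy (ln.pg.sq y hy yE), ?_⟩
    rw [e]
    refine calc1 tt dd ?_ (mP (conj_mem_cj hy) y hy) ?_ (pl.cT hz t ht) (pl.cP hz y hy)
    · rw [← e]
      calc m * (t * y) * m⁻¹ * (m * (t * y) * m⁻¹) = m * (t * y * (t * y)) * m⁻¹ := by group
        _ = 1 := by rw [dd]; group
    · have s2 := h.el _ yy
      rw [show m * y * m⁻¹ * (m * y * m⁻¹) = m * (y * y) * m⁻¹ by group, commutatorElement_def,
        inv_eq_of_mul_eq_one_right s2]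
      generalize y * y = s at s2
      calc m * s * m⁻¹ = s * s * m * s * m⁻¹ := by rw [s2, one_mul]
        _ = s * (s * m * s * m⁻¹) := by simp only [mul_assoc]
  have T'Q := pt_le h col.p2
  refine f3 G Q E h Q₂ T' (cj m Q₂) (cj m T') col.p2 (pt_cj col.p2 m) (fun d hd d1 hn => ?_)
    (m * a * m⁻¹) (conj_mem_cj aQ) ?_ ?_ fun d hd => ?_
  · obtain ⟨z, hz, z1, e⟩ := key d hd d1
    have e1 : m * d * m⁻¹ ∈ cj m Q₂ := conj_mem_cj (T'Q hd)
    have zQ : z ∈ cj m Q₂ := (mul_mem_cancel_left e1).1 (e ▸ conj_mem_of_mem_normalizer hn e1)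
    rw [mem_cj, mul_assoc, mm.cZ z hz, inv_mul_cancel_left] at zQ
    have zT : z ∈ cen T' := fun x hx => by
      by_cases x1 : x = 1
      · rw [x1, one_mul, mul_one]
      · obtain ⟨t, ht, y, hy, -, rfl⟩ := pa x hx x1
        rw [mul_assoc, pl.cP hz y hy, ← mul_assoc, pl.cT hz t ht, mul_assoc]
    obtain ⟨t, ht, y, hy, yE, e2⟩ := pa z
      (exc1 h col zQ (pl.el z hz) (centralizer_anti EP (pl.cP hz)) zT) z1
    obtain ⟨s, hs, s1⟩ := pt_ne h ln.col.p2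
    refine ln.pg.nd y hy yE s hs s1 (commutatorElement_eq_one_iff_mul_comm.2 ?_)
    have c1 : Commute s z := pl.cT hz s hs
    have c2 : Commute s t := el_comm eT hs ht
    have := c2.inv_right.mul_right c1
    rwa [e2, inv_mul_cancel_left] at this
  · rw [show m * a * m⁻¹ * (m * a * m⁻¹) = m * (a * a) * m⁻¹ by group]
    exact conj_mem_cj a2
  · rw [show m * a * m⁻¹ * (m * a * m⁻¹) = m * (a * a) * m⁻¹ by group]
    exact fun e => a1 (by simpa using e)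
  · by_cases d1 : d = 1
    · rw [d1, cj_one]
      exact le_normalizer (conj_mem_cj aQ)
    obtain ⟨z, hz, -, e⟩ := key d hd d1
    refine pt_cen h (pt_cj (pt_cj col.p2 m) d) (conj_mem_cj (conj_mem_cj (T'Q hd)))
      (fun e => d1 (by simpa using e)) ?_ (mem_centralizer_singleton_iff.2 ?_)
    · calc d * (m * d * m⁻¹) * d⁻¹ * (d * (m * d * m⁻¹) * d⁻¹)
          = d * m * (d * d) * m⁻¹ * d⁻¹ := by group
        _ = 1 := by rw [eT' d hd]; group
    · have c1 : Commute z (m * a * m⁻¹) :=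
        ((show Commute z m from mm.cZ z hz).mul_right (aZ z hz)).mul_right
          (show Commute z m from mm.cZ z hz).inv_right
      have c2 : Commute (m * d * m⁻¹) (m * a * m⁻¹) := by
        show _ = _
        calc m * d * m⁻¹ * (m * a * m⁻¹) = m * (d * a) * m⁻¹ := by group
          _ = m * a * m⁻¹ * (m * d * m⁻¹) := by rw [aT d hd]; group
      rw [e]
      exact (c2.mul_left c1).symm.eq

end H64.CbKb
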