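import Cfsg.Agent.H64.SFDef
import Cfsg.Agent.H63.TGSpec

/-! STD-F4 (row S3328), spec piece 2: the head, phases 2 and 3, recognition.
Proof notes: `blueprints/STDF4.md`, part 2.  `L = e.range`, `K = C(L)`, `T` = class of `t`. -/

set_option autoImplicit false

namespace H64.SF

open Cfsg.Lie H63 H65 H64
open H64.SG (O2 Syl Cz Cs Ns cjs Is2 Inv2 IsO2 fx Cov)
open H67.SA (St cI cm)
open H59.SO (NS AutOn Ind B1 B0 CE CW twe)
open H86.WR (XF US UF4)
open H46.SF (sh iE gE iT tT)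
open H63.TG (Rg)
open H68 (rhoF4)

universe u

/-- `G₁ ≥ L` covers `Y`, `t` acts as `τ`. -/
structure Bl0 {X Y : Type} [Group X] [Group Y] {G : Type u} [Group G] (ι : X →* Y) (τ : MulAut Y)
    (e : X →* G) (t : G) (G₁ : Subgroup G) (c : Cov Y G₁) : Prop where
  le : e.range ≤ G₁
  pi : ∀ u, c.pi (e u) = ι u
  tn : t ∈ Ns G₁
  act : c.ac t = τ
  perf : G₁ ≤ ⁅G₁, G₁⁆

/-- Moreover `t e u ∈ T` only for `u = 1` and for the good `u`. -/
structure Bl {X Y : Type} [Group X] [Group Y] {G : Type u} [Group G] (ι : X →* Y) (τ : MulAut Y)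
    (Gd : X → Prop) (e : X →* G) (t : G) (G₁ : Subgroup G) (c : Cov Y G₁) : Prop
    extends Bl0 ι τ e t G₁ c where
  gd : ∀ u, IsConj t (t * e u) → u = 1 ∨ Gd u

/-- A quadratic extension. -/
structure Qx (F K : Type) [Field F] [Field K] [Fintype K] where
  φ : F →+* K
  σ : RingAut K
  hq : IsPrimePow (Nat.card F)
  hK : Fintype.card K = Nat.card F ^ 2
  hf : ∀ a, (σ : K →+* K) a = a ^ Nat.card F
  hφ : ∀ a, (σ : K →+* K) a = a ↔ a ∈ φ.range

namespace Qx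

variable {F K : Type} [Field F] [CharP F 2] [Field K] [Fintype K] [CharP K 2] (x : Qx F K)

/-- `F₄(F) ≤ F₄(K)` -/
noncomputable abbrev ιF : XF F →* XF K := mapG chevF4 x.φ
/-- the field automorphism -/
noncomputable abbrev τF : MulAut (XF K) := fieldAut chevF4 x.σ
/-- `F₄(F) ≤ ²E₆(q)` -/
noncomputable abbrev ιT : XF F →* twistedE6 K (Nat.card F) := iT x.hq x.hK x.hf x.hφ
/-- the graph automorphism -/
noncomputable abbrev τT : MulAut (twistedE6 K (Nat.card F)) := tT x.hq x.hK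

end Qx

section Amb

variable {F : Type} [Field F] {G : Type u} [Group G]

/-- `t e u ∈ T` -/
abbrev TT (e : XF F →* G) (t : G) (u : XF F) : Prop := IsConj t (t * e u)

/-- The structure of `C(t)`; the edge lemma. -/
structure AB (e : XF F →* G) (t : G) : Prop where
  ol : ∀ y ∈ O2 (Cz t), Is2 y → y ∈ e.range
  pf : ∀ N ≤ Cz t, N ≤ ⁅N, N⁆ → N ≤ e.range
  nr : ∀ u, ¬ IsConj t (e u)
  edge : ∀ g u A, Inv2 u → g * t * g⁻¹ = t * e u → IsO2 A (Cz u) → A.map e ≤ cjs g e.range ∧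
    ∃ u' A', Inv2 u' ∧ IsO2 A' (Cz u') ∧ g * e u' * g⁻¹ = e u ∧ cjs g (A'.map e) = A.map e

/-- Some element fixes a short root element `z` and maps `t` to `t z`. -/
def Mv (e : XF F →* G) (t : G) : Prop := ∃ g c, c ≠ 0 ∧ g * t * g⁻¹ = t * e (x F 44 c) ∧
  g * e (x F 44 c) = e (x F 44 c) * g

/-- After the head. -/
structure CA0 (e : XF F →* G) (t : G) : Prop extends CE e t where
  mv : Mv e t

/-- The configuration modulo the odd part of `C_K(t)`. -/
structure CH (e : XF F →* G) (t : G) : Prop extends CA0 e t where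
  ck : ∀ g ∈ Cz t, g ∈ Cs e.range → g = 1 ∨ g = t

/-- `e'` is `e` twisted by a graph automorphism (a symmetric relation: `Mir.symm` in `SFBasic`). -/
def Mir (e e' : XF F →* G) : Prop := ∃ (β : MulAut (XF F)) (φ ψ : RingAut F), e' = twe e β ∧
  (∀ c, φ c = ψ c ^ 2) ∧ ∀ r < 48, ∀ c, β (x F r c) = x F (rhoF4 r) (if sh r then φ c else ψ c)

/-- `w` translates `t` by `x_r(c)`, and acts on the short roots orthogonal to `r`. -/
def Tc (e : XF F →* G) (t : G) (k : F) (r : ℕ) (w : G) (c : F) : Prop :=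
  w * t * w⁻¹ = t * e (x F r c) ∧
    ∀ s, S s → ip r s = 0 → ∀ d, cm w (e (x F s d)) = e (x F (ad r s) (k * c * d))

/-- All translations of `t X_σ` are induced by the centraliser of `Y_σ`. -/
def Tr (e : XF F →* G) (t : G) (k : F) : Prop :=
  ∀ c, ∃ w ∈ Cs ((Y F 44).map e), Tc e t k 44 w c

/-- The big root subgroups of the short roots. -/
structure Fam (e : XF F →* G) (t : G) (k : F) (A : ℕ → Subgroup G) : Prop where
  le : ∀ r, S r → (Z F r).map e ≤ A r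
  sq : ∀ r, S r → ∀ a ∈ A r, a * a = 1
  nt : ∀ r, S r → t ∉ A r
  tc : ∀ r, S r → ∀ a ∈ A r, ∃ c, Tc e t k r a c
  onto : ∀ r, S r → ∀ c, ∃ a ∈ A r, a * t * a⁻¹ = t * e (x F r c)
  fix : ∀ r, S r → ∀ a ∈ A r, a ∈ Cz t → a ∈ (Z F r).map e
  cp : ∀ r, S r → A r ≤ Cs ((Y F r).map e)
  intr : ∀ r, S r → ∀ w ∈ Cs ((Y F r).map e), ∀ c, w * t * w⁻¹ = t * e (x F r c) →
    w ∈ A r ∨ w * t ∈ A r
  eqv : ∀ g ∈ NW F, ∀ r s, S r → S s → cjs g (Z F r) = Z F s → cjs (e g) (A r) = A s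
  tor : ∀ r, S r → ∀ s < 48, ∀ l : F, l ≠ 0 → e (h F s l) ∈ Ns (A r)
  col : ∀ r s, S r → S s → ip r s = 2 → A r ≤ Cs (A s)
  neg : ∀ r s, S r → S s → ip r s = -2 → ∀ a ∈ A r, ∀ d, cm a (e (x F s d)) ∈ A (ad r s)

/-- The remaining commutator relations. -/
structure Fam2 (e : XF F →* G) (t : G) (k : F) (A : ℕ → Subgroup G) : Prop extends Fam e t k A where
  pol : ∀ r s, S r → S s → ip r s = 0 → ∀ a ∈ A r, ∀ b ∈ A s, cm a b ∈ (Z F (ad r s)).map e
  neg2 : ∀ r s, S r → S s → ip r s = -2 → ∀ a ∈ A r, ∀ b ∈ A s, cm a b ∈ A (ad r s)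

variable {R : Type} [CommRing R]

/-- The short root elements over `R`; `θ` is conjugation by `t`.  `kb = true`: type `E₆`. -/
structure SY (e : XF F →* G) (θ : MulAut G) (kb : Bool) (ι : F →+* R) (σ : RingAut R) (η : R)
    (y : ℕ → R → G) : Prop where
  rg : Rg ι σ η
  add : ∀ r, S r → ∀ a b, y r a * y r b = y r (a + b)
  inj : ∀ r, S r → ∀ a, y r a = 1 → a = 0
  yx : ∀ r, S r → ∀ c, y r (ι c) = e (x F r c)
  te : ∀ u, θ (e u) = e u
  ty : ∀ r, S r → ∀ a, θ (y r a) = y r (σ a)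
  cp : ∀ r, S r → ∀ s ∈ lY r, ∀ a c, y r a * e (x F s c) = e (x F s c) * y r a
  nw : ∀ r, S r → ∀ s < 48, ∀ a, e (n F s) * y r a * (e (n F s))⁻¹ =
    y (rf s r) (if sh s && kb then σ a else a)
  c60 : ∀ r s, S r → S s → ip r s = 2 → ∀ a b, y r a * y s b = y s b * y r a
  c120 : ∀ r s, S r → S s → ip r s = -2 → ∀ a b,
    cm (y r a) (y s b) = y (ad r s) (if kb then σ (a * b) else a * b)
  c90 : ∀ r s, S r → S s → ip r s = 0 → ∀ a b c, ι c = a * σ b + σ a * b →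
    cm (y r a) (y s b) = e (x F (ad r s) (if kb then c else 0))

/-- The relations of `E₆(F)` (`R = F × F`) and of `²E₆(q)` (`R` a field). -/
structure TY (e : XF F →* G) (θ : MulAut G) (ι : F →+* R) (σ : RingAut R) (η : R)
    (y : ℕ → R → G) : Prop extends SY e θ true ι σ η y where
  cl : ∀ r l, S r → L l → ip r l < 0 → ∀ a c m, ι m = a * σ a →
    cm (y r a) (e (x F l c)) = y (ad r l) (a * ι c) * e (x F (ad r (ad r l)) (c * m))

/-- The relations of `F₄(R)`. -/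
structure FY (e : XF F →* G) (θ : MulAut G) (ι : F →+* R) (σ : RingAut R) (η : R)
    (y : ℕ → R → G) : Prop where
  rg : Rg ι σ η
  add : ∀ r < 48, ∀ a b, y r a * y r b = y r (a + b)
  yx : ∀ r < 48, ∀ c, y r (ι c) = e (x F r c)
  ty : ∀ r < 48, ∀ a, θ (y r a) = y r (σ a)
  c0 : ∀ r < 48, ∀ s < 48, 0 ≤ ip r s → ∀ a b, y r a * y s b = y s b * y r a
  c1 : ∀ r < 48, ∀ s < 48, sh r = sh s → ip r s < 0 → s ≠ 47 - r → ∀ a b,
    cm (y r a) (y s b) = y (ad r s) (a * b)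
  c2 : ∀ r l, S r → L l → ip r l < 0 → ∀ a b,
    cm (y r a) (y l b) = y (ad r l) (a * b) * y (ad r (ad r l)) (a ^ 2 * b)

/-- The short family `y` of `e` and the short family `y'` of the mirror image commute in position `i`
(`y' (rhoF4 l)` is the big root subgroup at the long root `l`). -/
def Cr {R' : Type} (y : ℕ → R → G) (y' : ℕ → R' → G) (i : ℤ) : Prop :=
  ∀ s l, S s → L l → ip s l = i → ∀ a b, y s a * y' (rhoF4 l) b = y' (rhoF4 l) b * y s a

/-- The result of phases 2 and 3. -/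
def Res [CharP F 2] (e : XF F →* G) (t : G) : Prop :=
  (∃ e₁ e₂, CW e t e₁ e₂) ∨ (∃ G₁ c, Bl (iE F) (gE F) Sh e t G₁ c) ∨
    ∃ (K : Type) (_ : Field K) (_ : Fintype K) (_ : CharP K 2) (x : Qx F K),
      (∃ G₁ c, Bl x.ιF x.τF (fun _ => True) e t G₁ c) ∨ ∃ G₁ c, Bl x.ιT x.τT Sh e t G₁ c

end Amb

/-- A statement for all `F`, `G`, `e`, `t`. -/
def AllG (P : ∀ (F : Type) [Field F] [CharP F 2] (G : Type u) [Group G], (XF F →* G) → G → Prop) :
    Prop :=
  ∀ (F : Type) [Field F] [Finite F] [CharP F 2] (G : Type u) [Group G] [Finite G] (e : XF F →* G)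
    (t : G), P F G e t

/-- Steinberg's presentation; odd central extensions. -/
def JobKit : Prop := ∀ (F : Type) [Field F] [Finite F] [CharP F 2] (G : Type u) [Group G] [Finite G],
  (∀ y : ℕ → F → G, (∀ r < 48, ∀ a b, y r a * y r b = y r (a + b)) →
    (∀ r < 48, ∀ s < 48, 0 ≤ ip r s → ∀ a b, y r a * y s b = y s b * y r a) →
    (∀ r < 48, ∀ s < 48, sh r = sh s → ip r s < 0 → s ≠ 47 - r → ∀ a b,
      cm (y r a) (y s b) = y (ad r s) (a * b)) →
    (∀ r l, S r → L l → ip r l < 0 → ∀ a b,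
      cm (y r a) (y l b) = y (ad r l) (a * b) * y (ad r (ad r l)) (a ^ 2 * b)) →
    ∃ Φ : XF F →* G, ∀ r < 48, ∀ a, Φ (x F r a) = y r a) ∧
  ∀ π : G →* XF F, Function.Surjective π → π.ker ≤ Subgroup.center G → commutator G = ⊤ →
    Odd (Nat.card π.ker) → Function.Injective π

def JobAB : Prop := AllG.{u} fun _ _ _ _ _ e t => B0 e t → AB e t

def JobJB : Prop := AllG.{u} fun _ _ _ _ _ e t => B0 e t →
  (∃ s, IsConj t s ∧ s ≠ t ∧ s * t = t * s) → ∃ u, (Sh u ∨ Lg u) ∧ TT e t u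

def JobJA : Prop := AllG.{u} fun _ _ _ _ _ e t => B0 e t → (∃ u, (Sh u ∨ Lg u) ∧ TT e t u) →
  (∃ β, CA0 (twe e β) t) ∧
    ∀ e', Mir e e' → Mv e t → (∃ c, c ≠ 0 ∧ TT e t (x _ 47 c)) → Mv e' t

def JobP2a : Prop := AllG.{u} fun _ _ _ _ _ e t => CH e t → ∃ k, Tr e t k

def JobP2b : Prop := AllG.{u} fun _ _ _ _ _ e t => ∀ k, CH e t → Tr e t k → ∃ A, Fam e t k A

def JobP3a : Prop := AllG.{u} fun _ _ _ _ _ e t => ∀ k A, CH e t → Fam e t k A → Fam2 e t k A

def JobP3b : Prop := AllG.{u} fun F _ _ G _ e t => ∀ k A, CH e t → Fam2 e t k A →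
  ∃ (kb : Bool) (R : Type) (_ : CommRing R) (ι : F →+* R) (σ : RingAut R) (η : R) (y : ℕ → R → G),
    SY e (MulAut.conj t) kb ι σ η y

/-- A statement for a short family. -/
def AllY (P : ∀ (F : Type) [Field F] [CharP F 2] (G : Type u) [Group G] (R : Type) [CommRing R],
    (XF F →* G) → G → (F →+* R) → RingAut R → R → (ℕ → R → G) → Prop) : Prop :=
  AllG.{u} fun F _ _ G _ e t => ∀ (R : Type) [CommRing R] (ι : F →+* R) (σ : RingAut R) (η : R)
    (y : ℕ → R → G), P F G R e t ι σ η y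

/-- The long relation follows; without it the mirror image moves `t`; the good involutions. -/
def JobTL : Prop := AllY.{u} fun F _ _ _ _ _ _ e t ι σ η y =>
  (∀ θ, SY e θ true ι σ η y → TY e θ ι σ η y) ∧
  (∀ e', Mir e e' → B1 e t → SY e (MulAut.conj t) false ι σ η y → Mv e' t) ∧
  (B1 e t → SY e (MulAut.conj t) true ι σ η y → (∀ c, c ≠ 0 → ¬ TT e t (x F 47 c)) →
    ∀ u, TT e t u → u = 1 ∨ Sh u)

/-- A statement for the short families of `e` and of its mirror image. -/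
def AllM (P : ∀ (F : Type) [Field F] [CharP F 2] (G : Type u) [Group G] (R R' : Type) [CommRing R]
    [CommRing R'], (XF F →* G) → G → Bool → Bool → (F →+* R) → RingAut R → R → (ℕ → R → G) →
      (ℕ → R' → G) → Prop) : Prop :=
  AllY.{u} fun F _ _ G _ R _ e t ι σ η y => ∀ (e' : XF F →* G) (R' : Type) [CommRing R']
    (ι' : F →+* R') (σ' : RingAut R') (η' : R') (y' : ℕ → R' → G) (k k' : Bool), CH e t → Mir e e' →
    SY e (MulAut.conj t) k ι σ η y → SY e' (MulAut.conj t) k' ι' σ' η' y' →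
      P F G R R' e t k k' ι σ η y y'

def JobX4 : Prop := AllM.{u} fun _ _ _ _ _ _ _ _ _ _ _ k k' _ _ _ y y' =>
  Cr y y' 4 ∧ (k = false → k' = false → Cr y y' 0)

def JobMX : Prop := AllM.{u} fun _ _ _ _ _ _ _ _ _ _ _ k _ _ _ _ y y' => Cr y y' 4 → k = false

def JobFY : Prop := AllM.{u} fun _ _ _ _ _ _ _ _ _ e t k k' ι σ η y y' => k = false → k' = false →
  Cr y y' 4 → Cr y y' 0 → ∃ z, FY e (MulAut.conj t) ι σ η z

def JobRF : Prop := AllY.{u} fun F _ _ _ _ _ _ e t ι σ η y => B1 e t →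
  FY e (MulAut.conj t) ι σ η y → (∃ e₁ e₂, CW e t e₁ e₂) ∨
    ∃ (K : Type) (_ : Field K) (_ : Fintype K) (_ : CharP K 2) (x : Qx F K),
      ∃ G₁ c, Bl0 x.ιF x.τF e t G₁ c

def JobRE : Prop := AllY.{u} fun F _ _ _ _ _ _ e t ι σ η y => B1 e t →
  TY e (MulAut.conj t) ι σ η y → ∀ ε, ε * ε = ε → σ ε = ε + 1 →
    ∃ G₁ c, Bl0 (iE F) (gE F) e t G₁ c

def JobRT : Prop := AllY.{u} fun F _ _ _ _ R _ e t ι σ η y => B1 e t →
  TY e (MulAut.conj t) ι σ η y → IsField R →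
    ∃ (K : Type) (_ : Field K) (_ : Fintype K) (_ : CharP K 2) (x : Qx F K),
      ∃ G₁ c, Bl0 x.ιT x.τT e t G₁ c

/-- Phases 2 and 3 together. -/
def JobCH : Prop := AllG.{u} fun _ _ _ _ _ e t => CH e t → Res e t

/-- Pass to `N(O) / O` and lift back. -/
def JobH : Prop := JobCH.{u} → AllG.{u} fun _ _ _ _ _ e t => CA0 e t → Res e t

/-- The model `E₆(F)` satisfies `TY`; `y r (a, b)` lies in the two root subgroups over `r`. -/
def JobYE : Prop := All fun F _ => ∀ [CharP F 2], ∃ (η : F × F) (y : ℕ → F × F → chevE6.group F),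
  TY (iE F) (gE F) (RingHom.prod (RingHom.id F) (RingHom.id F)) RingEquiv.prodComm η y ∧
    ∃ sw : ℕ → Bool, ∀ r, S r → ∀ a b,
      y r (a, b) = if sw r then H46.SF.yE F r b a else H46.SF.yE F r a b

/-- The model `²E₆(q)` satisfies `TY`. -/
def JobYT : Prop := All fun F _ => ∀ [CharP F 2] (K : Type) [Field K] [Fintype K] [CharP K 2]
  (x : Qx F K), ∃ (η : K) (y : ℕ → K → twistedE6 K (Nat.card F)), TY x.ιT x.τT x.φ x.σ η y ∧
    ∃ sw : ℕ → Bool, ∀ r, S r → ∀ a, y r a =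
      H46.SF.yT (q := Nat.card F) (f := (x.σ : K →+* K)) r (if sw r then x.σ a else a)

end H64.SF
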