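import Cfsg.Agent.H64.SGA1
import Cfsg.Agent.H63.Cent
import Cfsg.Agent.S2175
import Cfsg.Agent.S2176
import Cfsg.Agent.S2181

/-! STD-G: `JobFC` (non-root involutions) by one certificate for each class. -/

set_option autoImplicit false
set_option linter.unusedSectionVars false

namespace H64.SG

open H98 Subgroup Cfsg Cfsg.Lie H63 H65

section Cm

variable {G : Type*} [Group G]

/-- The elements that commute with `a` modulo `M`. -/
def cm (M : Subgroup G) (a : G) : Subgroup G where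
  carrier := {y | y ∈ Ns M ∧ y * a * y⁻¹ * a⁻¹ ∈ M}
  one_mem' := ⟨one_mem _, by simp⟩
  mul_mem' {y z} hy hz := ⟨mul_mem hy.1 hz.1, by
    have := mul_mem (conj_mem_of_mem_normalizer hy.1 hz.2) hy.2
    simpa [mul_assoc] using this⟩
  inv_mem' {y} hy := ⟨inv_mem hy.1, by
    have := conj_mem_of_mem_normalizer' hy.1 (inv_mem hy.2)
    simpa [mul_assoc] using this⟩

theorem cm_symm {M : Subgroup G} {a y : G} (h : y ∈ cm M a) (ha : a ∈ Ns M) : a ∈ cm M y :=
  ⟨ha, by simpa [mul_assoc] using inv_mem h.2⟩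

theorem mem_cm_of_comm {M : Subgroup G} {a y : G} (hy : y ∈ Ns M) (h : y * a = a * y) : y ∈ cm M a :=
  ⟨hy, by rw [h]; simp⟩

end Cm

/-- A linear form on the roots. -/
def lam (D : ChevalleyDatum) (l : List ℤ) (r : ℕ) : ℤ :=
  ∑ i ∈ Finset.range D.rank, l.getD i 0 * co D r i

/-- `∏ x_a(t)` -/
def xA {F G : Type*} [Group G] (x : ℕ → F → G) (A : List ℕ) (t : F) : G := (A.map (x · t)).prod

/-- `x_g(1)` or `x_g(1) x_g'(1)` -/
def dd {F G : Type*} [One F] [Group G] (x : ℕ → F → G) (d : ℕ × ℕ) : G :=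
  if d.2 = d.1 then x d.1 1 else x d.1 1 * x d.2 1

/-- `x_g` multiplies `xA A` by an element of `X_v`. -/
abbrev Mov (D : ChevalleyDatum) (A : List ℕ) (g v : ℕ) : Prop := ∃ a ∈ A, D.pairing g a = -1 ∧
  reflN D g a = v ∧ (∀ b ∈ A, b = a ∨ 0 ≤ D.pairing g b) ∧ ∀ b ∈ A, 0 ≤ D.pairing v b

abbrev Ok (D : ChevalleyDatum) (l : List ℤ) (A : List ℕ) (d : ℕ × ℕ) : Prop :=
  D.IsPosRoot d.1 ∧ D.IsPosRoot d.2 ∧ lam D l d.1 = lam D l d.2 ∧
    if d.2 = d.1 then ∀ a ∈ A, 0 ≤ D.pairing d.1 a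
    else ∃ a ∈ A, Mov D A d.1 (reflN D d.1 a) ∧ Mov D A d.2 (reflN D d.1 a)

abbrev Kill (D : ChevalleyDatum) (L : List ℕ) (r : ℕ) (d : ℕ × ℕ) : Prop := D.pairing d.1 r = -1 ∧
  (d.2 = d.1 ∨ D.pairing d.2 (reflN D d.1 r) ≠ 1 ∨ reflN D d.2 (reflN D d.1 r) ∉ r :: L)

def steps (D : ChevalleyDatum) (A : List ℕ) (ds : List (ℕ × ℕ)) : List (ℕ × ℕ) → Bool
  | [] => true
  | p :: L => decide ((p.1 = D.nroots - 1 ∧ L = []) ∨ (A.head? = some p.1 ∧
      ∀ a ∈ A.tail, a ∈ L.map Prod.fst) ∨ ∃ d ∈ ds[p.2]?, Kill D (L.map Prod.fst) p.1 d) &&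
    steps D A ds L

structure FCert where
  A : List ℕ
  l : List ℤ
  ds : List (ℕ × ℕ)
  L : List (ℕ × ℕ)
  mv : ℕ
  f4 : ℕ

abbrev FCert.OK (D : ChevalleyDatum) (c : FCert) : Prop :=
  (∀ a ∈ c.A, D.IsPosRoot a) ∧ c.A.Pairwise (D.pairing · · = 0) ∧ (∀ i < D.rank, 1 ≤ c.l.getD i 0) ∧
  (∀ d ∈ c.ds, Ok D c.l c.A d) ∧ (∀ i < D.rank, ∃ d ∈ c.ds, d.1 = D.simple i) ∧
  (c.L.map Prod.fst).Nodup ∧ (∀ r ∈ c.L.map Prod.fst, D.IsPosRoot r) ∧
  (∀ r ∈ D.posRoots, r ∈ c.L.map Prod.fst) ∧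
  ((c.L.map Prod.fst).map (lam D c.l)).IsChain (· ≤ ·) ∧ steps D c.A c.ds c.L ∧
  c.mv < D.nroots ∧ Mov D c.A c.mv (D.nroots - 1) ∧ c.f4 < D.nroots ∧
  (∀ a ∈ c.A, D.pairing c.f4 a = 0) ∧ D.pairing c.f4 (D.nroots - 1) = 1 ∧
  ∀ a ∈ c.A, 0 ≤ D.pairing (reflN D c.f4 (D.nroots - 1)) a

variable {D : ChevalleyDatum} [RS D]

theorem rt_refl_add {r s : Rt D} (h : D.pairing r s = -1) : rt (refl r s) = rt r + rt s := by
  rw [rt_refl, h]; module

theorem rt_refl_sub {r s : Rt D} (h : D.pairing r s = 1) : rt s = rt r + rt (refl r s) := by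
  rw [rt_refl, h]; module

variable (hD : ET D) {l : List ℤ}
include hD

theorem lam_eq (r : Rt D) : lam D l r = ∑ i : Fin D.rank, l.getD i 0 * rt r i := by
  rw [lam, Finset.sum_range]; simp only [hD.rt_eq]

theorem lam_comb {r s u : Rt D} {i j : ℤ} (h : rt u = i • rt r + j • rt s) :
    lam D l u = i * lam D l r + j * lam D l s := by
  simp only [lam_eq hD, h, Finset.mul_sum, ← Finset.sum_add_distrib]
  exact Finset.sum_congr rfl fun k _ => by simp; ring

theorem lam_pos (hl : ∀ i < D.rank, 1 ≤ l.getD i 0) {r : Rt D} (hr : Pos r) : 1 ≤ lam D l r := by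
  have := pos_iff_ht.1 hr
  rw [lam_eq hD]
  exact le_trans (show 1 ≤ ht r by omega) (Finset.sum_le_sum fun i _ =>
    le_mul_of_one_le_left (hr i) (hl i i.2) : ht r ≤ _)

omit hD in
/-- `S` lies between two steps of the filtration. -/
def Lay (l : List ℤ) (k : ℤ) (S : Set (Rt D)) : Prop :=
  (∀ r ∈ S, Pos r ∧ k ≤ lam D l r) ∧ ∀ r : Rt D, Pos r → k < lam D l r → r ∈ S

variable {F : Type*} [Field F] [CharP F 2] {G : Type*} [Group G] {x : ℕ → F → G}

theorem Lay.comb (hl : ∀ i < D.rank, 1 ≤ l.getD i 0) {k : ℤ} {S : Set (Rt D)} (h : Lay l k S) :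
    ∀ r ∈ S, ∀ s, Pos s → ∀ (c : Rt D) (i j : ℤ), 1 ≤ i → 1 ≤ j →
      rt c = i • rt r + j • rt s → c ∈ S := fun r hr s hs c i j hi hj e => by
  obtain ⟨h1, h2⟩ := h.1 r hr
  have h3 := lam_pos hD hl h1
  have h4 := lam_pos hD hl hs
  refine h.2 c (pos_of_comb h1 hs hi hj e) ?_
  rw [lam_comb hD e]
  nlinarith

theorem Lay.norm (hl : ∀ i < D.rank, 1 ≤ l.getD i 0) (hx : St D x) {k : ℤ} {S : Set (Rt D)}
    (h : Lay l k S) : UU D x ≤ Ns (gen (XR D x) S) := fun _ hu => mem_normalizer_iff.2 fun v =>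
  ⟨U_conj_mem hx (fun r hr => (h.1 r hr).1) (h.comb hD hl) hu, fun hv => by
    simpa [mul_assoc] using U_conj_mem hx (fun r hr => (h.1 r hr).1) (h.comb hD hl) (inv_mem hu) hv⟩

theorem Lay.eq_zero (hl : ∀ i < D.rank, 1 ≤ l.getD i 0) (hx : StB D x) {k : ℤ} {S : Set (Rt D)}
    (h : Lay l k S) {r : Rt D} (h1 : Pos r) (h2 : r ∉ S) {c : F} (h3 : x r c ∈ gen (XR D x) S) :
    c = 0 :=
  hx.eq_zero_of_x_eq_one r (eq_one_of_prod_mem hx.rgd (y := fun s => x s c) (L := [r])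
    (commUp_of_comb hx.toStN.toSt (fun r hr => (h.1 r hr).1)
      fun r hr s hs => h.comb hD hl r hr s (h.1 s hs).1) (fun r hr => (h.1 r hr).1) (by simp)
    (by simpa using h1) (fun s => x_mem_XR D x s c) (by simpa using h3) (by simp) h2)

omit hD [RS D] [Field F] [CharP F 2] in
theorem xA_cons (a : ℕ) (A : List ℕ) (t : F) : xA x (a :: A) t = x a t * xA x A t := by simp [xA]

theorem comm_xA (h : St D x) {A : List ℕ} (hA : ∀ a ∈ A, a < D.nroots) {g : Rt D}
    (h1 : ∀ a ∈ A, 0 ≤ D.pairing g a) (e t : F) : x g e * xA x A t = xA x A t * x g e :=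
  Commute.list_prod_right _ _ (List.forall_mem_map.2 fun a ha =>
    hD.comm_of_nonneg h (s := ⟨a, hA a ha⟩) (h1 a ha) e t)

theorem xA_add (h : St D x) {A : List ℕ} (hA : ∀ a ∈ A, a < D.nroots)
    (ho : A.Pairwise (D.pairing · · = 0)) (s t : F) : xA x A s * xA x A t = xA x A (s + t) := by
  induction A with
  | nil => simp [xA]
  | cons a A ih =>
    rw [List.pairwise_cons] at ho
    rw [List.forall_mem_cons] at hA
    rw [xA_cons, xA_cons, xA_cons, ← ih hA.2 ho.2, ← h.add a hA.1, mul_assoc, ← mul_assoc (xA x A s),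
      ← comm_xA hD h hA.2 (g := ⟨a, hA.1⟩) (fun b hb => (ho.1 b hb).ge), mul_assoc, mul_assoc]

omit hD in
theorem xA_zero (h : St D x) {A : List ℕ} (hA : ∀ a ∈ A, a < D.nroots) : xA x A 0 = 1 :=
  List.prod_eq_one (List.forall_mem_map.2 fun a ha => h.x_zero ⟨a, hA a ha⟩)

theorem conj_xA (h : St D x) {A : List ℕ} (hA : ∀ a ∈ A, a < D.nroots)
    (ho : A.Pairwise (D.pairing · · = 0)) {g : Rt D} {v : ℕ} (h1 : Mov D A g v) (e t : F) :
    x g e * xA x A t * (x g e)⁻¹ = xA x A t * x v (e * t) := by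
  obtain ⟨a, ha, h1, rfl, h2, h3⟩ := h1
  lift a to Rt D using hA a ha
  rw [reflN_eq] at h3 ⊢
  induction A with
  | nil => simp at ha
  | cons b A ih =>
    rw [List.pairwise_cons] at ho
    rw [List.forall_mem_cons] at hA h2 h3
    rw [xA_cons, ← conj_mul]
    by_cases hb : b = a
    · subst hb
      rw [hD.conj_add h (rt_refl_add h1), comm_xA hD h hA.2 fun b hb => (h2.2 b hb).resolve_left
        (by rintro rfl; have := ho.1 _ hb; rw [pairing_self] at this; omega), mul_inv_cancel_right,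
        mul_assoc, comm_xA hD h hA.2 h3.2, mul_assoc]
    · rw [ih hA.2 ho.2 ((List.mem_cons.1 ha).resolve_left (Ne.symm hb)) h2.2 h3.2,
        hD.comm_of_nonneg h (s := ⟨b, hA.1⟩) (h2.1.resolve_left hb), mul_inv_cancel_right, mul_assoc]

theorem dd_comm (h : St D x) {A : List ℕ} (hA : ∀ a ∈ A, a < D.nroots)
    (ho : A.Pairwise (D.pairing · · = 0)) {d : ℕ × ℕ} (hd : Ok D l A d) (t : F) :
    dd x d * xA x A t = xA x A t * dd x d := by
  obtain ⟨g, g'⟩ := d
  obtain ⟨h1, h2, -, h3⟩ := hd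
  lift g to Rt D using h1.1
  lift g' to Rt D using h2.1
  unfold dd
  split_ifs at h3 ⊢
  · exact comm_xA hD h hA h3 1 t
  · obtain ⟨a, ha, h4, h5⟩ := h3
    lift a to Rt D using hA a ha
    have h6 : 0 ≤ D.pairing g (refl g a) := by
      obtain ⟨b, hb, e1, e2, -⟩ := h4
      lift b to Rt D using hA b hb
      rw [reflN_eq, reflN_eq] at e2
      rw [← e2, pairing_add g (rt_refl_add e1), pairing_self, e1]
      omega
    rw [← mul_inv_eq_iff_eq_mul, show x g 1 * x g' 1 * xA x A t * (x g 1 * x g' 1)⁻¹ =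
      x g 1 * (x g' 1 * xA x A t * (x g' 1)⁻¹) * (x g 1)⁻¹ by group, conj_xA hD h hA ho h5, ← conj_mul,
      conj_xA hD h hA ho h4, reflN_eq, hD.comm_of_nonneg h h6, mul_inv_cancel_right, mul_assoc,
      x_sq h, mul_one]

omit hD [CharP F 2] in
theorem dd_mem {d : ℕ × ℕ} {A : List ℕ} (hd : Ok D l A d) : dd x d ∈ UU D x := by
  have h1 := x_mem_gen (x := x) (S := {r | Pos r}) ((isPosRoot_iff ⟨d.1, hd.1.1⟩).1 hd.1) 1
  unfold dd
  split_ifs
  exacts [h1, mul_mem h1 (x_mem_gen (S := {r | Pos r}) ((isPosRoot_iff ⟨d.2, hd.2.1.1⟩).1 hd.2.1) 1)]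

theorem kill (hl : ∀ i < D.rank, 1 ≤ l.getD i 0) (hx : StB D x) {A L : List ℕ} {r : Rt D} (hr : Pos r)
    (h0 : (r : ℕ) ∉ L) (hL : Lay l (lam D l r) {s : Rt D | (s : ℕ) ∈ L}) {d : ℕ × ℕ} (hd : Ok D l A d)
    (hk : Kill D L r d) {c : F} {w : G} (hw : w ∈ gen (XR D x) {s : Rt D | (s : ℕ) ∈ L})
    (e : x r c * w * dd x d = dd x d * (x r c * w)) : c = 0 := by
  have h := hx.toStN.toSt
  have hU := dd_mem (x := x) hd
  obtain ⟨g, g'⟩ := d
  obtain ⟨h1, h2, h3, -⟩ := hd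
  lift g to Rt D using h1.1
  lift g' to Rt D using h2.1
  rw [isPosRoot_iff] at h1 h2
  obtain ⟨k1, k2⟩ := hk
  simp only [reflN_eq] at k2 h3
  have e1 := (rt_refl_add k1).trans (add_comm _ _)
  generalize refl g r = v at e1 k2
  have l1 : ∀ {r s u : Rt D}, rt u = rt r + rt s → lam D l u = lam D l r + lam D l s := fun e => by
    simpa using lam_comb hD (i := 1) (j := 1) (by simpa using e)
  have v1 : Pos v := pos_of_comb (i := 1) (j := 1) hr h1 le_rfl le_rfl (by simpa using e1)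
  have hM : Lay l (lam D l v) {u | Pos u ∧ lam D l v ≤ lam D l u ∧ u ≠ v} :=
    ⟨fun u hu => ⟨hu.1, hu.2.1⟩, fun u u1 u2 => ⟨u1, u2.le, by rintro rfl; omega⟩⟩
  have hN := hM.norm hD hl h
  have xU : ∀ {s : Rt D}, Pos s → ∀ a, x s a ∈ UU D x := fun hs a => x_mem_gen hs a
  have key : ∀ s p : Rt D, Pos s → Pos p → lam D l v ≤ lam D l s + lam D l p → rt v ≠ rt s + rt p →
      ∀ a, x p 1 ∈ cm (gen (XR D x) {u | Pos u ∧ lam D l v ≤ lam D l u ∧ u ≠ v}) (x s a) :=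
    fun s p s1 p1 s2 s3 a => by
      by_cases h4 : 0 ≤ D.pairing p s
      · exact mem_cm_of_comm (hN (xU p1 1)) (hD.comm_of_nonneg h h4 1 a)
      · rcases hD.pairing_cases p s with rfl | rfl | h5 | h5 | h5
        · rw [pairing_self] at h4; omega
        · exact absurd p1 (pos_negR.1 s1)
        · have e2 := rt_refl_add h5
          refine ⟨hN (xU p1 1), ?_⟩
          rw [hD.commutator_add h e2]
          refine x_mem_gen (And.intro (pos_of_comb (i := 1) (j := 1)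
            p1 s1 le_rfl le_rfl (by simpa using e2)) (And.intro (by rw [l1 e2]; omega) ?_)) _
          rintro rfl
          exact s3 (e2.trans (add_comm _ _))
        all_goals omega
  have k3 : (g' : ℕ) ≠ g → ∀ s : Rt D, (s : ℕ) ∈ (r : ℕ) :: L → rt v ≠ rt s + rt g' := fun n s hs e2 => by
    have e3 := pairing_add g' e2
    rw [pairing_self, hD.pairing_comm g' s, hD.pairing_of_add e2] at e3
    rcases k2 with k2 | k2 | k2
    · exact n k2
    · omega
    · refine k2 ?_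
      rwa [show refl g' v = s from rt_inj (by rw [rt_refl, e3, e2]; module)]
  have h5 : w ∈ cm _ (dd x (g, g')) := gen_le_iff.2 (fun s hs a => cm_symm (by
    obtain ⟨s1, s2⟩ := hL.1 s hs
    have h6 := key s g s1 h1 (by rw [l1 e1]; omega) (fun e2 => h0 (by
      rwa [← rt_inj (add_right_cancel (e2.symm.trans e1))])) a
    unfold dd
    split_ifs with n
    exacts [h6, mul_mem h6 (key s g' s1 h2 (by rw [l1 e1]; omega)
      (k3 n s (List.mem_cons_of_mem _ hs)) a)]) (hN (xU (hL.1 s hs).1 a))) hw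
  have h6 := cm_symm ((mul_mem_cancel_right h5).1 (mem_cm_of_comm (mul_mem (hN (xU hr c)) h5.1) e))
    (hN hU)
  have h7 : x g 1 ∈ cm (gen (XR D x) {u | Pos u ∧ lam D l v ≤ lam D l u ∧ u ≠ v}) (x r c) := by
    unfold dd at h6
    split_ifs at h6 with n
    exacts [h6, (mul_mem_cancel_right (key r g' hr h2 (by rw [l1 e1]; omega)
      (k3 n r List.mem_cons_self) c)).1 h6]
  have h8 := h7.2
  rw [hD.commutator_add h (e1.trans (add_comm _ _)), one_mul] at h8
  exact hM.eq_zero hD hl hx v1 (fun h => h.2.2 rfl) h8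

theorem cen_steps (hl : ∀ i < D.rank, 1 ≤ l.getD i 0) (hx : StB D x) {A : List ℕ}
    (hA : ∀ a ∈ A, a < D.nroots) (ho : A.Pairwise (D.pairing · · = 0)) {ds : List (ℕ × ℕ)}
    (hd : ∀ d ∈ ds, Ok D l A d) (L : List (ℕ × ℕ)) (h1 : (L.map Prod.fst).Nodup)
    (h2 : ((L.map Prod.fst).map (lam D l)).Pairwise (· ≤ ·)) (h3 : steps D A ds L) (k : ℤ)
    (h0 : ∀ r ∈ L.map Prod.fst, r < D.nroots)
    (h4 : Lay l k {s : Rt D | (s : ℕ) ∈ L.map Prod.fst}) {w : G}
    (hw : w ∈ gen (XR D x) {s : Rt D | (s : ℕ) ∈ L.map Prod.fst})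
    (hc : ∀ d ∈ ds, w * dd x d = dd x d * w) : ∃ t c, w = xA x A t * x (hi D) c := by
  have h := hx.toStN.toSt
  induction L generalizing k w with
  | nil =>
    refine ⟨0, 0, ?_⟩
    rw [xA_zero h hA, h.x_zero, one_mul, ← mem_bot, ← gen_empty (XR D x)]
    simpa using hw
  | cons p L ih =>
    obtain ⟨r, i⟩ := p
    simp only [List.map_cons, List.nodup_cons, List.pairwise_cons, List.forall_mem_cons,
      List.forall_mem_map (f := lam D l), steps, Bool.and_eq_true, decide_eq_true_eq] at h0 h1 h2 h3 h4 hw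
    lift r to Rt D using h0.1
    obtain ⟨r1, r2⟩ := h4.1 r List.mem_cons_self
    have h5 : Lay l (lam D l r) {s : Rt D | (s : ℕ) ∈ L.map Prod.fst} :=
      ⟨fun s hs => ⟨(h4.1 s (List.mem_cons_of_mem _ hs)).1, h2.1 s hs⟩, fun s s1 s2 =>
        (List.mem_cons.1 (h4.2 s s1 (by omega))).resolve_left fun e => by rw [e] at s2; omega⟩
    obtain ⟨_, a1, v, hv, rfl⟩ := (mem_sup_left_norm ((le_gen (XR D x) (S := {r | Pos r}) r1).trans
      (h5.norm hD hl h))).1 (gen_le_iff.2 (fun s hs a =>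
        (List.mem_cons.1 hs).elim (fun e => mem_sup_left (e ▸ x_mem_XR D x r a))
          fun e => mem_sup_right (x_mem_gen e a)) hw)
    obtain ⟨c, rfl⟩ := h.mem_XR.1 a1
    rcases h3.1 with ⟨e, rfl⟩ | ⟨e1, e2⟩ | ⟨d, d1, d2⟩
    · obtain rfl : r = hi D := Fin.ext e
      refine ⟨0, c, ?_⟩
      rw [xA_zero h hA, one_mul, mul_eq_left, ← mem_bot, ← gen_empty (XR D x)]
      simpa using hv
    · obtain ⟨B, rfl⟩ : ∃ B, A = (r : ℕ) :: B := List.head?_eq_some_iff.1 e1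
      obtain ⟨t, c', e⟩ := ih h1.2 h2.2 h3.2 _ h0.2 h5 (w := (xA x (r :: B) c)⁻¹ * (x r c * v)) (by
        rw [xA_cons, mul_inv_rev, mul_assoc, inv_mul_cancel_left]
        exact mul_mem (inv_mem (list_prod_mem (List.forall_mem_map.2 fun b hb => x_mem_gen
          (r := ⟨b, hA b (List.mem_cons_of_mem _ hb)⟩) (e2 b hb) c))) hv) fun d hd' => by
        rw [mul_assoc, hc d hd', ← mul_assoc,
          ← (show Commute _ _ from dd_comm hD h hA ho (hd d hd') c).inv_right.eq, mul_assoc]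
      exact ⟨c + t, c', by rw [← xA_add hD h hA ho, mul_assoc, ← e, mul_inv_cancel_left]⟩
    · have d3 := List.mem_of_getElem? d1
      obtain rfl := kill hD hl hx r1 h1.1 h5 (hd d d3) d2 hv (hc d d3)
      rw [h.x_zero, one_mul] at hc ⊢
      exact ih h1.2 h2.2 h3.2 _ h0.2 h5 hv hc

/-- The torus scales a product over orthogonal roots. -/
theorem exists_scale [Finite F] (h : StN D x) {A : List ℕ} (hA : ∀ a ∈ A, a < D.nroots)
    (ho : A.Pairwise (D.pairing · · = 0)) {t : F} (ht : t ≠ 0) : ∃ g : G, (∀ a ∈ A,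
      g * x a 1 * g⁻¹ = x a t) ∧ ∀ b : Rt D, (∀ a ∈ A, D.pairing b a = 0) → ∀ c, g * x b c * g⁻¹ = x b c := by
  obtain ⟨m, hm⟩ : IsSquare t := by
    have := Fintype.ofFinite F
    exact FiniteField.isSquare_of_char_two (ringChar.eq F 2) _
  have m0 : m ≠ 0 := by rintro rfl; simp [ht] at hm
  induction A with
  | nil => exact ⟨1, by simp, by simp⟩
  | cons a A ih =>
    rw [List.pairwise_cons] at ho
    rw [List.forall_mem_cons] at hA
    obtain ⟨g, g1, g2⟩ := ih hA.2 ho.2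
    lift a to Rt D using hA.1
    have e : ∀ y, hh D x a m * g * y * (hh D x a m * g)⁻¹ = hh D x a m * (g * y * g⁻¹) * (hh D x a m)⁻¹ :=
      fun y => by group
    refine ⟨hh D x a m * g, List.forall_mem_cons.2 ⟨?_, fun b hb => ?_⟩, fun b hb c => ?_⟩
    · rw [e, g2 a ho.1, h.hh_conj a a m0, pairing_self, zpow_ofNat, sq, ← hm, mul_one]
    · rw [e, g1 b hb, h.hh_conj a ⟨b, hA.2 b hb⟩ m0, ho.1 b hb, zpow_zero, one_mul]
    · rw [List.forall_mem_cons] at hb
      rw [e, g2 b hb.2, h.hh_conj a b m0, hD.pairing_comm, hb.1, zpow_zero, one_mul]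

omit hD in
theorem x_neg_cube (h : StN D x) (r : Rt D) : (x r 1 * x (negR r) 1) ^ 3 = 1 := by
  have h1 := nn_conj2 h r r 1
  have h2 := x_sq h.toSt r 1
  have h3 := x_sq h.toSt (negR r) 1
  rw [refl_self, nn_eq, inv_one, CharTwo.neg_eq, ← negR_val, mul_inv_rev, mul_inv_rev, x_inv h.toSt,
    x_inv h.toSt] at h1
  generalize x r 1 = a at *
  generalize x (negR r) 1 = b at *
  calc (a * b) ^ 3 = a * b * (a * a * a) * b * a * b := by rw [h2]; simp [pow_succ, mul_assoc]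
    _ = a * b * a * a * (a * (b * a)) * b := by simp only [mul_assoc]
    _ = 1 := by rw [h1, h3]

/-- The `O²` trick. -/
theorem mem_O2_of_add (h : StN D x) {P : Subgroup G} {r s v : Rt D} (e : rt v = rt r + rt s)
    (h1 : x r 1 ∈ P) (h2 : x (negR r) 1 ∈ P) {c : F} (h3 : x s c ∈ P) : x v c ∈ O2 P := by
  have h4 := mem_O2_of_odd (mul_mem h1 h2) (odd_orderOf_of_pow (by decide) (x_neg_cube h r))
  have h5 := mul_mem h4 (conj_mem_of_mem_normalizer (Ns_le_Ns_O2 P (le_normalizer h3)) (inv_mem h4))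
  have h6 := hD.comm_of_nonneg h.toSt (r := negR r) (s := s) (by
    rw [negR_val, pairing_negR_left, hD.pairing_of_add e]; omega) 1 c
  rwa [← mul_assoc, ← mul_assoc, mul_assoc (x r 1), h6, mul_inv_rev, ← mul_assoc, ← mul_assoc,
    mul_inv_cancel_right, hD.commutator_add h.toSt e, one_mul] at h5

omit [CharP F 2] [Group G] in
theorem FCert.OK.main [Tab D] [Comm D] {F : Type} [Field F] [Finite F] [CharP F 2] {c : FCert}
    (h : c.OK D) : (∀ w, Is2 w → w ∈ Cs (UU D (xG D F) ⊓ Cz (xA (xG D F) c.A 1)) →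
      IsConj (xA (xG D F) c.A 1) w ∨ ∃ a, w = xG D F (hi D) a) ∧
      ∀ a, xG D F (hi D) a ∈ O2 (Cz (xA (xG D F) c.A 1)) ∧
        (xG D F (hi D) a ∈ Cs (Cz (xA (xG D F) c.A 1)) → a = 0) := by
  obtain ⟨h1, h2, h3, h4, h5, h6, h7, h8, h9, h10, h11, h12, h13, h14, h15, h16⟩ := h
  have hB := (ad D F).toStB
  have hs := hB.toStN.toSt
  have hA : ∀ a ∈ c.A, a < D.nroots := fun a ha => (h1 a ha).1
  refine ⟨fun w w1 w2 => ?_, fun a => ?_⟩
  · have w3 : ∀ d ∈ c.ds, w * dd (xG D F) d = dd (xG D F) d * w := fun d hd =>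
      (w2 _ ⟨dd_mem (h4 d hd), mem_Cz.2 (dd_comm hD hs hA h2 (h4 d hd) 1).symm⟩).symm
    have w4 : w ∈ hB.rgd.B := mem_B_of_conj_notMem_Up hB.rgd ((ad D F).Gp_eq ▸ mem_top w) fun i => by
      obtain ⟨d, d1, d2⟩ := h5 i i.2
      refine ⟨_, dd_mem (h4 d d1), fun d3 => one_ne_zero (hB.eq_zero_of_x_eq_one (simpleR i)
        (hB.rgd.eq_one_of_mem_X_Up (x_mem_XR D _ (simpleR i) 1) ?_)), by
          rw [w3 d d1, mul_inv_cancel_right]; exact hB.rgd.U_le_B (dd_mem (h4 d d1))⟩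
      unfold dd at d3
      split_ifs at d3 with n
      · rwa [d2] at d3
      · obtain ⟨-, d4, -⟩ := h4 d d1
        rw [d2] at d3 n
        exact (mul_mem_cancel_right (x_mem_gen (r := ⟨d.2, d4.1⟩)
          (And.intro ((isPosRoot_iff ⟨d.2, d4.1⟩).1 d4) fun e => n (congrArg Fin.val e)) 1)).1 d3
    have w5 : w ∈ UU D (xG D F) := (syl_UU D F).le_of_le_normalizer' w1.zpowers le_top
      (zpowers_le.2 ((normalizer_U (T := hB.rgd) (ad D F).Gp_eq).ge w4)) (mem_zpowers w)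
    have e0 : {s : Rt D | (s : ℕ) ∈ c.L.map Prod.fst} = {s | Pos s} := Set.ext fun s =>
      ⟨fun hs => (isPosRoot_iff s).1 (h7 s hs), fun hs => h8 s (mem_posRoots.2 ⟨s.2, hs⟩)⟩
    obtain ⟨t, a, rfl⟩ := cen_steps hD h3 hB hA h2 h4 c.L h6 (List.isChain_iff_pairwise.1 h9) h10 0
      (fun r hr => (h7 r hr).1) (e0 ▸ ⟨fun r hr => ⟨hr, by have := lam_pos hD h3 hr; omega⟩,
        fun r hr _ => hr⟩) (e0 ▸ w5) w3
    by_cases ht : t = 0
    · exact Or.inr ⟨a, by rw [ht, xA_zero hs hA, one_mul]⟩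
    obtain ⟨g, g1, -⟩ := exists_scale hD hB.toStN hA h2 ht
    refine Or.inl (IsConj.trans (b := xA (xG D F) c.A t) (isConj_iff.2 ⟨g, ?_⟩)
      (isConj_iff.2 ⟨xG D F c.mv (a / t), ?_⟩))
    · rw [xA, xA, RGD.list_prod_conj]
      exact congrArg List.prod (List.map_congr_left g1)
    · rw [conj_xA hD hs hA h2 (g := ⟨c.mv, h11⟩) h12, div_mul_cancel₀ _ ht]; rfl
  · have e := rt_refl_sub (r := ⟨c.f4, h13⟩) (s := hi D) h15
    have m1 : ∀ {r : Rt D}, (∀ a ∈ c.A, 0 ≤ D.pairing r a) → ∀ b, xG D F r b ∈ Cz (xA (xG D F) c.A 1) :=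
      fun h b => mem_Cz.2 (comm_xA hD hs hA h b 1).symm
    have m2 := m1 (r := negR ⟨c.f4, h13⟩) (fun a ha => by
      rw [negR_val, pairing_negR_left (s := ⟨a, hA a ha⟩), h14 a ha]; omega) 1
    refine ⟨mem_O2_of_add hD hB.toStN e (m1 (r := ⟨c.f4, h13⟩) (fun a ha => (h14 a ha).ge) 1) m2
      (m1 (r := refl ⟨c.f4, h13⟩ (hi D)) (fun a ha => by rw [← reflN_eq]; exact h16 a ha) a), fun h => ?_⟩
    have e2 := hD.commutator_add hs (r := negR ⟨c.f4, h13⟩) (s := hi D) (u := refl ⟨c.f4, h13⟩ (hi D))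
      (by rw [e, rt_negR]; abel) 1 a
    rw [h _ m2, mul_inv_cancel_right, mul_inv_cancel, one_mul] at e2
    exact hB.eq_zero_of_x_eq_one _ e2.symm

omit hD [RS D]

def certs6 : List FCert := [
  ⟨[68, 66], [1, 1, 1, 1, 1, 1], [(56, 56), (46, 46), (42, 37), (39, 39), (37, 42), (36, 36)], [(36,
    4), (37, 3), (39, 1), (42, 0), (46, 3), (56, 2), (38, 3), (40, 1), (43, 0), (47, 2), (57, 3),
    (41, 1), (44, 0), (48, 5), (50, 0), (58, 1), (45, 0), (49, 2), (51, 0), (59, 1), (61, 4), (52,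
    0), (53, 0), (60, 1), (62, 3), (54, 0), (63, 3), (64, 2), (55, 0), (65, 2), (67, 5), (68, 0),
    (66, 2), (69, 3), (70, 1), (71, 0)], 48, 46⟩,
  ⟨[55, 65, 67], [1, 1, 1, 1, 1, 1], [(56, 37), (46, 46), (42, 36), (39, 39), (37, 56), (36, 42)],
    [(36, 4), (37, 3), (39, 1), (42, 0), (46, 3), (56, 2), (38, 3), (40, 1), (43, 0), (47, 2), (57,
    3), (41, 1), (44, 1), (48, 2), (50, 0), (58, 1), (45, 0), (51, 3), (59, 1), (61, 4), (49, 2),
    (52, 0), (53, 0), (60, 1), (62, 3), (54, 0), (63, 3), (64, 2), (55, 0), (65, 4), (67, 5), (66,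
    2), (68, 4), (69, 3), (70, 1), (71, 0)], 49, 46⟩]

def certs7 : List FCert := [
  ⟨[118, 121], [1, 1, 1, 1, 1, 1, 1], [(93, 93), (78, 66), (73, 73), (69, 69), (66, 78), (64, 64),
    (63, 63)], [(63, 5), (64, 4), (66, 3), (69, 1), (73, 0), (78, 3), (93, 2), (65, 4), (67, 3),
    (70, 2), (74, 0), (79, 2), (94, 3), (68, 3), (71, 1), (75, 0), (80, 2), (83, 0), (95, 1), (72,
    1), (76, 0), (81, 2), (84, 0), (96, 5), (99, 4), (77, 0), (82, 2), (85, 0), (87, 0), (97, 1),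
    (100, 3), (86, 0), (88, 0), (98, 1), (101, 3), (103, 2), (89, 0), (90, 0), (102, 3), (104, 2),
    (109, 5), (91, 0), (105, 2), (106, 2), (110, 4), (92, 0), (107, 2), (111, 4), (112, 3), (108,
    2), (113, 3), (115, 1), (114, 3), (116, 1), (119, 6), (117, 1), (120, 5), (118, 0), (121, 4),
    (122, 3), (123, 2), (124, 0), (125, 0)], 96, 93⟩,
  ⟨[92, 107, 111], [1, 1, 1, 1, 1, 1, 1], [(93, 64), (78, 78), (73, 66), (69, 69), (66, 73), (64,
    93), (63, 63)], [(63, 5), (64, 4), (66, 3), (69, 1), (73, 0), (78, 3), (93, 2), (65, 4), (67,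
    3), (70, 1), (74, 0), (79, 2), (94, 3), (68, 3), (71, 1), (75, 0), (80, 5), (83, 0), (95, 1),
    (72, 1), (76, 1), (81, 2), (84, 0), (96, 1), (99, 4), (77, 0), (82, 2), (85, 3), (87, 0), (97,
    1), (100, 3), (86, 0), (88, 4), (98, 1), (101, 3), (103, 2), (89, 0), (90, 0), (102, 3), (104,
    2), (109, 5), (91, 0), (105, 2), (106, 6), (110, 4), (92, 0), (107, 5), (111, 4), (112, 3),
    (108, 2), (113, 3), (115, 1), (114, 3), (116, 1), (119, 6), (117, 1), (120, 5), (118, 1), (121,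
    4), (122, 3), (123, 2), (124, 0), (125, 0)], 106, 97⟩,
  ⟨[114, 116, 119], [1, 1, 1, 1, 1, 1, 1], [(93, 93), (78, 63), (73, 73), (69, 64), (66, 66), (64,
    69), (63, 78)], [(63, 5), (64, 4), (66, 3), (69, 1), (73, 0), (78, 3), (93, 2), (65, 4), (67,
    6), (70, 1), (74, 0), (79, 2), (94, 3), (68, 3), (71, 1), (75, 0), (80, 2), (83, 0), (95, 1),
    (72, 2), (76, 0), (81, 2), (84, 0), (96, 1), (99, 4), (77, 0), (82, 2), (85, 0), (87, 0), (97,
    1), (100, 3), (86, 0), (88, 0), (103, 2), (101, 3), (98, 1), (89, 0), (90, 0), (102, 3), (104,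
    2), (109, 5), (91, 0), (105, 2), (106, 2), (110, 4), (92, 0), (107, 2), (111, 4), (112, 3),
    (108, 2), (113, 3), (115, 1), (114, 0), (116, 5), (119, 6), (117, 1), (120, 5), (118, 1), (121,
    4), (122, 3), (123, 2), (124, 0), (125, 0)], 98, 93⟩,
  ⟨[92, 107, 111, 119], [1, 1, 1, 1, 1, 1, 3], [(93, 64), (78, 78), (73, 66), (69, 69), (66, 73),
    (64, 93), (63, 80)], [(64, 4), (66, 3), (69, 1), (73, 0), (78, 3), (93, 2), (67, 3), (70, 1),
    (74, 0), (79, 2), (94, 3), (63, 5), (71, 1), (75, 0), (80, 5), (83, 0), (95, 1), (65, 4), (76,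
    1), (81, 2), (84, 0), (96, 1), (99, 4), (68, 3), (85, 3), (87, 0), (97, 1), (100, 3), (72, 1),
    (88, 4), (101, 3), (103, 2), (77, 0), (82, 2), (90, 0), (104, 2), (109, 5), (86, 0), (98, 1),
    (106, 6), (110, 4), (89, 0), (102, 3), (112, 3), (91, 0), (105, 2), (115, 1), (92, 0), (107, 5),
    (111, 4), (119, 6), (108, 2), (113, 3), (114, 3), (116, 1), (117, 1), (120, 5), (118, 1), (121,
    4), (122, 3), (123, 2), (124, 0), (125, 0)], 98, 97⟩]

def certs8 : List FCert := [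
  ⟨[232, 233], [1, 1, 1, 1, 1, 1, 1, 1], [(162, 162), (141, 135), (135, 141), (130, 130), (126,
    126), (123, 123), (121, 121), (120, 120)], [(120, 6), (121, 5), (123, 4), (126, 3), (130, 1),
    (135, 0), (141, 3), (162, 2), (122, 5), (124, 4), (127, 3), (131, 1), (136, 0), (142, 2), (163,
    3), (125, 4), (128, 3), (132, 1), (137, 0), (143, 2), (147, 0), (164, 1), (129, 3), (133, 1),
    (138, 0), (144, 2), (148, 0), (165, 1), (169, 4), (134, 1), (139, 0), (145, 2), (149, 0), (152,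
    0), (166, 1), (170, 3), (140, 0), (146, 2), (150, 0), (153, 0), (167, 1), (171, 3), (174, 2),
    (151, 0), (154, 0), (156, 0), (168, 1), (172, 3), (175, 2), (184, 5), (155, 0), (157, 0), (173,
    3), (176, 2), (178, 2), (185, 4), (158, 0), (159, 0), (177, 2), (179, 2), (186, 4), (188, 3),
    (160, 0), (180, 2), (181, 2), (187, 4), (189, 3), (194, 1), (161, 0), (182, 2), (190, 3), (191,
    3), (195, 1), (204, 6), (183, 2), (192, 3), (196, 1), (197, 1), (205, 5), (193, 3), (198, 1),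
    (200, 1), (206, 5), (207, 4), (199, 1), (201, 1), (208, 4), (210, 3), (202, 1), (209, 4), (211,
    3), (214, 2), (203, 1), (212, 3), (215, 2), (219, 0), (213, 3), (216, 2), (220, 0), (226, 7),
    (217, 2), (221, 0), (227, 6), (218, 2), (222, 0), (228, 5), (223, 0), (229, 4), (224, 0), (230,
    3), (225, 0), (231, 1), (232, 0), (233, 2), (234, 3), (235, 4), (236, 5), (237, 6), (238, 7),
    (239, 0)], 140, 120⟩,
  ⟨[228, 222, 218], [1, 1, 1, 1, 1, 1, 1, 1], [(162, 123), (141, 141), (135, 126), (130, 130), (126,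
    135), (123, 162), (121, 121), (120, 120)], [(120, 6), (121, 5), (123, 4), (126, 3), (130, 1),
    (135, 0), (141, 3), (162, 2), (122, 5), (124, 4), (127, 3), (131, 1), (136, 0), (142, 2), (163,
    3), (125, 4), (128, 3), (132, 1), (137, 0), (143, 5), (147, 0), (164, 1), (129, 3), (133, 1),
    (138, 1), (144, 2), (148, 0), (165, 1), (169, 4), (134, 1), (139, 0), (145, 2), (149, 3), (152,
    0), (166, 1), (170, 3), (140, 0), (146, 2), (150, 0), (153, 4), (167, 1), (171, 3), (174, 2),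
    (151, 0), (154, 0), (156, 0), (168, 1), (172, 3), (175, 2), (184, 5), (155, 0), (157, 0), (173,
    3), (176, 2), (178, 6), (185, 4), (158, 0), (159, 7), (177, 2), (179, 5), (186, 4), (188, 3),
    (160, 6), (180, 5), (181, 2), (187, 4), (189, 3), (194, 1), (161, 0), (182, 2), (190, 3), (191,
    3), (195, 1), (204, 6), (183, 2), (192, 3), (196, 1), (197, 1), (205, 5), (193, 3), (198, 1),
    (200, 1), (206, 5), (207, 4), (199, 1), (201, 1), (208, 4), (210, 3), (202, 1), (209, 4), (211,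
    3), (214, 2), (203, 1), (212, 3), (215, 2), (219, 0), (213, 3), (216, 2), (220, 0), (226, 7),
    (217, 2), (221, 0), (227, 6), (228, 0), (222, 0), (218, 2), (223, 0), (229, 4), (224, 0), (230,
    3), (225, 0), (231, 1), (232, 1), (233, 2), (234, 3), (235, 4), (236, 5), (237, 6), (238, 7),
    (239, 0)], 160, 120⟩,
  ⟨[226, 220, 213, 216], [1, 1, 1, 1, 1, 1, 1, 1], [(162, 120), (141, 141), (135, 121), (130, 123),
    (126, 126), (123, 130), (121, 135), (120, 162)], [(120, 6), (121, 5), (123, 4), (126, 3), (130,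
    1), (135, 0), (141, 3), (162, 2), (122, 5), (124, 4), (127, 6), (131, 1), (136, 0), (142, 2),
    (163, 3), (125, 4), (128, 3), (132, 1), (137, 0), (143, 2), (147, 0), (164, 1), (129, 3), (133,
    1), (138, 0), (144, 2), (148, 0), (165, 1), (169, 4), (134, 1), (139, 0), (145, 7), (149, 0),
    (152, 0), (166, 1), (170, 3), (140, 1), (146, 2), (150, 0), (153, 0), (167, 1), (171, 6), (174,
    2), (151, 3), (154, 0), (156, 0), (168, 1), (172, 3), (175, 2), (184, 5), (155, 4), (157, 0),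
    (173, 3), (176, 4), (178, 2), (185, 4), (158, 5), (159, 0), (177, 2), (179, 5), (186, 4), (188,
    3), (160, 6), (180, 2), (181, 2), (187, 4), (189, 3), (194, 1), (161, 0), (182, 2), (190, 3),
    (191, 7), (195, 1), (204, 6), (196, 1), (197, 1), (205, 5), (192, 3), (183, 2), (193, 3), (198,
    1), (200, 1), (206, 5), (207, 4), (199, 1), (201, 1), (208, 4), (210, 3), (202, 1), (209, 4),
    (211, 3), (214, 2), (203, 1), (212, 3), (215, 2), (219, 0), (226, 0), (220, 0), (216, 2), (213,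
    3), (217, 2), (221, 0), (227, 6), (218, 2), (222, 0), (228, 5), (223, 0), (229, 4), (224, 0),
    (230, 3), (225, 0), (231, 1), (232, 1), (233, 2), (234, 3), (235, 4), (236, 5), (237, 6), (238,
    7), (239, 0)], 183, 168⟩]

set_option synthInstance.maxSize 2000 in
set_option synthInstance.maxHeartbeats 200000 in
theorem ok6 : ∀ c ∈ certs6, c.OK chevE6 := by decide +kernel
set_option synthInstance.maxSize 2000 in
set_option synthInstance.maxHeartbeats 200000 in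
theorem ok7 : ∀ c ∈ certs7, c.OK chevE7 := by decide +kernel
set_option synthInstance.maxSize 2000 in
set_option synthInstance.maxHeartbeats 200000 in
theorem ok8 : ∀ c ∈ certs8, c.OK chevE8 := by decide +kernel

theorem of_classes [RS D] [Tab D] [Comm D] {F : Type} [Field F] {R : List (List ℕ × List ℕ)}
    (h : ∀ g ∈ D.group F, orderOf g = 2 → ∃ B ∈ R, ∃ h ∈ D.group F, h * g * h⁻¹ = pr (xU D F) B.1)
    {g : ↥(D.group F)} (hg : Inv2 g) : ∃ B ∈ R, IsConj g (xA (xG D F) B.1 1) := by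
  obtain ⟨B, h1, k, h2, h3⟩ := h g g.2 (by
    rw [orderOf_coe]; exact orderOf_eq_prime (by rw [pow_two, hg.1]) hg.2)
  refine ⟨B, h1, isConj_iff.2 ⟨⟨k, h2⟩, Subtype.ext (h3.trans ?_)⟩⟩
  rw [xA, ← coe_subtype, map_list_prod, List.map_map]; rfl

/-- The classes of involutions. -/
theorem ET.invol [RS D] [Tab D] [Comm D] (hD : ET D) {F : Type} [Field F] [Finite F] [CharP F 2]
    {g : ↥(D.group F)} (hg : Inv2 g) : IsConj g (xG D F (hi D) 1) ∨
      ∃ c : FCert, c.OK D ∧ IsConj g (xA (xG D F) c.A 1) := by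
  rcases id hD with rfl | rfl | rfl
  · open Cfsg.Agent.S2175 in
    obtain ⟨B, h1, h2⟩ := of_classes
      (invol_classes one_ne_zero (cube_hyp c0) H C R (fun _ _ => rfl) hH c1 c2 c3 c4).2.1 hg
    rcases (by decide : ∀ B ∈ Cfsg.Agent.S2175.R, B.1 = [71] ∨ ∃ c ∈ certs6, c.A = B.1) B h1 with
      e | ⟨c, c1, e⟩
    · rw [e, xA_cons, xA, List.map_nil, List.prod_nil, mul_one] at h2; exact Or.inl h2
    · exact Or.inr ⟨c, ok6 c c1, e ▸ h2⟩
  · open Cfsg.Agent.S2181 in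
    obtain ⟨B, h1, h2⟩ := of_classes
      (invol_classes one_ne_zero (cube_hyp c0) H C R (fun _ _ => rfl) hH c1 c2 c3 c4).2.1 hg
    rcases (by decide +kernel : ∀ B ∈ Cfsg.Agent.S2181.R, B.1 = [125] ∨ (∃ c ∈ certs7, c.A = B.1) ∨
      (∀ b ∈ B.1, b < 126) ∧ ∃ c ∈ certs7, c.A = B.1.map (reflN chevE7 79)) B h1 with
      e | ⟨c, c1, e⟩ | ⟨e0, c, c1, e⟩
    · rw [e, xA_cons, xA, List.map_nil, List.prod_nil, mul_one] at h2; exact Or.inl h2
    · exact Or.inr ⟨c, ok7 c c1, e ▸ h2⟩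
    · refine Or.inr ⟨c, ok7 c c1, h2.trans (isConj_iff.2 ⟨nn chevE7 (xG chevE7 F) 79 1, ?_⟩)⟩
      rw [e, xA, xA, RGD.list_prod_conj, List.map_map]
      refine congrArg List.prod (List.map_congr_left fun b hb => ?_)
      exact (nn_conj2 (ad chevE7 F).toStB.toStN ⟨79, by decide⟩ ⟨b, e0 b hb⟩ 1).trans
        (by rw [← reflN_eq]; rfl)
  · open Cfsg.Agent.S2176 in
    obtain ⟨B, h1, h2⟩ := of_classes
      (invol_classes one_ne_zero (cube_hyp c0) H C R (fun _ _ => rfl) hH c1 c2 c3 c4).2.1 hg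
    rcases (by decide : ∀ B ∈ Cfsg.Agent.S2176.R, B.1 = [239] ∨ ∃ c ∈ certs8, c.A = B.1) B h1 with
      e | ⟨c, c1, e⟩
    · rw [e, xA_cons, xA, List.map_nil, List.prod_nil, mul_one] at h2; exact Or.inl h2
    · exact Or.inr ⟨c, ok8 c c1, e ▸ h2⟩

theorem jobFC : JobFC := by
  intro D _ _ _ hD F _ _ _
  have key : ∀ g : ↥(D.group F), Inv2 g → ¬ Root D (xG D F) g →
      ∃ (c : FCert) (k : ↥(D.group F)), c.OK D ∧ k * g * k⁻¹ = xA (xG D F) c.A 1 := fun g g1 g2 => by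
    rcases hD.invol g1 with h | ⟨c, h1, h⟩
    · obtain ⟨k, hk⟩ := isConj_iff.1 h.symm
      exact absurd ⟨_, 1, one_ne_zero, k, (ad D F).top ▸ mem_top k, hk.symm⟩ g2
    · obtain ⟨k, hk⟩ := isConj_iff.1 h
      exact ⟨c, k, h1, hk⟩
  refine ⟨fun g y P g1 g2 y1 hP y2 => ?_, fun g w g1 g2 w1 w2 => ?_⟩
  · obtain ⟨c, k, h1, e⟩ := key g g1 g2
    obtain ⟨h2, h3⟩ := h1.main hD (F := F)
    have h4 := (syl_iff.1 hP).cj k
    rw [cj_Cz', e] at h4
    obtain ⟨m, m1, m2⟩ := h4.exists_le_cj ((syl_UU D F).isPGroup.to_le inf_le_left) inf_le_right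
    rcases h2 (m * (k * y * k⁻¹) * m⁻¹) (((is2_of_sq y1.1).conj k).conj m) (centralizer_anti m2 (by
      rw [← cj_centralizer, ← cj_centralizer]; exact conj_mem_cj (conj_mem_cj y2))) with h5 | ⟨a, h5⟩
    · exact Or.inl (((isConj_iff.2 ⟨k, e⟩).trans h5).trans (isConj_iff.2 ⟨(m * k)⁻¹, by group⟩))
    · have h6 := conj_mem_of_mem_normalizer' (Ns_le_Ns_O2 _ (le_normalizer m1)) (h5 ▸ (h3 a).1)
      rw [← e, ← cj_Cz', O2_eq, ← cj_res, ← O2_eq, mem_cj] at h6
      right; simpa [mul_assoc] using h6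
  · obtain ⟨c, k, h1, e⟩ := key g g1 g2
    obtain ⟨h2, h3⟩ := h1.main hD (F := F)
    have h4 : k * w * k⁻¹ ∈ Cs (Cz (xA (xG D F) c.A 1)) := by
      rw [← e, ← cj_Cz', Cs, ← cj_centralizer]; exact conj_mem_cj w2
    rcases h2 _ ((is2_of_sq w1.1).conj k) (centralizer_anti inf_le_right h4) with h5 | ⟨a, h5⟩
    · exact ((isConj_iff.2 ⟨k, e⟩).trans h5).trans (isConj_iff.2 ⟨k⁻¹, by group⟩)
    · rw [(h3 a).2 (h5 ▸ h4), (ad D F).toStB.toStN.toSt.x_zero, conj_eq_one_iff] at h5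
      exact absurd h5 w1.2

end H64.SG
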