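import Cfsg.Agent.H37.SgN
import Cfsg.Agent.H64.SGFC

/-! STD-G facts, slot FE: fixed points of outer involutions. -/

set_option autoImplicit false
set_option linter.unusedSectionVars false

namespace H64.SGE

open Subgroup H98 Cfsg Cfsg.Lie H63 H65 H64 H64.SG H37.Sg

theorem conj_O2 {G : Type*} [Group G] {H : Subgroup G} {n y : G} (hn : n ∈ O2 H) (hy : y ∈ H) :
    y⁻¹ * (n * y * n⁻¹) ∈ O2 H := by
  simpa [mul_assoc] using mul_mem (conj_mem_of_mem_normalizer' (Ns_le_Ns_O2 H (le_normalizer hy)) hn)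
    (inv_mem hn)

theorem card_le_sq {A : Type*} [AddCommGroup A] [Finite A] (τ : A →+ A) (h : ∀ a, τ (τ a) = a)
    (h2 : ∀ a : A, a + a = 0) : Nat.card A ≤ Nat.card {a // τ a = a} ^ 2 := by
  let φ : A →+ A := AddMonoidHom.id A + τ
  rw [AddSubgroup.card_eq_card_quotient_mul_card_addSubgroup φ.ker, sq,
    Nat.card_congr (QuotientAddGroup.quotientKerEquivRange φ).toEquiv]
  refine Nat.mul_le_mul (Nat.card_le_card_of_injective (fun a => ⟨a.1, ?_⟩) ?_)
    (Nat.card_le_card_of_injective (fun a => ⟨a.1, ?_⟩) ?_)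
  · obtain ⟨_, a, rfl⟩ := a
    simp [φ, h, add_comm]
  · exact fun a b e => Subtype.ext (Subtype.mk.inj e)
  · exact add_left_cancel ((show a.1 + τ a.1 = 0 from a.2).trans (h2 _).symm)
  · exact fun a b e => Subtype.ext (Subtype.mk.inj e)

variable {D : ChevalleyDatum} [RS D] {F : Type*} [Field F] {G : Type*} [Group G]

/-- The root elements of the fixed point group. -/
def Xo (x : ℕ → F → G) (ρ : Equiv.Perm (Rt D)) (σ : RingAut F) (r : Rt D) (a : F) : G :=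
  if ρ r = r then x r a else x r a * x (ρ r) (σ a)

variable {x : ℕ → F → G} {ρ : Equiv.Perm (Rt D)} {σ : RingAut F}

theorem Xo_mem {S : Set (Rt D)} {r : Rt D} (h1 : r ∈ S) (h2 : ρ r ∈ S) (a : F) :
    Xo x ρ σ r a ∈ gen (XR D x) S := by
  unfold Xo
  split_ifs
  exacts [x_mem_gen h1 a, mul_mem (x_mem_gen h1 a) (x_mem_gen h2 _)]

section Count

variable {ι : Type*} {R : WData (Rt D) ι} (T : RGD R G) (hX : T.X = XR D x) (hx : StB D x)
  (hρ : ∀ r, ρ (ρ r) = r) (hp : ∀ r, R.pos r → R.pos (ρ r))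
include T hX hx hρ hp

theorem inj_prod {L : List (Rt D)} (h1 : L.Nodup) (h2 : ∀ r ∈ L, R.pos r ∧ (ρ r ∈ L → ρ r = r))
    {g g' : Rt D → F} (e : (L.map fun r => Xo x ρ σ r (g r)).prod =
      (L.map fun r => Xo x ρ σ r (g' r)).prod) : ∀ r ∈ L, g r = g' r := by
  have k : ∀ g : Rt D → F, (L.map fun r => Xo x ρ σ r (g r)).prod =
      ((L.flatMap fun r => if ρ r = r then [r] else [r, ρ r]).map fun s : Rt D =>
        if s ∈ L then x s (g s) else x s (σ (g (ρ s)))).prod := fun g => by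
    rw [List.map_flatMap, List.flatMap_def, List.prod_flatten, List.map_map]
    refine congrArg List.prod (List.map_congr_left fun r hr => ?_)
    by_cases h : ρ r = r
    · simp [Xo, h, hr]
    · simp [Xo, h, hr, hρ, mt (h2 r hr).2 h]
  have m : ∀ (g : Rt D → F) (s : Rt D), (if s ∈ L then x s (g s) else x s (σ (g (ρ s)))) ∈ T.X s :=
    fun g s => by split_ifs <;> exact hX ▸ x_mem_XR D x s _
  intro r hr
  have := T.prod_unique _ (List.nodup_flatMap.2 ⟨fun r _ => by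
      split_ifs with h
      · simp
      · simpa using Ne.symm h, h1.pairwise_of_forall_ne fun a ha b hb hab s s1 s2 => ?_⟩)
    (fun s hs => ?_) (m g) (m g') ((k g).symm.trans (e.trans (k g'))) r
    (List.mem_flatMap.2 ⟨r, hr, by split_ifs <;> simp⟩)
  · rw [if_pos hr, if_pos hr] at this
    exact hx.x_injective r this
  · have t : ∀ a, s ∈ (if ρ a = a then [a] else [a, ρ a]) → s = a ∨ s = ρ a := fun a h => by
      split_ifs at h
      exacts [Or.inl (List.mem_singleton.1 h), by simpa using h]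
    rcases t a s1 with rfl | rfl <;> rcases t b s2 with c | c
    · exact hab c
    · exact hab (c.trans ((h2 b hb).2 (c ▸ ha)))
    · exact hab (((h2 a ha).2 (c ▸ hb)).symm.trans c)
    · exact hab (ρ.injective c)
  · obtain ⟨a, ha, hs⟩ := List.mem_flatMap.1 hs
    split_ifs at hs
    · exact List.mem_singleton.1 hs ▸ (h2 a ha).1
    · rcases List.mem_pair.1 hs with rfl | rfl
      exacts [(h2 _ ha).1, hp a (h2 a ha).1]

variable [Finite G] {K : Subgroup G}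

theorem card_ge {L : List (Rt D)} (h1 : L.Nodup) (h2 : ∀ r ∈ L, R.pos r ∧ r ≤ ρ r) {A : Type*}
    (φ : A → Rt D → F) (h3 : ∀ a b, (∀ r ∈ L, φ a r = φ b r) → a = b)
    (h4 : ∀ a, ∀ r ∈ L, Xo x ρ σ r (φ a r) ∈ K) : Nat.card A ≤ Nat.card K :=
  Nat.card_le_card_of_injective (fun a => (⟨(L.map fun r => Xo x ρ σ r (φ a r)).prod,
    list_prod_mem (List.forall_mem_map.2 (h4 a))⟩ : K)) fun a b e => h3 a b
      (inj_prod T hX hx hρ hp h1 (fun r hr => ⟨(h2 r hr).1, fun h =>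
        le_antisymm (by simpa [hρ] using (h2 _ h).2) (h2 r hr).2⟩) (congrArg Subtype.val e))

theorem card_ge1 {L : List (Rt D)} (h1 : L.Nodup) (h2 : ∀ r ∈ L, R.pos r ∧ r ≤ ρ r)
    (h4 : ∀ r ∈ L, ∀ a, Xo x ρ σ r a ∈ K) [Finite F] : Nat.card F ^ L.length ≤ Nat.card K := by
  have := card_ge T hX hx hρ hp h1 h2 (σ := σ) (K := K) (A := L.toFinset → F)
    (fun f r => if h : r ∈ L.toFinset then f ⟨r, h⟩ else 0) (fun a b h => funext fun r => by
      simpa [r.2] using h r (List.mem_toFinset.1 r.2)) fun a r hr => h4 r hr _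
  rwa [Nat.card_fun, Nat.card_eq_fintype_card (α := L.toFinset), Fintype.card_coe,
    List.toFinset_card_of_nodup h1] at this

open Classical in
theorem card_ge2 [Finite F] [CharP F 2] (hσ : ∀ a, σ (σ a) = a)
    (h4 : ∀ r, R.pos r → ∀ a, (ρ r = r → σ a = a) → Xo x ρ σ r a ∈ K) :
    Nat.card F ^ Nat.card {r // R.pos r} ≤ Nat.card K ^ 2 := by
  let τ : ({r // R.pos r} → F) →+ ({r // R.pos r} → F) :=
    AddMonoidHom.mk' (fun f r => σ (f ⟨ρ r, hp r r.2⟩)) fun f g => funext fun r => map_add σ _ _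
  rw [← Nat.card_fun]
  refine (card_le_sq τ (fun f => funext fun r => ?_) fun f => funext fun r =>
    CharTwo.add_self_eq_zero _).trans (Nat.pow_le_pow_left (card_ge T hX hx hρ hp
      (L := (List.finRange _).filter fun r => R.pos r ∧ r ≤ ρ r) (σ := σ)
      ((List.nodup_finRange _).filter _) (fun r hr => by simpa using hr)
      (fun f r => if h : R.pos r then f.1 ⟨r, h⟩ else 0) (fun a b h => ?_) fun a r hr => ?_) 2)
  · simp [τ, hσ, hρ]
  · have k : ∀ r : {r // R.pos r}, r.1 ≤ ρ r → a.1 r = b.1 r := fun r hr => by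
      simpa [r.2] using h r (by simp [r.2, hr])
    refine Subtype.ext (funext fun r => (le_total r.1 (ρ r)).elim (k r) fun hr => ?_)
    rw [← a.2, ← b.2]
    exact congrArg σ (k ⟨ρ r, hp r r.2⟩ (by rwa [hρ]))
  · have p : R.pos r := by simp at hr; exact hr.1
    refine h4 r p _ fun e => ?_
    rw [dif_pos p]
    exact (congrArg (fun s => σ (a.1 s)) (Subtype.ext e.symm)).trans (congrFun a.2 ⟨r, p⟩)

end Count

/-- Normal form of an outer involution. -/
structure NF (x : ℕ → F → G) (α : MulAut G) (ρ : Equiv.Perm (Rt D)) (σ : RingAut F) (c : F) :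
    Prop where
  stB : StB D x
  top : GG D x = ⊤
  rho : Rho ρ
  ss : ∀ a, σ (σ a) = a
  act : ∀ (r : Rt D) a, α (x r a) = x (hi D) c * x (ρ r) (σ a) * (x (hi D) c)⁻¹
  alt : σ = 1 ∨ c = 0
  gr : ρ = 1 ∧ σ ≠ 1 ∨ Gr ρ

namespace NF

variable [CharP F 2] {α : MulAut G} {c : F} (N : NF x α ρ σ c) (hD : ET D)
include N hD

theorem act' {r : Rt D} (h : c = 0 ∨ 0 ≤ D.pairing (hi D) r) (a : F) :
    α (x r a) = x (ρ r) (σ a) := by
  rw [N.act]
  rcases h with rfl | h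
  · simp [N.stB.toSt.x_zero]
  · rw [hD.comm_of_nonneg N.stB.toSt (by rwa [← N.rho.pr', N.rho.hi hD]), mul_inv_cancel_right]

theorem mem {r : Rt D} (h : c = 0 ∨ 0 ≤ D.pairing (hi D) r) {a : F} (ha : ρ r = r → σ a = a) :
    Xo x ρ σ r a ∈ fx α := by
  rw [mem_fx, Xo]
  split_ifs with e
  · rw [N.act' hD h, e, ha e]
  · rw [map_mul, N.act' hD h, N.act' hD (h.imp_right fun h => by rwa [← N.rho.pr', N.rho.hi hD]),
      N.rho.inv, N.ss, hD.comm_of_nonneg N.stB.toSt (N.rho.nonneg r)]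

theorem o2s (R : Gr ρ) {u : Rt D} (h : c = 0 ∨ 0 ≤ D.pairing (hi D) u) (hu : ρ u ≠ u) (a : F) :
    Xo x ρ σ u a ∈ O2 (fx α) := by
  have hs := N.stB.toSt
  obtain ⟨s, s1, s2, s3⟩ := R.sht u hu
  obtain ⟨v, e⟩ : ∃ v : Rt D, rt u = rt s + rt v := ⟨_, rt_refl_sub s2⟩
  have s4 : ρ s ≠ s := fun e => by rw [← R.pr', e] at s3; omega
  have s5 := (R.orth s).resolve_left s4
  have e' := R.add hD e
  have v1 := hD.pairing_of_add e
  have v2 : D.pairing s (ρ v) = 0 := by rw [pairing_add s e'] at s3; omega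
  have v3 : ρ v ≠ v := fun e => by rw [e] at v2; omega
  have v4 : D.pairing (ρ s) v = 0 := by rwa [R.pr']
  have s6 : ρ (negR s) ≠ negR s := fun e => s4 (by
    rw [R.neg hD] at e; rw [← negR_negR (ρ s), e, negR_negR])
  have m1 := N.mem hD (r := s) (Or.inr s1.ge) (a := 1) (absurd · s4)
  have m2 := N.mem hD (r := negR s) (Or.inr (by rw [negR_val, pairing_negR_right, s1]; rfl)) (a := 1)
    (absurd · s6)
  have m3 := N.mem hD (r := v) (h.imp_right fun h => by rw [pairing_add _ e] at h; omega) (a := a)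
    (absurd · v3)
  simp only [Xo, if_neg, s4, s6, v3, hu, map_one, not_false_eq_true] at m1 m2 m3 ⊢
  rw [R.neg hD] at m2
  have c0 : ∀ {p q : Rt D}, 0 ≤ D.pairing p q → ∀ a b, Commute (x p a) (x q b) :=
    fun h a b => hD.comm_of_nonneg hs h a b
  have n1 : ∀ p q : Rt D, D.pairing (negR p) q = -D.pairing p q := fun p q => by
    rw [negR_val, pairing_negR_left]
  have n2 : ∀ p q : Rt D, D.pairing p (negR q) = -D.pairing p q := fun p q => by
    rw [negR_val, pairing_negR_right]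
  have s7 : D.pairing (ρ s) s = 0 := by rwa [hD.pairing_comm]
  have c1 : Commute (x s 1 * x (negR s) 1) (x (ρ s) 1 * x (negR (ρ s)) 1) :=
    .mul_left (.mul_right (c0 s5.ge 1 1) (c0 (by rw [n2, s5]; rfl) 1 1))
      (.mul_right (c0 (by rw [n1, s5]; rfl) 1 1) (c0 (by rw [n1, n2, s5]; rfl) 1 1))
  have m4 := conj_O2 (mem_O2_of_odd (mul_mem m1 m2) (odd_orderOf_of_pow (m := 3) (by decide) (by
    rw [mul_assoc, ← mul_assoc (x (ρ s) 1), (c0 (by rw [n2, s7]; rfl) 1 1).eq, mul_assoc, ← mul_assoc,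
      c1.mul_pow, x_neg_cube N.stB.toStN, x_neg_cube N.stB.toStN, one_mul]))) m3
  have c2 : Commute (x (negR s) 1 * x (negR (ρ s)) 1) (x v a * x (ρ v) (σ a)) :=
    .mul_left (.mul_right (c0 (by rw [n1, v1]; decide) _ _) (c0 (by rw [n1, v2]; rfl) _ _))
      (.mul_right (c0 (by rw [n1, v4]; rfl) _ _) (c0 (by rw [n1, R.pr, v1]; decide) _ _))
  rw [mul_assoc (x s 1 * x (ρ s) 1), c2.eq, mul_inv_rev (x s 1 * x (ρ s) 1), ← mul_assoc _ _ (x s 1 * _)⁻¹,
    ← mul_assoc (x s 1 * x (ρ s) 1), mul_inv_cancel_right] at m4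
  convert m4 using 1
  symm
  rw [inv_mul_eq_iff_eq_mul]
  calc _ = x s 1 * (x (ρ s) 1 * x v a * (x (ρ s) 1)⁻¹) * (x s 1)⁻¹ *
        (x s 1 * (x (ρ s) 1 * x (ρ v) (σ a) * (x (ρ s) 1)⁻¹) * (x s 1)⁻¹) := by group
    _ = x v a * x u a * (x (ρ v) (σ a) * x (ρ u) (σ a)) := by
      rw [(c0 v4.ge _ _).eq, mul_inv_cancel_right, hD.conj_add hs e, hD.conj_add hs e', one_mul, one_mul,
        ((c0 v2.ge _ _).mul_right (c0 s3.ge _ _)).eq, mul_inv_cancel_right]
    _ = _ := by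
      rw [mul_assoc, mul_assoc, ← mul_assoc (x u a), (c0 (p := u) (q := ρ v) (by
        rw [hD.pairing_add_left e, v2, zero_add]; exact R.nonneg v) _ _).eq]
      simp only [mul_assoc]

theorem o2 {u : Rt D} (h : c = 0 ∨ 0 ≤ D.pairing (hi D) u) {a : F} (ha : ρ u = u → σ a = a) :
    Xo x ρ σ u a ∈ O2 (fx α) := by
  rcases N.gr with ⟨rfl, h1⟩ | R
  · have h2 := N.alt.resolve_left h1
    obtain ⟨r, s, e⟩ := hD.exists_sum u
    have m : ∀ (r : Rt D) a, σ a = a → x r a ∈ fx α := fun r a e => by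
      simpa [Xo] using N.mem hD (r := r) (Or.inl h2) fun _ => e
    simpa [Xo] using mem_O2_of_add hD N.stB.toStN e (m _ _ (map_one σ)) (m _ _ (map_one σ))
      (m s a (ha rfl))
  by_cases hu : ρ u = u
  swap
  · exact N.o2s hD R h hu a
  obtain ⟨v, v1, v2, v3⟩ := R.l2 u hu
  obtain ⟨β, ε, b1, b2, b3, b4, b5⟩ := R.cfg hD hu v1 v2
  have b6 := b5 _ (R.hi hD)
  have m1 := N.o2s hD R (h.imp_right fun h => by have := v3 h; omega) b1 1
  have m2 := N.o2s hD R (h.imp_right fun h => by have := v3 h; rw [pairing_add _ b3]; omega) b2 a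
  have m3 := N.mem hD (h.imp_right fun h => (v3 h).1) fun _ => ha hu
  simp only [Xo, if_neg, if_pos, b1, b2, v1, hu, map_one, ha hu, not_false_eq_true] at m1 m2 m3 ⊢
  have m4 := conj_O2 m1 m3
  rw [conj3 hD N.stB.toSt R.toRho v1 b3 b4, inv_mul_cancel_left] at m4
  exact (mul_mem_cancel_left m2).1 m4

variable [Finite F] [Finite G]

theorem memP {r : Rt D} (hr : Pos r) {a : F} (ha : ρ r = r → σ a = a) :
    Xo x ρ σ r a ∈ UU D x ⊓ O2 (fx α) :=
  ⟨Xo_mem hr (N.rho.pos.2 hr) a, N.o2 hD (Or.inr (hD.pairing_hi_nonneg hr)) ha⟩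

omit hD in
theorem isP : IsPGroup 2 (UU D x) := by
  have := Fintype.ofFinite F
  obtain ⟨n, -, hn⟩ := FiniteField.card F 2
  exact IsPGroup.of_card (N.stB.card_U.trans (by rw [Nat.card_eq_fintype_card, hn, ← pow_mul]))

theorem le1 (h : σ = 1) : ∃ k, D.nroots / 2 + 6 ≤ k * 2 ∧ 2 * (D.nroots / 2) ≤ k * 3 ∧
    Nat.card F ^ k ≤ Nat.card ↥(UU D x ⊓ O2 (fx α)) := by
  obtain ⟨L, l1, l2, l3, l4⟩ := (N.gr.resolve_left fun e => e.2 h).cnt
  exact ⟨_, l3, l4, card_ge1 N.stB.rgd rfl N.stB N.rho.inv (fun _ => N.rho.pos.2) l1 l2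
    fun r hr a => N.memP hD (l2 r hr).1 fun _ => by rw [h]; rfl⟩

omit N hD in
theorem card_pos' : Nat.card {r : Rt D // Pos r} = D.nroots / 2 := by
  classical
  rw [Nat.card_eq_fintype_card, Fintype.card_subtype, ← card_pos]

theorem le2 : Nat.card F ^ (D.nroots / 2) ≤ Nat.card ↥(UU D x ⊓ O2 (fx α)) ^ 2 :=
  card_pos' (D := D) ▸ card_ge2 N.stB.rgd rfl N.stB N.rho.inv (fun _ => N.rho.pos.2) N.ss
    fun _ hr _ ha => N.memP hD hr ha

theorem ft (h : σ ≠ 1) : ∃ P P' : Subgroup G, P ≤ O2 (fx α) ∧ P' ≤ O2 (fx α) ∧ IsPGroup 2 P ∧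
    IsPGroup 2 P' ∧ Nat.card F ^ (D.nroots / 2) ≤ Nat.card P ^ 2 ∧
    Nat.card F ^ (D.nroots / 2) ≤ Nat.card P' ^ 2 ∧ P ⊓ P' = ⊥ := by
  obtain ⟨w, hw⟩ := (H64.wdata D).exists_w0
  obtain ⟨n, -, hn⟩ := exists_mv N.stB.toStN w
  have e : cjs n (UU D x) = N.stB.rgd.V := cj_gen hn fun s => (not_iff_comm.1 (hw s).symm).symm
  have e' : Nat.card {r : Rt D // ¬ Pos r} = D.nroots / 2 :=
    (Nat.card_congr (w.1.subtypeEquiv fun s => (hw s).symm)).trans card_pos'
  refine ⟨_, N.stB.rgd.V ⊓ O2 (fx α), inf_le_right, inf_le_right, N.isP.to_inf_left,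
    (show IsPGroup 2 N.stB.rgd.V by rw [← e]; exact N.isP.map _).to_inf_left, N.le2 hD, e' ▸ card_ge2 N.stB.rgd.opp rfl N.stB N.rho.inv
      (fun _ => mt N.rho.pos.1) N.ss fun r hr a ha => ⟨Xo_mem hr (mt N.rho.pos.1 hr) a,
        N.o2 hD (Or.inl (N.alt.resolve_left h)) ha⟩, le_bot_iff.1 ?_⟩
  rw [← N.stB.rgd.B_inf_V]
  exact inf_le_inf (inf_le_left.trans N.stB.rgd.U_le_B) inf_le_left

theorem gf (h : σ ≠ 1) (R : Gr ρ) (hc : Function.Injective (MulAut.conj : G → MulAut G)) {q : ℕ}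
    (hq : Nat.card F = q ^ 2) : ∃ (P Z : Subgroup G) (h : G), P ≤ O2 (fx α) ∧ IsPGroup 2 P ∧
      q ^ (D.nroots / 2) ≤ Nat.card P ∧ Z ≤ P ⊓ Cs P ∧ q ≤ Nat.card Z ∧ h ∈ fx α ∧ h ∈ Ns P ∧
      h ∈ Cs Z ∧ h ∉ Cs P ∧ h ^ (q + 1) = 1 := by
  have hs := N.stB.toSt
  have c0 := N.alt.resolve_left h
  have q1 : 1 < q := by
    have := Finite.one_lt_card (α := F)
    rw [hq] at this
    exact (one_lt_pow_iff two_ne_zero).1 this
  have : Fact (q + 1).minFac.Prime := ⟨Nat.minFac_prime (by omega)⟩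
  obtain ⟨l, hl⟩ := exists_prime_orderOf_dvd_card' (G := Fˣ) (q + 1).minFac
    ((Nat.minFac_dvd _).trans (by rw [Nat.card_units, hq, ← one_pow 2, Nat.sq_sub_sq]; simp))
  have l1 : (l : F) ^ (q + 1) = 1 := by
    rw [← Units.val_pow_eq_pow_val, orderOf_dvd_iff_pow_eq_one.1 (hl ▸ Nat.minFac_dvd _), Units.val_one]
  have l2 : σ l ≠ 0 := by simp
  obtain ⟨r, r1, r2, r3⟩ := R.mv
  have r4 := (R.orth r).resolve_left r1
  obtain ⟨k, k1, k2⟩ : ∃ k ∈ HH D x, ∀ (s : Rt D) u, k * x s u * k⁻¹ =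
      x s (l ^ D.pairing r s * σ l ^ D.pairing (ρ r) s * u) :=
    ⟨hh D x r l * hh D x (ρ r) (σ l), mul_mem (hh_mem_HH D x r l.ne_zero) (hh_mem_HH D x _ l2),
      fun s u => by
        rw [mul_assoc (l.1 ^ _), ← N.stB.toStN.hh_conj r s l.ne_zero, ← N.stB.toStN.hh_conj _ s l2]
        group⟩
  have ext : ∀ g : G, (∀ (s : Rt D) u, x s u * g = g * x s u) → g = 1 := fun g hg => hc (by
    ext y
    have := (mem_Cs_gen (S := Set.univ)).2 (fun s _ => hg s) y (N.top.ge (mem_top y))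
    simp [← this])
  have k3 : k ∈ fx α := by
    rw [mem_fx, ← inv_mul_eq_one]
    refine ext _ fun s u => ?_
    have := congrArg α (k2 (ρ s) (σ u))
    simp only [map_mul, map_inv, N.act' hD (Or.inl c0), R.inv, N.ss, map_zpow₀, R.pr] at this
    rw [← R.pr', mul_comm (σ l ^ _), ← k2] at this
    calc _ = (α k)⁻¹ * (α k * x s u * (α k)⁻¹) * k := by group
      _ = _ := by rw [this]; group
  refine ⟨UU D x ⊓ O2 (fx α), XR D x (hi D) ⊓ O2 (fx α), k, inf_le_right, N.isP.to_inf_left,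
    (Nat.pow_le_pow_iff_left two_ne_zero).1 ?_, fun y hy => ?_,
    (Nat.pow_le_pow_iff_left two_ne_zero).1 ?_, k3, inf_normalizer_le_normalizer_inf
      ⟨N.stB.rgd.H_le_normalizer_gen _ k1, Ns_le_Ns_O2 _ (le_normalizer k3)⟩, fun y hy => ?_,
    fun e => ?_, ext _ fun s u => ?_⟩
  · rw [← pow_mul, mul_comm, pow_mul, ← hq]
    exact N.le2 hD
  · obtain ⟨a, rfl⟩ := hs.mem_XR.1 hy.1
    exact ⟨⟨x_mem_gen hD.pos_hi a, hy.2⟩, fun g hg => mem_Cs_gen.2 (fun s s1 b =>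
      (hD.comm_of_nonneg hs (hD.pairing_hi_nonneg s1) a b).symm) g hg.1⟩
  · rw [← hq]
    refine (card_le_sq σ.toAddMonoidHom N.ss CharTwo.add_self_eq_zero).trans (Nat.pow_le_pow_left
      (Nat.card_le_card_of_injective (fun a => ⟨x (hi D) a.1, x_mem_XR D x _ _, by
        simpa [Xo, R.hi hD] using N.o2 hD (u := hi D) (Or.inl c0) fun _ => a.2⟩) fun a b e => ?_) 2)
    exact Subtype.ext (N.stB.x_injective (hi D) (congrArg Subtype.val e :))
  · obtain ⟨a, rfl⟩ := hs.mem_XR.1 hy.1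
    rw [eq_comm, ← mul_inv_eq_iff_eq_mul, k2, R.pr', R.hi hD, r3]
    simp
  · have e1 := e _ (N.memP hD r2 (a := 1) (absurd · r1))
    have e2 : Xo x ρ σ r (l ^ 2) = Xo x ρ σ r 1 := by
      rw [← mul_inv_eq_iff_eq_mul.2 e1.symm, Xo, Xo, if_neg r1, if_neg r1, ← conj_mul, k2, k2, r4,
        hD.pairing_comm (ρ r) r, r4]
      simp [zpow_ofNat]
    have e3 := inj_prod N.stB.rgd rfl N.stB R.inv (fun _ => R.pos.2) (L := [r]) (σ := σ) (by simp)
      (by simp [r2]) (g := fun _ => l ^ 2) (g' := fun _ => 1) (by simpa using e2) r (by simp)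
    rw [← one_pow 2, CharTwo.sq_inj, Units.val_eq_one, ← orderOf_eq_one_iff, hl] at e3
    exact this.out.ne_one e3
  · have : ∀ m : ℕ, k ^ m * x s u * (k ^ m)⁻¹ =
        x s ((l ^ D.pairing r s * σ l ^ D.pairing (ρ r) s) ^ m * u) := fun m => by
      induction m with
      | zero => simp
      | succ m ih => rw [pow_succ', pow_succ', mul_assoc _ _ u, ← k2, ← ih]; group
    rw [eq_comm, ← mul_inv_eq_iff_eq_mul, this, mul_pow, ← zpow_natCast, ← zpow_natCast, ← zpow_mul,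
      ← zpow_mul, mul_comm, mul_comm (D.pairing _ _), mul_comm (D.pairing _ _), zpow_mul, zpow_mul,
      zpow_natCast, zpow_natCast, ← map_pow, l1]
    simp

end NF

variable [Tab D] [Comm D] {F : Type} [Field F] [Finite F] [CharP F 2] (T : Ty D F)

theorem ty_conj (g : ↥(D.group F)) : T.fl (MulAut.conj g) = 1 ∧ T.gr (MulAut.conj g) = 1 :=
  (T.spec _ g⁻¹ id 1 (RingEquiv.refl F) (by
    rw [← map_mul, inv_mul_cancel, map_one, ← map_one (diagAut D)]; exact dat_diagAut 1)).imp_right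
    fun h => h.2 rfl

theorem exists_nf (hD : ET D) {α : MulAut ↥(D.group F)} (e : α * α = 1)
    (ho : ∀ g, α ≠ MulAut.conj g) : ∃ (x : ℕ → F → ↥(D.group F)) (ρ : Equiv.Perm (Rt D)) (c : F),
      NF x α ρ (T.fl α) c ∧ (T.gr α ≠ 1 → Gr ρ) := by
  obtain ⟨g, d, ω, π, σ, a, h1, h2, h3, h4, h5⟩ := nf hD T e ho
  have b1 : T.fl (diagAut D d * MulAut.conj g) = 1 := by
    rw [map_mul, (ty_conj T g).1, mul_one]
    exact (T.spec _ 1 id d (RingEquiv.refl F) (by simpa using dat_diagAut d)).1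
  generalize diagAut D d * MulAut.conj g = β at h5 b1
  obtain rfl : T.fl α = σ := by
    have := congrArg T.fl h5
    simp only [map_mul, map_inv, b1, (ty_conj T _).1, one_mul, mul_one, inv_one] at this
    exact this.trans (T.spec ω 1 π 1 σ (by simpa using h1)).1
  have b2 : T.gr α = T.gr ω := by
    simpa [map_mul, map_inv, (ty_conj T _).2] using congrArg T.gr h5
  have b3 : ω (xG D F (hi D) a) = xG D F (hi D) a := by
    rw [std1' T h1, (rho_rh T ω).hi hD]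
    rcases h3 with h | rfl
    exacts [by rw [h]; rfl, by rw [map_zero]]
  refine ⟨fun r t => β⁻¹ (xG D F r t), rh T ω, a, ⟨stB_of_injective β.toMonoidHom β.injective
    (by simpa using (ad D F).toStB), eq_top_iff.2 fun y _ => ?_, rho_rh T ω,
    DFunLike.congr_fun (sq_dt hD h1 h2).2, fun r t => ?_, h3, ?_⟩, fun h => gr_rh hD T h1 (b2 ▸ h)⟩
  · simpa [GG] using map_mem_gen_XR (y := fun r t => β⁻¹ (xG D F r t)) β⁻¹.toMonoidHom
      (fun r _ t => ⟨t, rfl⟩) ((ad D F).top.ge (mem_top (β y)))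
  · have : α = β⁻¹ * (ω * MulAut.conj (xG D F (hi D) a)) * β := by rw [← h5]; group
    nth_rewrite 1 [this]
    simp [b3, std1' T h1]
  · by_cases h : T.gr ω = 1
    exacts [Or.inl ⟨if_pos h, h4.resolve_right (not_not.2 h)⟩, Or.inr (gr_rh hD T h1 h)]

theorem bound (B : FB D F) {α : MulAut ↥(D.group F)} (e : α * α = 1) (ho : ∀ g, α ≠ MulAut.conj g)
    {R : Subgroup ↥(D.group F)} (h1 : IsPGroup 2 R) (h2 : R ≤ fx α) :
    Nat.card R ^ 3 ≤ Nat.card F ^ (2 * (D.nroots / 2)) ∧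
      (T.fl α ≠ 1 → Nat.card R ^ 2 ≤ Nat.card F ^ (D.nroots / 2)) := by
  obtain ⟨g, hg⟩ := exists_nrm (B := R.map MulAut.conj ⊔ zpowers α) ((h1.map _).to_sup_of_normal_left'
    (is2_of_sq e).zpowers (zpowers_le.2 (Cs_le_Ns _ (by
      rintro _ ⟨y, hy, rfl⟩
      rw [mul_conj, mem_fx.1 (h2 hy)]))))
  have h3 := hg α (mem_sup_right (mem_zpowers α))
  have h4 := (is2_of_sq e).conj (MulAut.conj g)
  have h5 : Nat.card R ≤ Nat.card ↥(UU D (xG D F) ⊓ fx (MulAut.conj g * α * (MulAut.conj g)⁻¹)) :=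
    Nat.card_le_card_of_injective (fun y => ⟨g * y * g⁻¹, mem_UU ((isPGroup_iff_is2.1 h1 _ y.2).conj g)
      (by simpa [map_mul] using hg _ (mem_sup_left (mem_map_of_mem _ y.2))), by
        simp [mem_fx, mul_assoc, mem_fx.1 (h2 y.2)]⟩) fun a b e => by simpa using congrArg Subtype.val e
  refine ⟨(Nat.pow_le_pow_left h5 3).trans (B.ub _ h4 (fun k hk => ho (g⁻¹ * k * g) ?_) h3), fun h =>
    (Nat.pow_le_pow_left h5 2).trans (B.ub' T _ h4 (by simpa [(ty_conj T _).1] using h) h3)⟩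
  rw [map_mul, map_mul, ← hk, map_inv]
  group

theorem jobFE (hT : JobTy) (hB : JobFB) (hF : JobFD) : JobFE := by
  intro D _ _ _ hD F _ _ _
  have hc := (ad D F).conj_injective
  have out : ∀ (T : Ty D F) {α}, T.fl α ≠ 1 → ∀ g, α ≠ MulAut.conj g := fun T α h g e =>
    h (e ▸ (ty_conj T g).1)
  refine ⟨fun α e ho y hy y2 => ?_, fun T α e h => ?_, fun T α e h => ?_, fun T α e h h' q hq => ?_⟩
  · obtain ⟨T⟩ := hT D hD F
    obtain ⟨x, ρ, c, N, -⟩ := exists_nf T hD e ho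
    obtain ⟨R, hR⟩ := exists_isSyl 2 (fx α)
    obtain ⟨b1, b2⟩ := bound T (hB D hD F) e ho hR.isPGroup hR.le
    obtain ⟨g, g1, g2⟩ := (hR.of_card_ge (Q := UU D x ⊓ O2 (fx α)) N.isP.to_inf_left
      (inf_le_right.trans (O2_le _)) (by
        by_cases h : T.fl α = 1
        · obtain ⟨k, -, k1, k2⟩ := N.le1 hD h
          refine (Nat.pow_le_pow_iff_left three_ne_zero).1 (b1.trans
            ((Nat.pow_le_pow_right Nat.card_pos k1).trans ?_))
          rw [pow_mul]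
          exact Nat.pow_le_pow_left k2 3
        · exact (Nat.pow_le_pow_iff_left two_ne_zero).1 ((b2 h).trans (N.le2 hD)))).exists_cj_le
      (is2_of_sq y2).zpowers (zpowers_le.2 hy)
    exact (mem_normalizer_iff.1 (Ns_le_Ns_O2 _ (le_normalizer g1)) y).2
      (g2 (mem_map_of_mem _ (mem_zpowers y))).2
  · by_cases ho : ∃ g, α = MulAut.conj g
    · obtain ⟨g, rfl⟩ := ho
      rw [fx_conj]
      exact (hF D hD F).szin g (hc (by rw [map_mul, e, map_one]))
    obtain ⟨x, ρ, c, N, -⟩ := exists_nf T hD e (not_exists.1 ho)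
    obtain ⟨k, k1, -, k2⟩ := N.le1 hD h
    refine ⟨_, inf_le_right.trans (O2_le _), N.isP.to_inf_left,
      (Nat.pow_le_pow_right Nat.card_pos k1).trans ?_⟩
    rw [pow_mul]
    exact Nat.pow_le_pow_left k2 2
  · obtain ⟨x, ρ, c, N, -⟩ := exists_nf T hD e (out T h)
    exact N.ft hD h
  · obtain ⟨x, ρ, c, N, R⟩ := exists_nf T hD e (out T h)
    exact N.gf hD h (R h') hc hq

end H64.SGE
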