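import Cfsg.Agent.H64.SGAsm
import Cfsg.Agent.H64.SGA1
import Cfsg.Agent.H64.SGA2
import Cfsg.Agent.H64.SGA3
import Cfsg.Agent.H64.SGJB
import Cfsg.Agent.H64.SGFC
import Cfsg.Agent.H48.SgFa
import Cfsg.Agent.H26.SGFR
import Cfsg.Agent.H26.SGFB
import Cfsg.Agent.H55.FU3
import Cfsg.Agent.H78.NU3
import Cfsg.Agent.H70.SgP2b
import Cfsg.Agent.H70.SgP3a
import Cfsg.Agent.H70.SgP3b
import Cfsg.Agent.H84.SGF1
import Cfsg.Agent.H30.SfB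
import Cfsg.Agent.H30.SfC
import Cfsg.Agent.H84.SGW1
import Cfsg.Agent.H66.SGW2
import Cfsg.Agent.H66.SGW3
import Cfsg.Agent.H66.SGW4
import Cfsg.Agent.H84.SGW6

/-! All slots of the standard component argument for `E₆, E₇, E₈(2^n)`, from the last four. -/

namespace H64.SG

universe u

theorem slots_of (hFD : JobFD) (hFE : JobFE) (hP : JobP2a.{u}) (hW : JobW5.{u}) : Slots.{u} := by
  have hTy := H48.SgTy.jobTy
  have hFA := H48.SgFa.jobFA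
  have hFR := H26.SG.jobFR hTy
  have hFB := H26.SGB.jobFB hTy hFA
  have hNU := H78.NU.jobNU.{u} hTy hFA H55.FU.jobFU
  have hJF := jobJF hTy hFA hFR hFB jobFC hFE
  exact ⟨hJF, jobA3, jobJB, jobA1 hJF hFA hFR, jobA2 hJF hFA (jobH hP (H70.Sg.jobP2b hTy hFA hFR)
    (H70.Sg.jobP3a hTy hFA hFR) (H70.Sg.jobP3b hTy hFA hFR)), H84.SG.jobF1 hTy hFA hFB hFE,
    H30.Sf.jobF2 hTy hFA hFD, H30.Sf.jobF3 hTy hFR, H30.Sf.jobF4 hNU, H84.SG.jobW0,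
    H84.SG.jobW1 hTy hFA hFR hFB hFE, H66.SGW.jobW2 hFA hNU, H66.SGW.jobW3 hTy hFA hFB,
    H66.SGW.jobW4 hFA hFR hFB, hW, H84.SG.jobW6 hTy hFA⟩

end H64.SG
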