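import Cfsg.Agent.H26.DP0ASpec
import Cfsg.Agent.S0126

/-! # S3275, chapter U0, section A: job QU. -/

set_option autoImplicit false

namespace H64.DpQU

open Subgroup Cfsg H98 H48.DP H57.DPC H48.DP2

universe u

variable {G : Type u} [Group G] [Finite G]

theorem pg3 {A : Subgroup G} (h : IsElementaryAbelian 3 A) : IsPGroup 3 A := fun g =>
  ⟨1, Subtype.ext (by simpa using h.2 g g.2)⟩

theorem not_cyc {P B : Subgroup G} (hB : B ≤ P) (h : E27 B) : ¬ IsCyclic P := fun hc => by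
  have hc' : IsCyclic B := isCyclic_of_le hB
  have e := hc'.exponent_eq_card
  have : Monoid.exponent B ∣ 3 := Monoid.exponent_dvd_of_forall_pow_eq_one fun g =>
    Subtype.ext (h.1.2 g g.2)
  have := Nat.le_of_dvd (by norm_num) this
  have := h.2
  omega

/-- The class of `u` under `B` is smaller than `U`. -/
theorem index_lt {U B : Subgroup G} (hn : B ≤ No U) {u : G} (hu : u ∈ U) (h1 : u ≠ 1) :
    ((C1 u).subgroupOf B).index < Nat.card U := by
  by_contra hle
  push Not at hle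
  let f : B ⧸ (C1 u).subgroupOf B → U := fun q =>
    ⟨(q.out : G) * u * (q.out : G)⁻¹, (mem_normalizer_iff.1 (hn q.out.2) u).1 hu⟩
  have hf : Function.Injective f := by
    intro q q' e
    have e1 : (q.out : G) * u * (q.out : G)⁻¹ = (q'.out : G) * u * (q'.out : G)⁻¹ :=
      congrArg Subtype.val e
    rw [← q.out_eq, ← q'.out_eq]
    refine QuotientGroup.eq.2 (mem_subgroupOf.2 (mem_centralizer_singleton_iff.2 ?_))
    simp only [coe_mul, InvMemClass.coe_inv]
    calc (q.out : G)⁻¹ * (q'.out : G) * u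
        = (q.out : G)⁻¹ * ((q'.out : G) * u * (q'.out : G)⁻¹) * (q'.out : G) := by group
      _ = u * ((q.out : G)⁻¹ * (q'.out : G)) := by rw [← e1]; group
  obtain ⟨q, hq⟩ := (hf.bijective_of_nat_card_le hle).2 1
  have e1 : (q.out : G) * u * (q.out : G)⁻¹ = 1 := congrArg Subtype.val hq
  exact h1 (by simpa using e1)

theorem jobQU : H26.DA.JobQU.{u} := by
  intro G _ _ P B hP hBP hB
  haveI : Fact (Nat.Prime 3) := ⟨Nat.prime_three⟩
  obtain ⟨U0, hn, he, hc⟩ := Cfsg.Agent.S0126.result (p := 3) (by norm_num) hP (not_cyc hBP hB)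
  set U := U0.map P.subtype with hU
  have UP : U ≤ P := map_subtype_le _
  have cU : Nat.card U = 9 := by rw [hU, card_map_of_injective P.subtype_injective, hc]; norm_num
  have PN : P ≤ No U := by
    intro g hg
    refine mem_normalizer_fintype ?_
    rintro _ ⟨x, hx, rfl⟩
    exact ⟨_, hn.conj_mem x hx ⟨g, hg⟩, rfl⟩
  have eU : IsElementaryAbelian 3 U := by
    refine ⟨⟨⟨?_⟩⟩, ?_⟩
    · rintro ⟨_, x, hx, rfl⟩ ⟨_, y, hy, rfl⟩
      have := he.1.is_comm.comm ⟨x, hx⟩ ⟨y, hy⟩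
      exact Subtype.ext (congrArg (fun t : U0 => ((t : P) : G)) this)
    · rintro _ ⟨x, hx, rfl⟩
      rw [← map_pow, he.2 x hx, map_one]
  have Ub : U ≠ ⊥ := fun h => by rw [h, card_bot] at cU; omega
  obtain ⟨⟨u1, hu1⟩, u11⟩ := ne_bot_iff_exists_ne_one.1
    (inf_centralizer_ne_bot (pg3 eU) hP PN Ub)
  have u11' : u1 ≠ 1 := fun h => u11 (Subtype.ext h)
  have o1 : orderOf u1 = 3 := orderOf_eq_prime (eU.2 u1 hu1.1) u11'
  obtain ⟨u2, hu2, u21⟩ : ∃ u2 ∈ U, u2 ∉ zpowers u1 := by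
    by_contra h
    push Not at h
    have := card_le_of_le (show U ≤ zpowers u1 from h)
    rw [Nat.card_zpowers, o1, cU] at this
    omega
  have u2ne : u2 ≠ 1 := fun h => u21 (h ▸ one_mem _)
  -- an element of `P` centralising `u2` centralises `U`
  have key : ∀ b ∈ P, b ∈ C1 u2 → b ∈ Ce U := by
    intro b hb hb2
    have l1 : zpowers u1 < U ⊓ C1 b := by
      refine lt_of_le_of_ne (zpowers_le.2 ⟨hu1.1, mem_centralizer_singleton_iff.2
        (hu1.2 b hb).symm⟩) fun h => u21 ?_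
      rw [h]
      exact ⟨hu2, mem_centralizer_singleton_iff.2 (mem_centralizer_singleton_iff.1 hb2).symm⟩
    have l2 : 3 < Nat.card ↥(U ⊓ C1 b) := by
      rw [← o1, ← Nat.card_zpowers]
      exact Set.ncard_lt_ncard l1 (Set.toFinite _) |>.trans_eq' rfl
    have l3 : Nat.card ↥(U ⊓ C1 b) ∣ 3 ^ 2 := by
      rw [show 3 ^ 2 = Nat.card U by omega]; exact card_dvd_of_le inf_le_left
    obtain ⟨k, hk, e⟩ := (Nat.dvd_prime_pow Nat.prime_three).1 l3
    have l4 : U ⊓ C1 b = U := by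
      refine eq_of_le_of_card_ge inf_le_left ?_
      interval_cases k <;> omega
    intro x hx
    have : x ∈ U ⊓ C1 b := by rw [l4]; exact hx
    exact mem_centralizer_singleton_iff.1 this.2
  refine ⟨U, UP, PN, cU.ge, fun B' hB' e' => ?_⟩
  set A := B' ⊓ C1 u2 with hA
  have cA : 9 ≤ Nat.card A := by
    have i1 := index_lt (hB'.trans PN) hu2 u2ne
    obtain ⟨k, hk⟩ := (pg3 e'.1).index ((C1 u2).subgroupOf B')
    have i2 := ((C1 u2).subgroupOf B').card_mul_index
    have i3 : Nat.card ((C1 u2).subgroupOf B') = Nat.card A := by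
      rw [hA, inf_comm, ← inf_subgroupOf_right]
      exact Nat.card_congr (subgroupOfEquivOfLe inf_le_right).toEquiv
    have i4 : k < 2 := by
      rw [hk, cU] at i1
      exact (Nat.pow_lt_pow_iff_right (by norm_num : 1 < 3)).1 i1
    have i5 := e'.2
    rw [i3, hk] at i2
    interval_cases k <;> omega
  have eA : IsElementaryAbelian 3 A :=
    ⟨⟨⟨fun a b => Subtype.ext (congrArg (fun t : B' => (t : G))
      (e'.1.1.is_comm.comm ⟨a, a.2.1⟩ ⟨b, b.2.1⟩))⟩⟩, fun a ha => e'.1.2 a ha.1⟩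
  have AC : A ≤ Ce U := fun a ha => key a (hB' ha.1) ha.2
  have eS : IsElementaryAbelian 3 (A ⊔ U) := H12.ea_sup eA eU AC
  by_cases h27 : 27 ≤ Nat.card ↥(A ⊔ U)
  · exact ⟨A, A ⊔ U, inf_le_left, cA, sup_le (inf_le_left.trans hB') UP, ⟨eS, h27⟩, le_sup_left,
      le_sup_right⟩
  · refine ⟨A, B', inf_le_left, cA, hB', e', inf_le_left, ?_⟩
    obtain ⟨k, hk⟩ := IsPGroup.iff_card.1 (pg3 eS)
    have i4 : k < 3 := by
      rw [hk] at h27
      exact (Nat.pow_lt_pow_iff_right (by norm_num : 1 < 3)).1 (by omega)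
    have : A = A ⊔ U := by
      refine eq_of_le_of_card_ge le_sup_left ?_
      interval_cases k <;> omega
    exact le_sup_right.trans (this.ge.trans inf_le_left)

end H64.DpQU
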