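import Cfsg.Agent.H91.SOFA
import Cfsg.Agent.H59.SOFrame

/-! STD-SP endgame (row S3129): triality exists. -/

set_option autoImplicit false
set_option linter.unusedSectionVars false

namespace H64.YO

open H56 H58 H59.SO H91.SO QuadraticMap Module Subgroup

variable {F V : Type} [Field F] [Finite F] [CharP F 2] [AddCommGroup V] [Module F V]
  [FiniteDimensional F V] {Q : QuadraticForm F V}

theorem exists_not_lin (h : Par0 Q) (h8 : finrank F V = 8) (hp : IsPlus Q) :
    ∃ β : Au Q, ¬ Lin Q β := by
  by_contra hn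
  have hs : Function.Surjective (outHom Q) := fun o => by
    obtain ⟨β, rfl⟩ := out_surj h o
    exact (range_gam h).le (not_not.1 (not_exists.1 hn β))
  obtain ⟨g, hg⟩ := hp.exists_equiv h.nd (m := 4) h8
  have s := isSemisim_of_linearEquiv (Q := qPlus 4 F) (P := Q) g one_ne_zero (by simpa using hg)
  have := Fintype.ofFinite F
  obtain ⟨f, f1, hf, -⟩ := exists_f (F := F)
  obtain ⟨e⟩ := out_qPlus_four_two (Nat.card_eq_fintype_card.symm.trans hf) rfl f1
  replace e := (outCongr ((pOmegaEquiv _ (coe_qPlus 4 F)).trans s.pconj)).symm.trans e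
  obtain ⟨a, ha⟩ := hs (e.symm (Equiv.swap 0 1, 1))
  obtain ⟨b, hb⟩ := hs (e.symm (Equiv.swap 1 2, 1))
  have k := congrArg (fun x => (e (outHom Q x)).1) (GN_comm h a b)
  simp only [map_mul, ha, hb, MulEquiv.apply_symm_apply, Prod.fst_mul] at k
  exact absurd k (by decide)

end H64.YO
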