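import Cfsg.Agent.H64.YESpec2
import Cfsg.Agent.H9.UfK1

/-! STD-SP endgame (row S3129), kit 2: fusion and four-group lemmas. -/

set_option autoImplicit false
set_option linter.unusedSectionVars false

namespace H64.YE

open H64.SG (O2 Syl Cz Cs Ns cjs Is2 Inv2 UF mem_Cs mem_Cz is2_of_sq isPGroup_iff_is2 syl_iff)
open Subgroup H67.UA H67.SP H98
open H67.SA (cm conj_mem_St)
open H59.SO (Ind AutOn ind_conj map_mem_Ns map_mem_Cs mem_Cs_map mem_Cs_range)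

universe u

section Gen

variable {G : Type*} [Group G] [Finite G] {M H A P K D : Subgroup G} {a d g m : G}

theorem Fx.of_uf (h : UF M a) : Fx M a := h.uf

theorem Fx.conj (h : Fx M a) (hm : m ∈ M) : Fx M (m * a * m⁻¹) := fun g hg =>
  (mul_mem_cancel_right hm).1 (h (g * m) (by convert hg using 1; group))

theorem Fx.cz (h : Fx M a) (ha : a ∈ M) : Cz a ≤ M := fun g hg =>
  h g (by rw [← mem_Cz.1 hg, mul_inv_cancel_right]; exact ha)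

theorem Fx.two_le (ha : a ∈ M) (h : Fx M a) (hP : IsPGroup 2 P) (hp : a ∈ P) : P ≤ M := by
  by_contra hn
  obtain ⟨n, h1, h2⟩ := SetLike.exists_of_lt (lt_inf_normalizer hP
    (lt_of_le_of_ne (inf_le_left : P ⊓ M ≤ P) fun e => hn (inf_eq_left.1 e)))
  exact h2 ⟨h1.1, h n (conj_mem_of_mem_normalizer h1.2 ⟨hp, ha⟩).2⟩

/-- The fusion lemma. -/
theorem fl (fa : Fx M a) (fd : Fx M d) (a2 : Is2 a) (d2 : Is2 d) (dM : d ∈ M) (aA : a ∈ Ns A)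
    (dA : d ∈ Ns (cjs g A)) (aH : a ∈ H) (dH : d ∈ H) (gH : g ∈ H) :
    ∃ m ∈ M ⊓ H, ∃ n ∈ Ns A ⊓ H, g = m * n := by
  obtain ⟨P, hP, h1⟩ := exists_isSyl_le (H := Ns (cjs g A) ⊓ H) d2.zpowers (zpowers_le.2 ⟨dA, dH⟩)
  obtain ⟨k, hk, h2⟩ := hP.exists_cj_le (a2.conj g).zpowers (zpowers_le.2 (mem_inf.2
    ⟨H64.SG.cj_Ns g A ▸ conj_mem_cj aA, mul_mem (mul_mem gH aH) (inv_mem gH)⟩))
  obtain ⟨k1, k2⟩ := mem_inf.1 hk
  have h3 := Fx.two_le dM fd hP.isPGroup (h1 (mem_zpowers d)) (h2 (conj_mem_cj (mem_zpowers _)))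
  refine ⟨k * g, mem_inf.2 ⟨fa _ (by convert h3 using 1; group), mul_mem k2 gH⟩, g⁻¹ * k⁻¹ * g,
    mem_inf.2 ⟨mem_cj.1 (H64.SG.cj_Ns g A ▸ inv_mem k1 : k⁻¹ ∈ cjs g (Ns A)),
      mul_mem (mul_mem (inv_mem gH) (inv_mem k2)) gH⟩, by group⟩

theorem syl_inf (h : Syl P K) (h1 : D ≤ K) (h2 : P ≤ Ns D) : Syl (P ⊓ D) D := by
  exact syl_iff.2 ((syl_iff.1 h).inf_of_le_normalizer h1 h2)

theorem mem_Ns_zp (h : a * g = g * a) : a ∈ Ns (zpowers g) :=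
  H64.SG.Cs_le_Ns _ (mem_Cs.2 fun b hb => by
    obtain ⟨k, rfl⟩ := mem_zpowers_iff.1 hb
    exact (Commute.zpow_left (Commute.symm h) k : _))

/-- An element of odd group `O` that normalises a `2`-group normalising `O` centralises it. -/
theorem cs_of_odd {O Q : Subgroup G} (hO : Odd (Nat.card O)) (hQ : IsPGroup 2 Q) (h1 : Q ≤ Ns O)
    {o : G} (ho : o ∈ O) (h2 : o ∈ Ns Q) : o ∈ Cs Q := mem_Cs.2 fun x hx => by
  have k1 : o * x * o⁻¹ * x⁻¹ ∈ Q := mul_mem (conj_mem_of_mem_normalizer h2 hx) (inv_mem hx)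
  have k2 : o * (x * o⁻¹ * x⁻¹) ∈ O := mul_mem ho (conj_mem_of_mem_normalizer (h1 hx) (inv_mem ho))
  have := (isPGroup_iff_is2.1 hQ _ k1).eq_one (H64.SG.odd_orderOf_of_mem hO (by
    simpa only [mul_assoc] using k2))
  exact (H67.SA.cm_eq_one.1 this).symm

theorem Ac.refl (a : G) : Ac a a := ⟨1, rfl⟩
theorem Ac.symm (h : Ac a d) : Ac d a := let ⟨β, e⟩ := h; ⟨β⁻¹, by rw [← e]; simp⟩
theorem Ac.trans (h : Ac a d) (h' : Ac d g) : Ac a g :=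
  let ⟨β, e⟩ := h; let ⟨γ, e'⟩ := h'; ⟨γ * β, by rw [MulAut.mul_apply, e, e']⟩
theorem Ac.of_conj (h : IsConj a d) : Ac a d :=
  let ⟨c, e⟩ := isConj_iff.1 h; ⟨MulAut.conj c, e⟩

end Gen

section Amb

variable {n : ℕ} {F : Type} [Field F] [StarRing F] [TrivialStar F] [CharP F 2] [Finite F]
  {Y : Type} [Group Y] [Finite Y] [QS Y] {G : Type u} [Group G] [Finite G] {ι : XU n F →* Y}
  {τ : MulAut Y} {Gd Go : XU n F → Prop} {U : Subgroup Y} {e : XU n F →* G} {t : G} {Φ : Y →* G}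
  {K₀ : Subgroup G} {r y y' : Y} {Z Q R A B : Subgroup Y} {g m : G}

/-- `t ^ (Φ w)` -/
abbrev tt (Φ : Y →* G) (t : G) (w : Y) : G := Φ w * t * (Φ w)⁻¹

theorem ind_tw (h : Ind Φ t τ) (w : Y) : Ind Φ (tt Φ t w) (tw τ w) := (ind_conj w).conj h

theorem Φ_mem (w : Y) : Φ w ∈ Ns Φ.range := le_normalizer (⟨w, rfl⟩ : Φ w ∈ Φ.range)

theorem exists_aut (hk : Φ.ker ≤ center Y) (hA : IsPGroup 2 A) (hg : g ∈ Ns (A.map Φ)) :
    ∃ θ, AutOn A θ ∧ ∀ x ∈ A, g * Φ x * g⁻¹ = Φ (θ x) := by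
  have k : ∀ x, ∃ z, x ∈ A → z ∈ A ∧ Φ z = g * Φ x * g⁻¹ := fun x => by
    by_cases hx : x ∈ A
    · obtain ⟨z, h1, h2⟩ := conj_mem_of_mem_normalizer hg (mem_map_of_mem Φ hx)
      exact ⟨z, fun _ => ⟨h1, h2⟩⟩
    · exact ⟨1, fun h => absurd h hx⟩
  choose θ hθ using k
  have a2 := isPGroup_iff_is2.1 hA
  refine ⟨θ, ⟨⟨fun x hx => (hθ x hx).1, fun x hx x' hx' e1 => inj2 hk (a2 _ hx) (a2 _ hx') ?_,
    fun z hz => ?_⟩, fun a ha b hb => inj2 hk (a2 _ (hθ _ (mul_mem ha hb)).1)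
      (a2 _ (mul_mem (hθ a ha).1 (hθ b hb).1)) ?_⟩, fun x hx => (hθ x hx).2.symm⟩
  · have := (hθ x hx).2.symm.trans (e1 ▸ (hθ x' hx').2)
    simpa using this
  · obtain ⟨x, hx, e1⟩ := conj_mem_of_mem_normalizer' hg (mem_map_of_mem Φ hz)
    exact ⟨x, hx, inj2 hk (a2 _ (hθ x hx).1) (a2 _ hz) (by rw [(hθ x hx).2, e1]; group)⟩
  · rw [map_mul, (hθ _ (mul_mem ha hb)).2, (hθ a ha).2, (hθ b hb).2, map_mul, conj_mul]

theorem MI.of_tw (h : M1 ι τ U) {w : Y} (hy : tw τ w y = y) : MI ι y := by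
  obtain ⟨u, hu⟩ := (h.fix (w⁻¹ * y * w)).1 (by
    have : w * τ (w⁻¹ * y * w) * w⁻¹ = y := by simpa [tw] using hy
    conv_rhs => rw [← this]
    group)
  exact ⟨w, u, by rw [hu]; group⟩

theorem MI.tw (h : M1 ι τ U) (hy : MI ι y) : ∃ w, tw τ w y = y := by
  obtain ⟨w, u, rfl⟩ := hy
  exact ⟨w, by simp [YE.tw, mul_assoc, (h.fix (ι u)).2 ⟨u, rfl⟩]⟩

theorem MI.of_fix (h : M1 ι τ U) (hy : τ y = y) : MI ι y :=
  let ⟨u, hu⟩ := (h.fix y).1 hy; ⟨1, u, by simp [hu]⟩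

theorem Good.two (h : M1 ι τ U) (g : Good τ U R) : IsPGroup 2 R := h.syl.2.1.to_le g.le
theorem RD.twoQ (h : M1 ι τ U) (d : RD ι τ Go U r Z Q) : IsPGroup 2 Q := h.syl.2.1.to_le d.qu
theorem RD.twoZ (h : M1 ι τ U) (d : RD ι τ Go U r Z Q) : IsPGroup 2 Z := (d.twoQ h).to_le d.zq
theorem RD.qc (d : RD ι τ Go U r Z Q) : Q ≤ Cs Z := d.qu.trans d.uz
theorem RD.cn (d : RD ι τ Go U r Z Q) : Cs Z ≤ Ns Q := fun _ hp =>
  conj_mem_St.1 (d.stq _ (conj_mem_St.2 (H64.SG.Cs_le_Ns _ hp)))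
theorem RD.stZ (d : RD ι τ Go U r Z Q) : τ ∈ H67.SA.St Z := d.str τ d.tr
theorem RD.stQ (d : RD ι τ Go U r Z Q) : τ ∈ H67.SA.St Q := d.stq τ d.stZ
theorem RD.root_aut (d : RD ι τ Go U r Z Q) (hy : IsConj r y) (α : MulAut Y) : IsConj r (α y) :=
  (d.ra α).trans (α.toMonoidHom.map_isConj hy)

namespace E1

variable (h : E1 ι τ Gd Go U e t Φ K₀)
include h

theorem m1 : M1 ι τ U := h.toM1
theorem tM : t ∈ Ns Φ.range := h.act.mem_Ns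
theorem fx : Fx (Ns Φ.range) t := h.uf.uf

theorem fxt (w : Y) : tt Φ t w ∈ Ns Φ.range ∧ Fx (Ns Φ.range) (tt Φ t w) ∧
    tt Φ t w * tt Φ t w = 1 :=
  ⟨(ind_tw h.act w).mem_Ns, h.fx.conj (Φ_mem w), by rw [conj_mul, h.inv.1]; group⟩

theorem tt_comm {w : Y} (hy : tw τ w y = y) : tt Φ t w * Φ y = Φ y * tt Φ t w :=
  (ind_tw h.act w).comm hy

theorem pre2 (h1 : m ∈ Ns Φ.range) (h2 : Is2 m) (h3 : m ∈ K₀) : ∃ y, Is2 y ∧ Φ y = m :=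
  exists_is2_range (h.two2 m h1 h2 h3) h2

theorem conjK (hm : m ∈ K₀) (g : G) : g * m * g⁻¹ ∈ K₀ := h.nor.conj_mem m hm g

theorem ΦK (y : Y) : Φ y ∈ K₀ := h.le ⟨y, rfl⟩

/-- Fusion of elements that are conjugate into `X`. -/
theorem fu (y2 : Is2 y) (y2' : Is2 y') (h1 : MI ι y) (h2 : MI ι y') (hg : g * Φ y * g⁻¹ = Φ y') :
    (∃ m ∈ Ns Φ.range, ∃ c ∈ Cz (Φ y), g = m * c) ∧ Ac y y' := by
  obtain ⟨w, hw⟩ := h1.tw h.m1
  obtain ⟨w', hw'⟩ := h2.tw h.m1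
  obtain ⟨a1, a2, a3⟩ := h.fxt w
  obtain ⟨d1, d2, d3⟩ := h.fxt w'
  have k : cjs g (Cz (Φ y)) = Cz (Φ y') := by
    ext a
    rw [mem_cj, mem_Cz, mem_Cz, ← hg]
    constructor <;> intro e1
    · calc _ = g * (Φ y * (g⁻¹ * a * g)) * g⁻¹ := by group
        _ = _ := by rw [e1]; group
    · calc _ = g⁻¹ * (g * Φ y * g⁻¹ * a) * g := by group
        _ = _ := by rw [e1]; group
  obtain ⟨P, hP, p1⟩ := exists_isSyl_le (H := Cz (Φ y')) (is2_of_sq d3).zpowers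
    (zpowers_le.2 (mem_Cz.2 (h.tt_comm hw').symm))
  obtain ⟨k, k1, k2⟩ := hP.exists_cj_le ((is2_of_sq a3).conj g).zpowers
    (zpowers_le.2 (k ▸ conj_mem_cj (mem_Cz.2 (h.tt_comm hw).symm)))
  have h3 := Fx.two_le d1 d2 hP.isPGroup (p1 (mem_zpowers _)) (k2 (conj_mem_cj (mem_zpowers _)))
  have h4 : k * g ∈ Ns Φ.range := a2 _ (by convert h3 using 1; group)
  have h5 : k * g * Φ y * (k * g)⁻¹ = Φ y' := by
    calc _ = k * (g * Φ y * g⁻¹) * k⁻¹ := by group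
      _ = _ := by rw [hg, ← mem_Cz.1 k1, mul_inv_cancel_right]
  obtain ⟨β, hβ⟩ := exists_ind h.ker h4
  refine ⟨⟨k * g, h4, (k * g)⁻¹ * g, mem_Cz.2 ?_, by group⟩, β, (ind_eq_iff h.ker hβ y2 y2').1 h5⟩
  calc _ = (k * g)⁻¹ * (k * g * Φ y * (k * g)⁻¹) * g := by group
    _ = _ := by rw [h5, ← hg]; group

theorem rf (hm : MIa ι) (hr : r * r = 1) : RF Φ r := fun g hg => by
  obtain ⟨y, h1, h2⟩ := exists_sq_range h.ker hg (by rw [conj_mul, ← map_mul, hr]; simp)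
  exact (h.fu (is2_of_sq hr) (is2_of_sq h1) (hm r hr) (hm y h1) h2.symm).1

theorem root (d : RD ι τ Go U r Z Q) (f : RF Φ r) (hy : IsConj r y) (hg : g * Φ y * g⁻¹ ∈ Φ.range) :
    ∃ y', IsConj r y' ∧ g * Φ y * g⁻¹ = Φ y' := by
  obtain ⟨w, rfl⟩ := isConj_iff.1 hy
  have e1 : g * Φ (w * r * w⁻¹) * g⁻¹ = g * Φ w * Φ r * (g * Φ w)⁻¹ := by simp [mul_assoc]
  rw [e1] at hg ⊢
  obtain ⟨m, h1, c, h2, e2⟩ := f _ hg
  obtain ⟨β, hβ⟩ := exists_ind h.ker h1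
  refine ⟨β r, d.ra β, ?_⟩
  rw [e2, ← hβ]
  calc _ = m * (c * Φ r * c⁻¹) * m⁻¹ := by group
    _ = _ := by rw [← mem_Cz.1 h2, mul_inv_cancel_right]

/-- The same for `2`-elements: `y'` is the unique preimage. -/
theorem root' (d : RD ι τ Go U r Z Q) (f : RF Φ r) (hy : IsConj r y) (y2 : Is2 y')
    (hg : g * Φ y * g⁻¹ = Φ y') : IsConj r y' := by
  obtain ⟨y₁, h1, h2⟩ := h.root d f hy (g := g) ⟨y', hg.symm⟩
  obtain ⟨w, rfl⟩ := isConj_iff.1 h1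
  rwa [inj2 h.ker y2 ((is2_of_sq d.inv.1).conj w) (hg.symm.trans h2)]

theorem co (hR : IsPGroup 2 R) (c : Co R) {o : G} (h1 : o ∈ Ns Φ.range) (h2 : Odd (orderOf o))
    (h3 : o ∈ Cs (R.map Φ)) : o ∈ Cs Φ.range := by
  obtain ⟨β, hβ⟩ := exists_ind h.ker h1
  exact (ind_eq_one_iff h.ker hβ).1 (c β (ind_fix h.ker hβ hR h3) (ind_odd h.ker hβ h2))

/-- The four-group lemma. -/
theorem oc {O : Subgroup G} (hO : Odd (Nat.card O)) (h1 : t ∈ Ns O) (h2 : B.map Φ ≤ Ns O)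
    (h3 : O ⊓ Ns Φ.range ≤ Cs Φ.range) : O ≤ Cs ((EG ι Go B).map Φ) := by
  have key : ∀ v, v * v = 1 → Go v → ι v ∈ B → O ≤ Cz (Φ (ι v)) := fun v v2 g hv => by
    rw [h.res]
    by_cases v1 : e v = 1
    · exact fun x _ => mem_Cz.2 (by rw [v1, mul_one, one_mul])
    have c := h.toB1.comm v
    have ee : e v * e v = 1 := by rw [← map_mul, v2, map_one]
    have k : O ⊓ Ns Φ.range ≤ Cz (e v) := fun x hx => mem_Cz.2 (h3 hx _ ⟨ι v, h.res v⟩)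
    have n1 : t * e v ≠ 1 := fun e1 =>
      h.nt (eq_inv_of_mul_eq_one_left e1 ▸ inv_mem (h.res v ▸ h.ΦK (ι v)))
    refine H14.le_of_four (a := t) (b := t * e v)
      (orderOf_eq_prime (by rw [pow_two, h.inv.1]) h.inv.2)
      (orderOf_eq_prime (by
        rw [pow_two, mul_assoc, ← mul_assoc (e v), ← c, mul_assoc, ee, mul_one, h.inv.1]) n1)
      (by rw [mul_assoc, ← c]) (fun e1 => v1 (left_eq_mul.1 e1)) (Nat.coprime_two_right.2 hO) h1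
      (mul_mem h1 (h.res v ▸ h2 (mem_map_of_mem Φ hv))) ((inf_le_inf_left O h.ct).trans k)
      ((inf_le_inf_left O (h.go v v2 g)).trans k) ?_
    rw [← mul_assoc, h.inv.1, one_mul]
    exact inf_le_right
  intro o ho
  have : EG ι Go B ≤ (Cz o).comap Φ := (closure_le _).2 (by
    rintro _ ⟨b, hb, v, v2, g, hv, rfl⟩
    have := mem_Cz.1 (key v v2 g hv (conj_mem_of_mem_normalizer' (h2 (mem_map_of_mem Φ hb)) ho))
    refine mem_Cz.2 ?_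
    simp only [map_mul, map_inv]
    calc _ = Φ b * ((Φ b)⁻¹ * o * Φ b * Φ (ι v)) * (Φ b)⁻¹ := by group
      _ = _ := by rw [← this]; group)
  exact mem_Cs_map.2 fun s hs => (mem_Cz.1 (this hs)).symm

theorem mz (d : RD ι τ Go U r Z Q) (h1 : m ∈ Ns Φ.range) (h2 : m ∈ Ns (Z.map Φ)) :
    m ∈ Ns (Q.map Φ) := by
  obtain ⟨β, hβ⟩ := exists_ind h.ker h1
  exact hβ.mem_Ns_map (d.stq β (ind_st h.ker hβ (d.twoZ h.m1) h2))

theorem mr (d : RD ι τ Go U r Z Q) (h1 : m ∈ Ns Φ.range) (h2 : m ∈ Cz (Φ r)) :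
    m ∈ Ns (Z.map Φ) := by
  obtain ⟨β, hβ⟩ := exists_ind h.ker h1
  exact hβ.mem_Ns_map (d.str β ((ind_comm_iff h.ker hβ (is2_of_sq d.inv.1)).1 (mem_Cz.1 h2).symm))

/-- The first case of `JobGC`. -/
theorem case1 (d : RD ι τ Go U r Z Q) {O : Subgroup G} (hO : Odd (Nat.card O)) (h1 : t ∈ Ns O)
    (h2 : (Cs Z).map Φ ≤ Ns O) (h3 : O ⊓ Ns Φ.range ≤ Ns (Q.map Φ)) : O ≤ Cs (Q.map Φ) :=
  (h.oc hO h1 h2 fun _ ho => h.co (d.twoQ h.m1) d.co ho.2 (H64.SG.odd_orderOf_of_mem hO ho.1)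
    (cs_of_odd hO ((d.twoQ h.m1).map Φ) ((map_mono d.qc).trans h2) ho.1 (h3 ho))).trans
      (centralizer_le (map_mono d.gq))

theorem sylZ (d : RD ι τ Go U r Z Q) : Syl (U.map Φ) (K₀ ⊓ Cs (Z.map Φ)) :=
  syl_iff.2 ((syl_iff.1 h.sylK).of_le (le_inf h.sylK.1 (by
    rintro _ ⟨u, hu, rfl⟩; exact map_mem_Cs (d.uz hu))) inf_le_left)

theorem inf_K : (U.map Φ ⊔ zpowers t) ⊓ K₀ = U.map Φ :=
  (syl_iff.1 h.sylK).eq_of_le (h.sylS.2.1.to_le inf_le_left) (le_inf le_sup_left h.sylK.1)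
    inf_le_right

end E1

end Amb

end H64.YE
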