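import Cfsg.Agent.H51.TESpec

/-! # S1308, tower TE part 2: job C4b. -/

set_option autoImplicit false

namespace H64.TeC4b

open Cfsg Subgroup H14 H98 H1.Gold H31.S2 H14.GC H14.FE H14.NF H51.TE
open scoped commutatorElement

universe u

variable {G : Type u} [Group G]

theorem tv {A B : Subgroup G} {x : G} (h : B ≤ cen A) (hx : x ∈ cen A) (h1 : ∀ b ∈ B, ⁅b, x⁆ ∈ A)
    (h2 : ∀ b ∈ B, b ≠ 1 → ⁅b, x⁆ ≠ 1) : Tv (A ⊔ B) A x := by
  have n : B ≤ nor A := h.trans (centralizer_le_normalizer _)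
  refine ⟨fun f hf => ⟨fun e => ?_, fun e => (hx f e).symm⟩, fun f hf => ?_⟩
  · obtain ⟨a, ha, b, hb, rfl⟩ := (mem_sup_right_norm n).1 hf
    have c : Commute x b := by
      have := (show Commute x a from (hx a ha).symm).inv_right.mul_right (show Commute x (a * b) from e)
      rwa [inv_mul_cancel_left] at this
    rw [show b = 1 from by_contra fun b1 =>
      h2 b hb b1 (commutatorElement_eq_one_iff_mul_comm.2 c.symm.eq), mul_one]
    exact ha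
  · obtain ⟨a, ha, b, hb, rfl⟩ := (mem_sup_right_norm n).1 hf
    have e : ⁅a * b, x⁆ = a * ⁅b, x⁆ * a⁻¹ := by
      calc ⁅a * b, x⁆ = a * ⁅b, x⁆ * a⁻¹ * (a * x) * a⁻¹ * x⁻¹ := by
            simp only [commutatorElement_def]; group
        _ = a * ⁅b, x⁆ * a⁻¹ := by rw [hx a ha]; group
    rw [e]
    exact A.mul_mem (A.mul_mem ha (h1 b hb)) (A.inv_mem ha)

theorem el_sup {A B : Subgroup G} (h : B ≤ cen A) (ea : El A) (eb : El B) : El (A ⊔ B) := by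
  intro f hf
  obtain ⟨a, ha, b, hb, rfl⟩ := (mem_sup_right_norm (h.trans (centralizer_le_normalizer _))).1 hf
  calc a * b * (a * b) = a * (b * a) * b := by simp only [mul_assoc]
    _ = (a * a) * (b * b) := by rw [← h hb a ha]; simp only [mul_assoc]
    _ = 1 := by rw [ea a ha, eb b hb, one_mul]

theorem home {Q E Q₁ E₁ Q₂ E₂ : Subgroup G} (t : TG Q E) (p : Pt Q E Q₁ E₁) (p' : Pt Q E Q₂ E₂)
    (h : E₁ ⊓ E₂ ≠ ⊥) : Q₁ = Q₂ := by_contra fun e => by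
  obtain ⟨⟨d, hd⟩, d1⟩ := ne_bot_iff_exists_ne_one.1 h
  exact pt_ti t p p' e d ⟨pt_le t p hd.1, pt_le t p' hd.2⟩
    ⟨fun e => d1 (Subtype.ext e), pt_el t p d hd.1⟩

theorem job : JobC4b.{u} := by
  intro odd G _ _ Q E gx Q₁ E₁ Q₂ E₂ c Q₀ V c1 c2 cm t ht t1 v hv
  have tg := gx.tg
  by_cases v1 : v = 1
  · exact ⟨1, one_mem _, ⟨0, one_pow _⟩, fun s _ => by simp, by simp [v1]⟩
  have inj : Function.Injective fun a : E₂ => (⟨⁅t, (a : G)⁆, cm t ht a a.2⟩ : V) := fun a b e => by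
    have e1 : ⁅t, (a : G)⁆ = ⁅t, (b : G)⁆ := congrArg Subtype.val e
    by_contra n
    refine c.o2 ((b : G)⁻¹ * a) (E₂.mul_mem (E₂.inv_mem b.2) a.2)
      (fun k => n (Subtype.ext (inv_mul_eq_one.1 k).symm))
      (pt_cen tg c.p1 (pt_le tg c.p1 ht) ⟨t1, pt_el tg c.p1 t ht⟩
        (mem_centralizer_singleton_iff.2 ?_))
    calc (b : G)⁻¹ * a * t = (b : G)⁻¹ * ⁅t, (a : G)⁆⁻¹ * t * a := by
          simp only [commutatorElement_def]; group
      _ = t * ((b : G)⁻¹ * a) := by rw [e1]; simp only [commutatorElement_def]; group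
  obtain ⟨⟨a, ha⟩, e⟩ := (inj.bijective_of_nat_card_le
    (by rw [pt_card c1.p1, pt_card c.p2])).2 ⟨v, hv⟩
  have e : ⁅t, a⁆ = v := congrArg Subtype.val e
  have a1 : a ≠ 1 := fun k => v1 (by rw [← e, k]; simp)
  have eF : El (V ⊔ E₁) := el_sup c1.comm (pt_el tg c1.p1) (pt_el tg c.p1)
  have t1 : Tv (V ⊔ E₁) V a := tv c1.comm (c2.comm ha) (fun b hb => cm b hb a ha) fun b hb b1 k =>
    c.o1 b hb b1 (pt_cen tg c.p2 (pt_le tg c.p2 ha) ⟨a1, pt_el tg c.p2 a ha⟩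
      (mem_centralizer_singleton_iff.2 (commutatorElement_eq_one_iff_mul_comm.1 k)))
  have c1' := tg.sym _ _ _ _ c1
  obtain ⟨P, pg, -⟩ := tg.px _ _ _ _ c1' ⊥ bot_le IsPGroup.of_bot fun x _ y hy => by
    rw [mem_bot.1 hy]; simp
  obtain ⟨u, hu, uE⟩ := SetLike.exists_of_lt pg.lt
  have t2 : Tv (V ⊔ E₁) E₁ u := sup_comm E₁ V ▸ tv c1'.comm (pg.le hu).2
    (fun b hb => pg.cm b hb u hu) (pg.nd u hu uE)
  have V0 : V ≠ ⊥ := fun k => v1 (mem_bot.1 (k ▸ hv))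
  have ti : ∀ Qw W, Pt Q E Qw W → W ≤ V ⊔ E₁ → ∀ g ∈ nor (V ⊔ E₁), cj g W ⊓ V ≠ ⊥ → cj g W = V :=
    fun Qw W p l g hg k => by
      have p' := pt_cj p g
      rw [home tg p' c1.p1 k] at p'
      exact eq_of_le_of_card_ge (fun d hd => gx.cu _ _ _ c1.p1 p' _ (El.two eF) le_sup_left d hd
        (cj_le_of_le l hg hd)) (by rw [pt_card p', pt_card c1.p1])
  obtain ⟨-, g, -, hc, hg⟩ := odd G (V ⊔ E₁) V E₁ a u eF le_sup_left le_sup_right V0
    (by_contra fun k => c1.ne (home tg c1.p1 c.p1 k)) t1 t2 (ti _ _ c1.p1 le_sup_left)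
    (ti _ _ c.p1 le_sup_right)
  have hQ : cj g Q₁ = Q₀ := home tg (pt_cj c.p1 g) c1.p1 (by rwa [hg, inf_idem])
  have key : ∀ s ∈ E₁, ⁅s, g * u * g⁻¹⁆ = ⁅s, a⁆ := fun s hs => by
    have := hc s (mem_sup_right hs)
    generalize g * u * g⁻¹ = y at this
    calc ⁅s, y⁆ = s * y * s⁻¹ * (y⁻¹ * a * s) * s⁻¹ * a⁻¹ := by
          simp only [commutatorElement_def]; group
      _ = s * y * (y⁻¹ * a) * s⁻¹ * a⁻¹ := by rw [← this]; group
      _ = ⁅s, a⁆ := by simp only [commutatorElement_def]; group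
  refine ⟨g * u * g⁻¹, ⟨hQ ▸ conj_mem_cj (pg.le hu).1, ?_⟩, ?_, fun s hs => ?_, (key t ht).trans e⟩
  · rw [← hg, cen_cj]
    exact conj_mem_cj (pg.le hu).2
  · obtain ⟨n, hn⟩ := isPGroup_iff_forall.1 pg.two u hu
    exact ⟨n, by rw [conj_pow, hn, mul_one, mul_inv_cancel]⟩
  · rw [key s hs]
    exact cm s hs a ha

end H64.TeC4b
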