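import Cfsg.Agent.H57.U2CSpec

/-! # S3275, chapter U2F: job NE. -/

set_option autoImplicit false

namespace H64.U2cNE

open Subgroup Cfsg H98 H48.DP H57.U2C
open scoped commutatorElement

universe u

variable {G : Type u} [Group G]

theorem mem_one {x : G} : x ∈ zpowers (1 : G) ↔ x = 1 := by rw [zpowers_one_eq_bot, mem_bot]

theorem st_one (V : Subgroup G) : St V 1 = Ce V := by
  ext x
  rw [mem_stab]
  refine ⟨fun h c hc => commutatorElement_eq_one_iff_mul_comm.1 (mem_one.1 (h.2 c hc)),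
    fun h => ⟨?_, fun c hc => mem_one.2 (commutatorElement_eq_one_iff_mul_comm.2 (h c hc))⟩⟩
  rw [zpowers_one_eq_bot]
  exact le_normalizer_bot ⊤ (mem_top x)

theorem com_l {V : Subgroup G} {a w : G} (ha : a ∈ V) (hw : w ∈ No V) : ⁅a, w⁆ ∈ V := by
  rw [show ⁅a, w⁆ = a * (w * a⁻¹ * w⁻¹) by rw [commutatorElement_def]; group]
  exact V.mul_mem ha (conj_mem_of_mem_normalizer hw (V.inv_mem ha))

theorem com_r {V : Subgroup G} {a w : G} (ha : a ∈ No V) (hw : w ∈ V) : ⁅a, w⁆ ∈ V :=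
  V.mul_mem (conj_mem_of_mem_normalizer ha hw) (V.inv_mem hw)

theorem side [Finite G] (goff : GOFF.{u}) {M Q K F V M' Q' K' F' V' : Subgroup G}
    (p : Np M Q K F V) (p' : Np M' Q' K' F' V') (hQ : ¬ Q' ≤ M) (h1 : V ≤ K') (h2 : V' ≤ K)
    (hi : (Ce V').relIndex V ≤ (Ce V).relIndex V') : V ≤ Ce V' := by
  intro w hw b hb
  by_contra hn
  have ab : ∀ a ∈ V', ∀ c ∈ V', a * c = c * a := fun a ha c hc =>
    congrArg Subtype.val (p'.ea.1.is_comm.comm ⟨a, ha⟩ ⟨c, hc⟩)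
  obtain ⟨a, ha, u1, ug, -⟩ := goff G K F V V' (V ⊓ Ce V') 1 p.toMd
    ⟨h2, fun g => ⟨1, Subtype.ext (by simpa using p'.ea.2 g g.2)⟩, fun a ha b hb w hw =>
      mem_one.2 (commutatorElement_eq_one_iff_mul_comm.2
        (ab a ha _ (com_l hb (p'.KU (h1 hw)))))⟩
    inf_le_left (one_mem _)
    (fun h hh a ha => mem_one.2 (commutatorElement_eq_one_iff_mul_comm.2 (hh.2 a ha)))
    (by rwa [st_one, inf_relIndex_left]) w hw b hb
    fun e => hn (commutatorElement_eq_one_iff_mul_comm.1 (mem_one.1 e))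
  refine hQ fun q hq => p.gd _ (com_r (p.KU (h2 ha)) hw) (fun e => u1 (mem_one.2 e)) ug ?_
  exact mem_centralizer_singleton_iff.2 (p'.QV hq _ (com_l ha (p'.KU (h1 hw)))).symm

theorem jobNE : JobNE.{u} := by
  intro goff G _ _ M Q K F V M' Q' K' F' V' p p' hQ hQ' h1 h2
  rcases le_total ((Ce V').relIndex V) ((Ce V).relIndex V') with h | h
  · exact side goff p p' hQ h1 h2 h
  · exact le_centralizer_iff.1 (side goff p' p hQ' h2 h1 h)

end H64.U2cNE
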