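import Cfsg.Agent.H63.KgvSpec

set_option autoImplicit false

namespace H64.KgvPA

open Polynomial Finset H63.Kgv

theorem exists_ext (F : Type) [Field F] [Fintype F] (m : ℕ) (hm : 0 < m) :
    ∃ (L : Type) (_ : Field L) (_ : Fintype L) (_ : Algebra F L), Module.finrank F L = m := by
  obtain ⟨p, hp⟩ := CharP.exists F
  have : Fact p.Prime := ⟨CharP.char_is_prime F p⟩
  have : NeZero m := ⟨hm.ne'⟩
  exact ⟨FiniteField.Extension F p m, inferInstance, Fintype.ofFinite _, inferInstance,
    FiniteField.finrank_extension F p m⟩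

theorem count {U : Type*} [CommGroup U] [IsCyclic U] [Fintype U] {r : ℕ} (hr : r.Prime)
    (η : U →* ℂˣ) (h1 : ∀ b, η b ^ r = 1) (h2 : ∃ b, η b ≠ 1) (f : U → ℂ) :
    ∑ a, f (a ^ r) = ∑ b, (∑ i ∈ range r, (η b : ℂ) ^ i) * f b := by
  classical
  have := Fact.mk hr
  obtain ⟨b0, hb0⟩ := h2
  have hd : r ∣ Nat.card U := by
    rw [← orderOf_eq_prime (h1 b0) hb0]
    exact (orderOf_map_dvd η b0).trans (orderOf_dvd_natCard b0)
  have hg : (Nat.card U).gcd r = r := Nat.gcd_eq_right hd
  let φ : U →* U := powMonoidHom r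
  have hle : φ.range ≤ η.ker := by
    rintro _ ⟨a, rfl⟩
    rw [MonoidHom.mem_ker, powMonoidHom_apply, map_pow, h1]
  have hi : φ.range.index = r := by rw [IsCyclic.index_powMonoidHom_range, hg]
  have hge : η.ker ≤ φ.range := by
    have h3 := Subgroup.relIndex_mul_index hle
    rw [hi] at h3
    rcases (Nat.dvd_prime hr).1 (Dvd.intro _ h3) with h | h
    · exact Subgroup.relIndex_eq_one.1 h
    · rw [h] at h3
      have h4 : η.ker.index = 1 := Nat.eq_of_mul_eq_mul_left hr.pos (by rw [h3, mul_one])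
      exact absurd (by rw [Subgroup.index_eq_one.1 h4]; trivial : b0 ∈ η.ker) hb0
  rw [← Finset.sum_fiberwise (s := univ) (g := φ)]
  refine Finset.sum_congr rfl fun b _ => ?_
  rw [Finset.sum_congr rfl (g := fun _ => f b) fun a ha => by
    rw [← (mem_filter.1 ha).2]; rfl, sum_const, nsmul_eq_mul]
  congr 1
  by_cases hb : η b = 1
  · have h5 := MonoidHom.card_fiber_eq_of_mem_range φ (x := b) (y := 1) (hge hb) ⟨1, map_one _⟩
    have h6 : #{g | φ g = 1} = r := by
      rw [← hg, ← IsCyclic.card_powMonoidHom_ker, ← Nat.card_eq_finsetCard]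
      exact Nat.card_congr (Equiv.subtypeEquivRight fun a => by simp [φ])
    rw [h5, h6, hb]; simp
  · have h5 : ({a | φ a = b} : Finset U) = ∅ :=
      filter_eq_empty_iff.2 fun a _ ha => hb (hle ⟨a, ha⟩)
    rw [h5, geom_sum_eq (by simpa using hb), ← Units.val_pow_eq_pow_val, h1]; simp

/-- Newton's identities determine the sequence. -/
theorem newton {r : ℕ} (x : Fin r → ℂ) (a s : ℕ → ℂ) (h0 : a 0 = 1)
    (h : ∀ n : ℕ, (n : ℂ) * a n = ∑ m ∈ range n, s (m + 1) * a (n - (m + 1)))
    (hs : ∀ m, s (m + 1) = -∑ i, (-x i) ^ (m + 1)) : a r = ∏ i, x i := by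
  classical
  have key : ∀ n, a n = MvPolynomial.aeval x (MvPolynomial.esymm (Fin r) ℂ n) := by
    intro n
    induction n using Nat.strong_induction_on with
    | _ n ih =>
      rcases Nat.eq_zero_or_pos n with rfl | hn
      · simp [h0]
      have h1 := congrArg (MvPolynomial.aeval x) (MvPolynomial.mul_esymm_eq_sum (Fin r) ℂ n)
      refine mul_left_cancel₀ (Nat.cast_ne_zero.2 hn.ne' : (n : ℂ) ≠ 0) ?_
      rw [map_mul, map_natCast] at h1
      rw [h1, h, map_mul, map_sum, Finset.mul_sum]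
      refine Finset.sum_bij' (fun m _ => (n - (m + 1), m + 1)) (fun c _ => c.2 - 1) ?_ ?_ ?_ ?_ ?_
      · intro m hm
        rw [mem_range] at hm
        simp only [mem_filter, HasAntidiagonal.mem_antidiagonal]; omega
      · intro c hc
        simp only [mem_filter, HasAntidiagonal.mem_antidiagonal] at hc
        rw [mem_range]; omega
      · intro m _; simp
      · intro c hc
        simp only [mem_filter, HasAntidiagonal.mem_antidiagonal] at hc
        ext <;> simp only <;> omega
      · intro m hm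
        rw [mem_range] at hm
        obtain ⟨k, rfl⟩ : ∃ k, n = k + (m + 1) := ⟨n - (m + 1), by omega⟩
        rw [Nat.add_sub_cancel, ih k (by omega), hs]
        simp only [MvPolynomial.psum, map_mul, map_pow, map_neg, map_one, map_sum,
          MvPolynomial.aeval_X, neg_pow (x _), ← Finset.mul_sum]
        have e : ((-1 : ℂ)) ^ k * (-1) ^ k = 1 := by rw [← mul_pow]; simp
        rw [pow_succ (-1 : ℂ) (k + (m + 1)), pow_add (-1 : ℂ) k]
        linear_combination ((-1 : ℂ) ^ (m + 1) * (∑ i, x i ^ (m + 1)) *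
          MvPolynomial.aeval x (MvPolynomial.esymm (Fin r) ℂ k)) * e
  rw [key, MvPolynomial.esymm]
  have : powersetCard r (univ : Finset (Fin r)) = {univ} := by
    simpa using powersetCard_self (univ : Finset (Fin r))
  rw [this]; simp

theorem sum_units {L : Type*} [Field L] [Fintype L] [DecidableEq L] (f : L → ℂ) (h0 : f 0 = 0) :
    ∑ a : L, f a = ∑ a : Lˣ, f a := by
  rw [← Finset.sum_erase (s := univ) (a := (0 : L)) h0]
  symm
  refine Finset.sum_bij (fun a _ => (a : L)) (fun a _ => by simp) (fun a _ b _ e => Units.ext e)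
    (fun b hb => ⟨Units.mk0 b (mem_erase.1 hb).1, mem_univ _, rfl⟩) fun _ _ => rfl

theorem job : JPA := by
  intro nw1 nw2 pw1 pw2 hd F _ _ ψ χ ρ r hψ hr hρ
  classical
  have hmu : Mu (lam ψ (χ ^ r) r) := (pw1 F).2.1 ψ (χ ^ r) r
  obtain ⟨a0, an'⟩ := nw1 F _ hmu
  rw [← Fin.prod_univ_eq_prod_range (fun i => gaussSum (χ * ρ ^ i) ψ)]
  refine (newton _ _ _ a0 an' fun m => ?_).symm
  obtain ⟨L, _, _, _, hL⟩ := exists_ext F (m + 1) m.succ_pos
  have hN0 : Algebra.norm F (0 : L) = 0 := Algebra.norm_zero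
  let η : Lˣ →* ℂˣ := ρ.toUnitHom.comp (Units.map (Algebra.norm F (S := L)))
  have hη : ∀ b : Lˣ, (η b : ℂ) = ρ (Algebra.norm F (b : L)) := fun b => by
    simp [η]
  have hu : ∀ b : Lˣ, IsUnit (Algebra.norm F (b : L)) := fun b => b.isUnit.map _
  have h1 : ∀ b, η b ^ r = 1 := fun b => Units.ext (by
    rw [Units.val_pow_eq_pow_val, hη, ← MulChar.pow_apply' _ hr.ne_zero, ← hρ, pow_orderOf_eq_one,
      MulChar.one_apply (hu b), Units.val_one])
  have h2 : ∃ b, η b ≠ 1 := by
    by_contra! h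
    have : ρ = 1 := MulChar.ext fun c => by
      obtain ⟨b, rfl⟩ := FiniteField.unitsMap_norm_surjective F L c
      have := hη b
      rw [h b] at this
      rw [MulChar.one_apply_coe]; exact this.symm
    rw [this, orderOf_one] at hρ
    exact hr.ne_one hρ.symm
  have h3 := count hr η h1 h2 fun b => χ (Algebra.norm F (b : L)) * ψ (Algebra.trace F L b)
  rw [← hL, ← nw2 F L _ hmu, Finset.sum_congr rfl fun a _ => pw2 pw1 F L ψ (χ ^ r) r a hr.pos,
    Finset.sum_congr rfl fun (i : Fin r) _ => (hd F L ψ (χ * ρ ^ (i : ℕ)) hψ).symm,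
    sum_neg_distrib, neg_neg, sum_units _ (by rw [hN0, MulChar.map_zero, mul_zero]),
    Finset.sum_congr rfl fun (i : Fin r) _ => sum_units (fun a : L => (χ * ρ ^ (i : ℕ))
      (Algebra.norm F a) * ψ (Algebra.trace F L a)) (by rw [hN0, MulChar.map_zero, zero_mul]),
    Finset.sum_comm]
  convert h3 using 2 with a _ b _
  · rw [MulChar.pow_apply' _ hr.ne_zero, Units.val_pow_eq_pow_val, map_pow (Algebra.norm F),
      map_pow χ, mul_comm]
  · rw [Finset.sum_mul, ← Fin.sum_univ_eq_sum_range (fun i => (η b : ℂ) ^ i * _)]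
    refine Finset.sum_congr rfl fun i _ => ?_
    obtain ⟨c, hc⟩ := hu b
    rw [hη, ← hc, MulChar.mul_apply, MulChar.pow_apply_coe]; ring

end H64.KgvPA
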