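import Cfsg.Agent.H96.U2CenSpec

/-! # S3275, chapter U2F, central case: job TR0. -/

set_option autoImplicit false

namespace H64.CenTR0

open Subgroup Cfsg H98 H48.DP H96.U2I H96.Cen

universe u

variable {W : Type u} [AddCommGroup W]

/-- The fixed points of `B`. -/
def fx (B : Subgroup (Au W)) : AddSubgroup W where
  carrier := {p | ∀ a ∈ B, a • p = p}
  add_mem' := fun hp hq a ha => by rw [smul_add, hp a ha, hq a ha]
  zero_mem' := fun a _ => smul_zero a
  neg_mem' := fun hp a ha => by rw [smul_neg, hp a ha]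

theorem exists_ne {a : Au W} (h : a ≠ 1) : ∃ p : W, a • p ≠ p := by
  by_contra e
  push Not at e
  exact h (LinearEquiv.ext e)

theorem comm {A : Subgroup (Au W)} (el : ∀ a ∈ A, a * a = 1) {a b : Au W} (ha : a ∈ A)
    (hb : b ∈ A) : a * b = b * a := by
  have i : ∀ x ∈ A, x⁻¹ = x := fun x hx => inv_eq_of_mul_eq_one_right (el x hx)
  rw [← i _ (A.mul_mem ha hb), mul_inv_rev, i a ha, i b hb]

theorem base [Finite W] (two : ∀ w : W, w + w = 0) {A : Subgroup (Au W)} (h : A ≠ ⊥)
    (hi : (fx A).index ≤ 2) : ∃ a ∈ A, ∃ c : W, Tm a c := by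
  obtain ⟨⟨a, ha⟩, a1⟩ := ne_bot_iff_exists_ne_one.1 h
  obtain ⟨p, hp⟩ := exists_ne (a := a) fun e => a1 (Subtype.ext e)
  have pf : p ∉ fx A := fun e => hp (e a ha)
  have i2 : (fx A).index = 2 := by
    have h0 := (fx A).index_ne_zero_of_finite
    have h1 : (fx A).index ≠ 1 := fun e => pf (by rw [AddSubgroup.index_eq_one.1 e]; trivial)
    omega
  have e1 : a • p = p + (a • p + p) := by rw [add_comm (a • p), ← add_assoc, two, zero_add]
  refine ⟨a, ha, a • p + p, fun e => hp (by rw [e1, e, add_zero]), ⟨p, e1⟩, fun q => ?_⟩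
  by_cases hq : q ∈ fx A
  · exact Or.inl (hq a ha)
  · have := ((AddSubgroup.add_mem_iff_of_index_two i2).2 (iff_of_false pf hq)) a ha
    rw [smul_add] at this
    refine Or.inr ?_
    calc a • q = (a • p + a • p) + a • q := by rw [two, zero_add]
      _ = a • p + (p + q) := by rw [add_assoc, this]
      _ = q + (a • p + p) := by abel

/-- An element of odd order that commutes with the 2-group `Y` and fixes its fixed points is
trivial. -/
theorem axb [Finite W] (two : ∀ w : W, w + w = 0) {Y : Subgroup (Au W)} (hY : IsPGroup 2 Y)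
    {g : Au W} {k : ℕ} (hk : g ^ 3 ^ k = 1) (hc : ∀ y ∈ Y, y * g = g * y)
    (hf : ∀ p ∈ fx Y, g • p = p) : g = 1 := by
  have : Fact (Nat.Prime 2) := ⟨Nat.prime_two⟩
  by_contra g1
  obtain ⟨p, hp⟩ := exists_ne g1
  let N : AddSubgroup W :=
    { carrier := {x | ∃ q, x = g • q - q}
      add_mem' := by
        rintro _ _ ⟨q, rfl⟩ ⟨r, rfl⟩
        exact ⟨q + r, by rw [smul_add]; abel⟩
      zero_mem' := ⟨0, by simp⟩
      neg_mem' := by
        rintro _ ⟨q, rfl⟩
        exact ⟨-q, by rw [smul_neg]; abel⟩ }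
  let S : SubMulAction Y W :=
    { carrier := N
      smul_mem' := by
        rintro y _ ⟨q, rfl⟩
        refine ⟨(y : Au W) • q, ?_⟩
        show (y : Au W) • (g • q - q) = _
        rw [smul_sub, ← mul_smul, hc y y.2, mul_smul] }
  have d : 2 ∣ Nat.card S := by
    have o : addOrderOf (⟨g • p - p, p, rfl⟩ : N) = 2 :=
      addOrderOf_eq_prime (Subtype.ext (by simpa [two_nsmul] using two _))
        fun e => hp (sub_eq_zero.1 (congrArg Subtype.val e))
    exact o ▸ addOrderOf_dvd_natCard _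
  obtain ⟨⟨x, q, hx⟩, xf, x0⟩ := hY.exists_fixed_point_of_prime_dvd_card_of_fixed_point S d
    (a := ⟨0, N.zero_mem⟩) fun y => Subtype.ext (smul_zero y)
  have gx : g • x = x := hf x fun y hy => congrArg Subtype.val (xf ⟨y, hy⟩)
  have it : ∀ n : ℕ, g ^ n • q = q + n • x := by
    intro n
    induction n with
    | zero => simp
    | succ n ih => rw [pow_succ', mul_smul, ih, smul_add, smul_comm, gx, succ_nsmul, hx]; abel
  obtain ⟨m, hm⟩ : Odd (3 ^ k) := Odd.pow (by decide)
  have := it (3 ^ k)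
  rw [hk, one_smul, hm, add_nsmul, mul_comm, mul_nsmul, two_nsmul, two, zero_add, one_nsmul,
    left_eq_add] at this
  exact x0 (Subtype.ext this.symm)

theorem main [Finite W] (F : Subgroup (Au W)) (n : ℕ) : ∀ A : Subgroup (Au W), Nat.card A = n →
    Md F A → A ≠ ⊥ → (fx A).index ≤ Nat.card A → ∃ a ∈ A, ∃ c : W, Tm a c := by
  have : Fact (Nat.Prime 2) := ⟨Nat.prime_two⟩
  have : Fact (Nat.Prime 3) := ⟨Nat.prime_three⟩
  induction n using Nat.strong_induction_on with | _ n ih => ?_
  intro A hn m hA hi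
  by_cases h2 : (fx A).index ≤ 2
  · exact base m.two hA h2
  have A2 : IsPGroup 2 A := fun a => ⟨1, Subtype.ext (by simpa [pow_two] using m.el a a.2)⟩
  have : IsMulCommutative A := ⟨⟨fun a b => Subtype.ext (comm m.el a.2 b.2)⟩⟩
  by_contra hno
  have key : F ≤ Ce A := by
    refine H1.le_of_cocyclic_centralizer_le m.nF
      (IsPGroup.coprime_card_of_ne 2 3 (by norm_num) A F A2 m.F3) _ fun Y YA cy f hf => ?_
    by_cases e : Y = A
    · exact e ▸ hf.2
    have c1 : Nat.card Y < Nat.card A :=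
      lt_of_le_of_ne (card_le_of_le YA) fun c => e (eq_of_le_of_card_ge YA c.ge)
    have c2 : Nat.card A ≤ 2 * Nat.card Y := by
      have i1 := (Y.subgroupOf A).card_mul_index
      rw [Nat.card_congr (subgroupOfEquivOfLe YA).toEquiv] at i1
      have i2 : (Y.subgroupOf A).index ≤ 2 := by
        rw [index, ← cy.exponent_eq_card]
        refine Nat.le_of_dvd (by norm_num) (Monoid.exponent_dvd_of_forall_pow_eq_one fun g => ?_)
        obtain ⟨a, rfl⟩ := QuotientGroup.mk_surjective g
        rw [← QuotientGroup.mk_pow, show a ^ 2 = 1 from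
          Subtype.ext (by simpa [pow_two] using m.el a a.2), QuotientGroup.mk_one]
      rw [← i1, mul_comm 2]
      exact Nat.mul_le_mul_left _ i2
    have Y0 : Y ≠ ⊥ := fun e => by rw [e, card_bot] at c2; omega
    have c3 : Nat.card Y < (fx Y).index := by
      by_contra c
      obtain ⟨a, ha, t⟩ := ih _ (hn ▸ c1) Y rfl ⟨m.two, m.F3, fun a ha => m.el a (YA ha),
        YA.trans m.nF, fun a ha => m.fa a (YA ha)⟩ Y0 (not_lt.1 c)
      exact hno ⟨a, YA ha, t⟩
    have le : fx A ≤ fx Y := fun p hp a ha => hp a (YA ha)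
    have ge : fx Y ≤ fx A := by
      have r := AddSubgroup.relIndex_mul_index le
      have h0 := (fx A).index_ne_zero_of_finite
      refine AddSubgroup.relIndex_eq_one.1 ?_
      rcases hr : (fx A).relIndex (fx Y) with _ | _ | j
      · rw [hr] at r; omega
      · rfl
      · rw [hr] at r; nlinarith
    intro b hb
    have fc : ∀ y ∈ Y, y * f = f * y := hf.2
    have gF : f * (b * f⁻¹ * b⁻¹) ∈ F :=
      F.mul_mem hf.1 (conj_mem_of_mem_normalizer (m.nF hb) (F.inv_mem hf.1))
    obtain ⟨k, hk⟩ := isPGroup_iff_forall.1 m.F3 _ gF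
    have g1 := axb m.two (A2.to_le YA) hk (fun y hy => by
      have c1 : Commute y f := fc y hy
      have c2 : Commute y b := comm m.el (YA hy) hb
      exact (c1.mul_right ((c2.mul_right c1.inv_right).mul_right c2.inv_right)).eq) fun p hp => by
      have p1 : f⁻¹ • p ∈ fx Y := fun y hy => by
        rw [← mul_smul, (show Commute y f from fc y hy).inv_right.eq, mul_smul, hp y hy]
      rw [mul_smul, mul_smul, mul_smul, ge hp _ (A.inv_mem hb), ge p1 b hb, smul_inv_smul]
    calc b * f = f * (b * f⁻¹ * b⁻¹) * b * f := by rw [g1, one_mul]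
      _ = f * b := by group
  obtain ⟨⟨a, ha⟩, a1⟩ := ne_bot_iff_exists_ne_one.1 hA
  exact a1 (Subtype.ext (m.fa a ha fun f hf => key hf a ha))

theorem jobTR0 : TR0.{u} := fun _ _ _ F A H m hA hH hi =>
  main F _ A rfl m hA ((Nat.le_of_dvd (Nat.pos_of_ne_zero H.index_ne_zero_of_finite)
    (AddSubgroup.index_dvd_of_le (K := fx A) fun p hp a ha => hH a ha p hp)).trans hi)

end H64.CenTR0
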