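import Cfsg.Agent.H56.CySpec
import Cfsg.Agent.H98.Sylow

/-! # S3916: job FC. -/

set_option autoImplicit false

namespace H64.CyFC

open Subgroup H56.CY

universe u

variable {H : Type u} [Group H] [Finite H]

/-- The class of `x` under `T`. -/
def orb (T : Subgroup H) (x : H) : Set H := {y | ∃ t ∈ T, t * x * t⁻¹ = y}

omit [Finite H] in
theorem card_orb (T : Subgroup H) (x : H) :
    Nat.card ↥(centralizer ({x} : Set H) ⊓ T) * (orb T x).ncard = Nat.card T := by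
  let act : MulAction T H := MulAction.compHom H ((MulAut.conj : H →* MulAut H).comp T.subtype)
  have sm : ∀ (t : T) (y : H), act.smul t y = (t : H) * y * (t : H)⁻¹ := fun _ _ => rfl
  have e1 : @MulAction.orbit T H act.toSMul x = orb T x := Set.ext fun y =>
    ⟨fun ⟨t, ht⟩ => ⟨t, t.2, ht⟩, fun ⟨t, h, ht⟩ => ⟨⟨t, h⟩, ht⟩⟩
  have e2 : @MulAction.stabilizer T H _ act x = (centralizer ({x} : Set H) ⊓ T).subgroupOf T := by
    ext t
    rw [mem_subgroupOf, mem_inf, mem_centralizer_singleton_iff, and_iff_left t.2,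
      ← mul_inv_eq_iff_eq_mul]
    rfl
  rw [← e1, ← @MulAction.index_stabilizer T H _ act x, e2,
    ← Nat.card_congr (subgroupOfEquivOfLe (inf_le_right : _ ⊓ T ≤ T)).toEquiv, card_mul_index]

theorem job : JobFC.{u} := by
  classical
  intro fr H _ _ S T c hS hc a ha b hb aS hab
  have : Fact (Nat.Prime 2) := ⟨Nat.prime_two⟩
  have := Fintype.ofFinite H
  have nS : S.Normal := normal_of_index_eq_two hS
  have cjS : ∀ g x : H, x ∉ S → g * x * g⁻¹ ∉ S := fun g x h k =>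
    h (by simpa [mul_assoc] using nS.conj_mem _ k g⁻¹)
  have T2 : ∀ x ∈ (T : Subgroup H), ∃ n : ℕ, x ^ 2 ^ n = 1 := H98.isPGroup_iff_forall.1 T.isPGroup'
  by_contra hno
  set Y : Finset H := Finset.univ.filter fun g => g ∉ S ∧ ∃ n : ℕ, g ^ 2 ^ n = 1 with hY
  set A : Finset H := Finset.univ.filter fun g => g ∈ (T : Subgroup H) ∧ g ∉ S with hA
  have mY : ∀ g, g ∈ Y ↔ g ∉ S ∧ ∃ n : ℕ, g ^ 2 ^ n = 1 := fun g => by simp [hY]
  have mA : ∀ g, g ∈ A ↔ g ∈ (T : Subgroup H) ∧ g ∉ S := fun g => by simp [hA]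
  set I := Y.image ConjClasses.mk with hI
  -- orders
  obtain ⟨k, hk⟩ := IsPGroup.iff_card.1 (T.isPGroup'.to_le (inf_le_right : S ⊓ T ≤ T))
  have cT : Nat.card (T : Subgroup H) = 2 ^ k * 2 := by
    have i1 : S.relIndex T = 2 := by
      have d : S.relIndex T ∣ 2 := (relIndex_dvd_index_of_normal S T).trans hS.dvd
      exact ((Nat.dvd_prime Nat.prime_two).1 d).resolve_left fun e => aS (relIndex_eq_one.1 e ha)
    have i2 := ((S ⊓ T).subgroupOf T).card_mul_index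
    rw [Nat.card_congr (subgroupOfEquivOfLe (inf_le_right : S ⊓ T ≤ T)).toEquiv, hk] at i2
    rw [← inf_relIndex_right, relIndex] at i1
    rw [← i2, i1]
  have cA : A.card = 2 ^ k := by
    have e := Finset.card_filter_add_card_filter_not (s := Finset.univ.filter (· ∈ (T : Subgroup H)))
      (· ∈ S)
    rw [Finset.filter_filter, Finset.filter_filter, ← hA] at e
    have e1 : (Finset.univ.filter (· ∈ (T : Subgroup H))).card = Nat.card (T : Subgroup H) :=
      (Nat.subtype_card _ (by simp)).symm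
    have e2 : (Finset.univ.filter fun g => g ∈ (T : Subgroup H) ∧ g ∈ S).card =
        Nat.card ↥(S ⊓ T) := (Nat.subtype_card _ (by simp [and_comm])).symm
    omega
  obtain ⟨w, hw⟩ : 2 ^ k ∣ Y.card := by
    have := fr H S k hS (hk ▸ card_dvd_of_le inf_le_left)
    rwa [Nat.subtype_card Y mY] at this
  have aY : a ∈ Y := (mY a).2 ⟨aS, T2 a ha⟩
  have c0 : c ≠ 0 := hc a aS (T2 a ha) ▸ Nat.card_pos.ne'
  obtain ⟨j, s, os, rfl⟩ := Nat.exists_eq_two_pow_mul_odd c0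
  have cY : Y.card * (2 ^ j * s) = I.card * Nat.card H := by
    rw [Finset.card_eq_sum_card_image ConjClasses.mk Y, Finset.sum_mul, ← hI,
      Finset.sum_const_nat fun κ hκ => ?_]
    obtain ⟨y, hy, rfl⟩ := Finset.mem_image.1 hκ
    have e := card_orb ⊤ y
    rw [inf_top_eq, hc y ((mY y).1 hy).1 ((mY y).1 hy).2, card_top] at e
    rw [← e, mul_comm, ← Set.ncard_coe_finset]
    congr 2
    ext x
    simp only [Finset.coe_filter, Set.mem_ofPred_eq, ConjClasses.mk_eq_mk_iff_isConj]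
    refine ⟨fun h => ?_, ?_⟩
    · obtain ⟨g, hg⟩ := isConj_iff.1 h.2.symm
      exact ⟨g, mem_top g, hg⟩
    · rintro ⟨g, -, rfl⟩
      obtain ⟨h1, n, hn⟩ := (mY y).1 hy
      exact ⟨(mY _).2 ⟨cjS g y h1, n, by rw [conj_pow, hn, mul_one, mul_inv_cancel]⟩,
        (isConj_iff.2 ⟨g, rfl⟩).symm⟩
  have m0 : 0 < I.card := Finset.card_pos.2 ⟨_, Finset.mem_image_of_mem _ aY⟩
  have le1 : 2 ^ j ≤ 2 * I.card := by
    have r := (T : Subgroup H).card_mul_index
    have cop : (2 ^ j).Coprime (T : Subgroup H).index :=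
      ((Nat.Prime.coprime_iff_not_dvd Nat.prime_two).2 T.not_dvd_index).pow_left j
    refine Nat.le_of_dvd (by omega) (cop.dvd_of_dvd_mul_right ⟨w * s, ?_⟩)
    refine Nat.eq_of_mul_eq_mul_left (Nat.two_pow_pos k) ?_
    rw [hw, ← r, cT] at cY
    linarith
  have big : ∀ x ∈ A, 2 ^ k * 2 ≤ 2 ^ j * (orb T x).ncard := fun x hx => by
    obtain ⟨h1, h2⟩ := (mA x).1 hx
    rw [← cT, ← card_orb T x]
    refine Nat.mul_le_mul_right _ (Nat.le_of_dvd (Nat.two_pow_pos j) ?_)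
    obtain ⟨i, hi⟩ := IsPGroup.iff_card.1
      (T.isPGroup'.to_le (inf_le_right : centralizer ({x} : Set H) ⊓ T ≤ T))
    have d := card_dvd_of_le (inf_le_left : centralizer ({x} : Set H) ⊓ T ≤ _)
    rw [hc x h2 (T2 x h1), hi] at d
    rw [hi]
    exact ((Nat.coprime_two_left.2 os).pow_left i).dvd_of_dvd_mul_right d
  have sub : ∀ x ∈ A, orb T x ⊆ ↑(A.filter fun y => ConjClasses.mk y = ConjClasses.mk x) := by
    rintro x hx _ ⟨t, ht, rfl⟩
    obtain ⟨h1, h2⟩ := (mA x).1 hx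
    exact Finset.mem_coe.2 (Finset.mem_filter.2 ⟨(mA _).2
      ⟨mul_mem (mul_mem ht h1) (inv_mem ht), cjS t x h2⟩,
      ConjClasses.mk_eq_mk_iff_isConj.2 (isConj_iff.2 ⟨t, rfl⟩).symm⟩)
  have IA : I ⊆ A.image ConjClasses.mk := fun κ hκ => by
    obtain ⟨y, hy, rfl⟩ := Finset.mem_image.1 hκ
    obtain ⟨h1, n, hn⟩ := (mY y).1 hy
    obtain ⟨g, -, hg⟩ := (H98.isSyl_sylow T).exists_cj_le (H98.isPGroup_zpowers hn) le_top
    exact Finset.mem_image.2 ⟨g * y * g⁻¹, (mA _).2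
      ⟨hg (H98.conj_mem_cj (mem_zpowers y)), cjS g y h1⟩,
      ConjClasses.mk_eq_mk_iff_isConj.2 (isConj_iff.2 ⟨g, rfl⟩).symm⟩
  have aA : a ∈ A := (mA a).2 ⟨ha, aS⟩
  have lt : ∑ _κ ∈ A.image ConjClasses.mk, 2 ^ k * 2 <
      ∑ κ ∈ A.image ConjClasses.mk, 2 ^ j * (A.filter fun y => ConjClasses.mk y = κ).card := by
    refine Finset.sum_lt_sum (fun κ hκ => ?_) ⟨_, Finset.mem_image_of_mem _ aA, ?_⟩
    · obtain ⟨x, hx, rfl⟩ := Finset.mem_image.1 hκ
      rw [← Set.ncard_coe_finset]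
      exact (big x hx).trans (Nat.mul_le_mul_left _ (Set.ncard_le_ncard (sub x hx)))
    · rw [← Set.ncard_coe_finset]
      refine (big a aA).trans_lt ((Nat.mul_lt_mul_left (Nat.two_pow_pos j)).2
        (Set.ncard_lt_ncard ((Set.ssubset_iff_of_subset (sub a aA)).2 ⟨b, ?_, hno⟩)))
      obtain ⟨g, rfl⟩ := isConj_iff.1 hab
      exact Finset.mem_coe.2 (Finset.mem_filter.2 ⟨(mA _).2 ⟨hb, cjS g a aS⟩,
        ConjClasses.mk_eq_mk_iff_isConj.2 hab.symm⟩)
  rw [Finset.sum_const, smul_eq_mul, ← Finset.mul_sum, ← Finset.card_eq_sum_card_image, cA] at lt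
  have := Finset.card_le_card IA
  have := Nat.two_pow_pos k
  nlinarith

end H64.CyFC
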