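import Cfsg.Agent.H11.FBSpec
import Cfsg.Agent.H3.NormalRankOne
import Cfsg.Agent.S1896
import Cfsg.Agent.S3375

/-! Tower FB, slot Q2: a 2-group with an involutory automorphism with two fixed points and a
nontrivial automorphism of odd order has order 4 or 8. -/

set_option autoImplicit false

namespace H64.FbQ2

open Subgroup

universe u

theorem uniq_of_card_two {Q : Type*} [Group Q] {F : Subgroup Q} (h : Nat.card F = 2) {x y : Q}
    (hx : x ∈ F) (hy : y ∈ F) (x1 : x ≠ 1) (y1 : y ≠ 1) : x = y := by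
  obtain ⟨z, -, hz⟩ := (Nat.card_eq_two_iff' (1 : F)).1 h
  have e1 := hz ⟨x, hx⟩ fun e => x1 (congrArg Subtype.val e)
  have e2 := hz ⟨y, hy⟩ fun e => y1 (congrArg Subtype.val e)
  exact congrArg Subtype.val (e1.trans e2.symm)

/-- The abstract form. -/
theorem core {Q : Type*} [Group Q] [Finite Q] (hQ : IsPGroup 2 Q) (γ κ : MulAut Q)
    (h2 : γ * γ = 1) (hF : Nat.card {x : Q // γ x = x} = 2) (ho : Odd (orderOf κ)) (k1 : κ ≠ 1) :
    Nat.card Q = 4 ∨ Nat.card Q = 8 := by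
  have : Fact (Nat.Prime 2) := ⟨Nat.prime_two⟩
  have hF' : Nat.card (γ.toMonoidHom.eqLocus (MonoidHom.id Q)) = 2 := hF
  have hu : ∀ x y : Q, γ x = x → γ y = y → x ≠ 1 → y ≠ 1 → x = y := fun x y hx hy =>
    uniq_of_card_two hF' hx hy
  have g1 : γ ≠ 1 := by
    rintro rfl
    refine k1 (MulEquiv.ext fun x => ?_)
    by_cases x1 : x = 1
    · rw [x1, map_one, map_one]
    · exact hu _ _ rfl rfl (fun e => x1 (κ.map_eq_one_iff.1 e)) x1
  obtain ⟨m, hm⟩ := IsPGroup.iff_card.1 hQ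
  have m0 : m ≠ 0 := by
    rintro rfl
    have : Subsingleton Q := (Nat.card_eq_one_iff_unique.1 hm).1
    exact g1 (MulEquiv.ext fun x => Subsingleton.elim _ _)
  obtain ⟨m, rfl⟩ := Nat.exists_eq_succ_of_ne_zero m0
  obtain ⟨M, hM⟩ := Sylow.exists_subgroup_card_pow_prime (G := Q) 2 (n := m)
    (hm ▸ pow_dvd_pow 2 m.le_succ)
  have hM2 : M.index = 2 := by
    have := M.card_mul_index
    rw [hM, hm, pow_succ] at this
    exact Nat.eq_of_mul_eq_mul_left (by positivity) this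
  obtain ⟨A, a1, a2, -, a4⟩ := (Cfsg.Agent.S3375.result γ
    (orderOf_eq_prime (by rw [sq, h2]) g1)).2 ⟨hF, M, hM2⟩
  have cA : IsCyclic A := by
    refine H3.isCyclic_of_comm_pgroup_of_unique (hQ.to_subgroup A) a2 fun H K hH hK => ?_
    have key : ∀ H K : Subgroup A, Nat.card H = 2 → Nat.card K = 2 → H ≤ K := fun H K hH hK => by
      intro x hx
      obtain ⟨y, y1, -⟩ := (Nat.card_eq_two_iff' (1 : K)).1 hK
      have fix : ∀ (L : Subgroup A), Nat.card L = 2 → ∀ z ∈ L, γ z = z := fun L hL z hz => by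
        have := pow_card_eq_one' (x := (⟨z, hz⟩ : L))
        rw [hL, sq, mul_eq_one_iff_eq_inv] at this
        rw [a4 _ z.2]
        exact (congrArg (fun t : L => ((t : A) : Q)) this).symm
      by_cases x1 : x = 1
      · rw [x1]; exact one_mem _
      · have : x = y := Subtype.ext (hu _ _ (fix H hH x hx) (fix K hK y y.2)
          (fun e => x1 (Subtype.ext e)) fun e => y1 (Subtype.ext (Subtype.ext e)))
        rw [this]; exact y.2
    exact le_antisymm (key H K hH hK) (key K H hK hH)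
  have nA : A.Normal := normal_of_index_eq_two a1
  have hmeta : Cfsg.IsMetacyclic Q := ⟨A, nA, cA, isCyclic_of_prime_card (p := 2) a1⟩
  have hA : ¬ IsPGroup 2 (MulAut Q) := fun h => by
    obtain ⟨j, hj⟩ := IsPGroup.iff_orderOf.1 h κ
    rcases j with _ | j
    · exact k1 (orderOf_eq_one_iff.1 hj)
    · rw [hj, pow_succ] at ho
      exact (Nat.not_even_iff_odd.2 ho) (even_two.mul_left _)
  rcases Cfsg.Agent.S1896.result hQ hmeta hA with ⟨⟨e⟩⟩ | ⟨n, ⟨e⟩⟩
  · right
    rw [Nat.card_congr e.toEquiv, Nat.card_eq_fintype_card, QuaternionGroup.card]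
  · left
    have c1 : Nat.card Q = 2 ^ n * 2 ^ n := by
      rw [Nat.card_congr e.toEquiv, Nat.card_prod, Nat.card_congr Multiplicative.toAdd,
        Nat.card_zmod]
    obtain ⟨x, hx⟩ := IsCyclic.exists_ofOrder_eq_natCard (α := A)
    have hd : Nat.card A ∣ 2 ^ n := by
      rw [← hx, ← orderOf_coe, ← e.orderOf_eq, orderOf_dvd_iff_pow_eq_one]
      ext <;> simp [nsmul_eq_mul]
    have c2 := A.card_mul_index
    rw [a1, c1] at c2
    have h3 : 2 ^ n * 2 ^ n ∣ 2 ^ n * 2 := c2 ▸ Nat.mul_dvd_mul_right hd 2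
    have h4 : 2 ^ n ∣ 2 ^ 1 := Nat.dvd_of_mul_dvd_mul_left (by positivity) h3
    have h5 : n ≤ 1 := (Nat.pow_dvd_pow_iff_le_right one_lt_two).1 h4
    interval_cases n
    · omega
    · rw [c1]; norm_num

/-- Conjugation by an element normalising `Q`. -/
noncomputable def cAut {G : Type*} [Group G] [Finite G] {Q : Subgroup G} {g : G}
    (h : ∀ x ∈ Q, g * x * g⁻¹ ∈ Q) : MulAut Q :=
  Q.normalizerMonoidHom ⟨g, mem_normalizer_fintype h⟩

theorem jobQ2 : H11.FB.JobQ2.{u} := by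
  intro G _ _ Q w k hQ hw nw hc ho nk ⟨x, hx, hk⟩
  refine core hQ (cAut nw) (cAut nk) ?_ ?_ ?_ fun e => hk ?_
  · rw [cAut, ← map_mul, ← map_one Q.normalizerMonoidHom]
    exact congrArg _ (Subtype.ext hw)
  · rw [← hc]
    refine Nat.card_congr ⟨fun y => ⟨y.1.1, y.1.2, ?_⟩, fun y => ⟨⟨y.1, y.2.1⟩, Subtype.ext ?_⟩,
      fun _ => rfl, fun _ => rfl⟩
    · have : w * y.1.1 * w⁻¹ = y.1.1 := congrArg Subtype.val y.2
      exact mem_centralizer_singleton_iff.2 (mul_inv_eq_iff_eq_mul.1 this).symm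
    · have := mem_centralizer_singleton_iff.1 y.2.2
      change w * y.1 * w⁻¹ = y.1
      rw [← this, mul_inv_cancel_right]
  · refine ho.of_dvd_nat ((orderOf_map_dvd _ _).trans ?_)
    rw [← orderOf_coe]
  · have h1 : cAut nk ⟨x, hx⟩ = ⟨x, hx⟩ := by rw [e]; rfl
    have : k * x * k⁻¹ = x := congrArg Subtype.val h1
    exact mul_inv_eq_iff_eq_mul.1 this

end H64.FbQ2
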