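import Cfsg.Agent.H83.HexGRD

/-! Moufang hexagons with torus, part 1: intervals of root groups, the torus as a product of the
multiplicative groups of the two fields. -/

set_option autoImplicit false

namespace H64.Hx

open Subgroup H61 H12.LC H83
open scoped MatrixGroups commutatorElement

section SL

variable {F G : Type*} [Field F] [Group G]

/-- The diagonal matrix. -/
def dU (u : Fˣ) : SL(2, F) := hxD (u : F) u.ne_zero

theorem dU_mem_dg (φ : SL(2, F) →* G) (u : Fˣ) : φ (dU u) ∈ dg φ := hxD_mem_dg φ _ _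

theorem dU_conj (u : Fˣ) (b : F) : dU u * upper b * (dU u)⁻¹ = upper (u * u * b) :=
  hxD_conj_upper _ _ b

theorem dU_mul (u v : Fˣ) : dU (u * v) = dU u * dU v := by
  apply sl_ext <;> simp [sl_mul_apply, dU, hxD, mul_comm]

theorem dU_neg_one : dU (-1 : Fˣ) = weyl F * weyl F := by
  apply sl_ext <;> simp [sl_mul_apply, dU, hxD]

theorem weyl_conj_upper (b : F) : weyl F * upper b * (weyl F)⁻¹ = lower (-b) := by
  rw [mul_inv_eq_iff_eq_mul]
  apply sl_ext <;> simp [sl_mul_apply]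

theorem lul (u : Fˣ) : lower (-(u⁻¹ : Fˣ) : F) * upper (u : F) * lower (-(u⁻¹ : Fˣ) : F) =
    dU (-u) * weyl F := by
  apply sl_ext <;> simp [sl_mul_apply, dU, hxD]

theorem lower_eq (u : Fˣ) :
    lower (u : F) = upper ((u⁻¹ : Fˣ) : F) * weyl F * dU u * upper ((u⁻¹ : Fˣ) : F) := by
  rw [Units.val_inv_eq_inv_val]
  exact hx_lower_eq u.ne_zero

theorem add_of_sq (h2 : (2 : F) ≠ 0) (f : F → F) (hf : ∀ s t, f (s + t) = f s + f t)
    (hd : ∀ (u : Fˣ) (t : F), f (u * u * t) = u * u * f t) (t : F) : f t = f 1 * t := by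
  have h0 : f 0 = 0 := by simpa using hf 0 0
  let A : AddSubgroup F :=
    { carrier := {t | f t = f 1 * t}
      zero_mem' := by simp [h0]
      add_mem' := by
        intro s t hs ht
        simp only [Set.mem_ofPred_eq] at *
        rw [hf, hs, ht, mul_add]
      neg_mem' := by
        intro t ht
        simp only [Set.mem_ofPred_eq] at *
        have := hf t (-t)
        rw [add_neg_cancel, h0] at this
        linear_combination -this - ht }
  refine addSub_eq_top_of_sq h2 A (fun d => ?_) t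
  change f (d * d) = f 1 * (d * d)
  by_cases hd0 : d = 0
  · simp [hd0, h0]
  · have := hd (Units.mk0 d hd0) 1
    simp only [Units.val_mk0, mul_one] at this
    rw [this, mul_comm]

theorem scalar_aux (h2 : (2 : F) ≠ 0) (u : F → G) (hu : ∀ s t, u (s + t) = u s * u t)
    (inj : Function.Injective u) {h : G} (hh : ∀ t, ∃ s, h * u t * h⁻¹ = u s)
    (hd : ∀ v : Fˣ, ∃ d : G, h * d = d * h ∧ ∀ t, d * u t * d⁻¹ = u (v * v * t)) :
    ∃ c : Fˣ, ∀ t, h * u t * h⁻¹ = u (c * t) := by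
  choose f hf using hh
  have h0 : u 0 = 1 := by simpa using hu 0 0
  have e := add_of_sq h2 f (fun s t => inj (by rw [hu, ← hf, ← hf, ← hf, hu]; group)) (fun v t => by
    obtain ⟨d, hd1, hd2⟩ := hd v
    apply inj
    rw [← hf, ← hd2, ← hd2, ← hf]
    calc h * (d * u t * d⁻¹) * h⁻¹ = (h * d) * u t * (h * d)⁻¹ := by group
      _ = _ := by rw [hd1]; group)
  have hc : f 1 ≠ 0 := fun hc => by
    have := hf 1
    rw [hc, h0, mul_inv_eq_one, mul_eq_left, ← h0] at this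
    exact one_ne_zero (inj this)
  exact ⟨Units.mk0 _ hc, fun t => by rw [hf, e]; rfl⟩

theorem lower_inj {a b : F} (h : lower a = lower b) : a = b := by
  have := congrArg (fun g : SL(2, F) => g 1 0) h
  simpa using this

/-- An element of the torus acts on the upper unitriangular group by a scalar. -/
theorem scalar (h2 : (2 : F) ≠ 0) {φ : SL(2, F) →* G} (inj : Function.Injective φ) {h : G}
    (hu : ∀ y ∈ up φ, h * y * h⁻¹ ∈ up φ) (hl : ∀ y ∈ lo φ, h * y * h⁻¹ ∈ lo φ)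
    (hd : ∀ y ∈ dg φ, h * y = y * h)
    (hn : ∀ y ∈ up φ, (φ (weyl F) * h * (φ (weyl F))⁻¹ * h⁻¹) * y *
      (φ (weyl F) * h * (φ (weyl F))⁻¹ * h⁻¹)⁻¹ ∈ up φ) :
    ∃ c : Fˣ, (∀ t, h * φ (upper t) * h⁻¹ = φ (upper (c * t))) ∧
      (φ (weyl F))⁻¹ * h * φ (weyl F) = (φ (dU c))⁻¹ * h := by
  obtain ⟨c, hc⟩ := scalar_aux h2 (fun t => φ (upper t)) (fun s t => by rw [hx_upper_add, map_mul])
    (fun s t e => hx_upper_inj (inj e)) (fun t => hx_mem_up.1 (hu _ (hx_mem_up.2 ⟨t, rfl⟩)))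
    (fun v => ⟨φ (dU v), hd _ (dU_mem_dg φ v), fun t => by
      rw [← dU_conj, map_mul, map_mul, map_inv]⟩)
  obtain ⟨c', hc'⟩ := hx_mem_lo.1 (hl _ (hx_mem_lo.2 ⟨-1, rfl⟩))
  have e1 : lower (-1 : F) * upper 1 * lower (-1) = (weyl F)⁻¹ := by
    rw [eq_inv_iff_mul_eq_one]
    apply sl_ext <;> simp [sl_mul_apply]
  have e2 : h * (φ (weyl F))⁻¹ * h⁻¹ = φ (lower c' * upper ((c : F) * 1) * lower c') := by
    rw [map_mul, map_mul, ← hc', ← hc, ← map_inv, ← e1, map_mul, map_mul]; group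
  obtain ⟨s, hs⟩ := hx_mem_up.1 (hn _ (hx_mem_up.2 ⟨1, rfl⟩))
  rw [mul_assoc (φ _) h, mul_assoc (φ _), e2, ← map_mul, ← map_inv, ← map_mul, ← map_mul] at hs
  have e3 := inj hs
  rw [mul_inv_eq_iff_eq_mul] at e3
  have e4 := congrArg (fun g : SL(2, F) => g 1 1) e3
  simp [sl_mul_apply] at e4
  have e5 : c' = -(c⁻¹ : Fˣ) := by
    rw [Units.val_inv_eq_inv_val]
    field_simp
    linear_combination e4
  refine ⟨c, hc, ?_⟩
  rw [e5, mul_one, lul, show -c = c * -1 by simp, dU_mul, dU_neg_one] at e2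
  have e6 : weyl F * weyl F * weyl F = (weyl F)⁻¹ := by
    rw [eq_inv_iff_mul_eq_one]
    apply sl_ext <;> simp [sl_mul_apply]
  rw [mul_assoc (dU c), e6, map_mul, map_inv] at e2
  calc (φ (weyl F))⁻¹ * h * φ (weyl F) = (φ (weyl F))⁻¹ * (h * (φ (weyl F))⁻¹ * h⁻¹)⁻¹ * h := by
        group
    _ = _ := by rw [e2]; group

end SL

variable {G : Type*} [Group G] {K L : Type*} [Field K] [Fintype K] [Field L] [Fintype L]
  (x : Hex G K L)

/-- The subgroup generated by the root groups of an open interval. -/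
def I (i : ZMod 12) (n : ℕ) : Subgroup G := ⨆ k ∈ Set.Ioo 0 n, x.X (i + (k : ℕ))

theorem le_I (i : ZMod 12) {n k : ℕ} (h1 : 0 < k) (h2 : k < n) : x.X (i + k) ≤ I x i n :=
  le_iSup₂_of_le (f := fun (k : ℕ) (_ : k ∈ Set.Ioo 0 n) => x.X (i + (k : ℕ))) k ⟨h1, h2⟩ le_rfl

theorem X_le_I {i r : ZMod 12} {n : ℕ} (h : 0 < (r - i).val ∧ (r - i).val < n) :
    x.X r ≤ I x i n := by
  have := le_I x i h.1 h.2
  rwa [ZMod.natCast_zmod_val, add_sub_cancel] at this

theorem I_le {i : ZMod 12} {n : ℕ} {H : Subgroup G} (h : ∀ k, 0 < k → k < n → x.X (i + k) ≤ H) :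
    I x i n ≤ H := iSup₂_le fun k hk => h k hk.1 hk.2

theorem I_mono' (i : ZMod 12) {j m n : ℕ} (h : j + m ≤ n) : I x (i + j) m ≤ I x i n :=
  I_le x fun k h1 h2 => by
    have := le_I x i (k := j + k) (n := n) (by omega) (by omega)
    rwa [Nat.cast_add, ← add_assoc] at this

theorem I_mono {i j : ZMod 12} {m n : ℕ} (h : (j - i).val + m ≤ n) : I x j m ≤ I x i n := by
  have := I_mono' x i h
  rwa [ZMod.natCast_zmod_val, add_sub_cancel] at this

theorem I_conj {i : ZMod 12} {n : ℕ} {H : Subgroup G} {m : G}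
    (h : ∀ k, 0 < k → k < n → ∀ y ∈ x.X (i + k), m * y * m⁻¹ ∈ H) {g : G} (hg : g ∈ I x i n) :
    m * g * m⁻¹ ∈ H :=
  I_le x (H := H.comap (MulAut.conj m).toMonoidHom) (fun k h1 h2 y hy => h k h1 h2 y hy) hg

theorem comm' {r s : ZMod 12} {n : ℕ} (h : s = r + n ∧ 1 ≤ n ∧ n ≤ 5) {u v : G} (hu : u ∈ x.X r)
    (hv : v ∈ x.X s) : ⁅u, v⁆ ∈ I x r n := x.comm r n h.2.1 h.2.2 u hu v (h.1 ▸ hv)

theorem I_one (i : ZMod 12) : I x i 1 = ⊥ := eq_bot_iff.2 (I_le x fun k h1 h2 => by omega)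

theorem I_two (i : ZMod 12) : I x i 2 = x.X (i + 1) :=
  le_antisymm (I_le x fun k h1 h2 => by obtain rfl : k = 1 := by omega
                                        simp) (by simpa using le_I x i (k := 1) (n := 2) (by omega) (by omega))

theorem adj {r s : ZMod 12} (h : s = r + 1) {u v : G} (hu : u ∈ x.X r) (hv : v ∈ x.X s) :
    u * v = v * u := by
  have := comm' x (n := 1) ⟨by simpa using h, le_rfl, by omega⟩ hu hv
  rwa [I_one, mem_bot, commutatorElement_eq_one_iff_mul_comm] at this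

theorem conj_left {i : ZMod 12} {n : ℕ} (hn : n ≤ 6) {u g : G} (hu : u ∈ x.X i)
    (hg : g ∈ I x i n) : u * g * u⁻¹ ∈ I x i n := by
  refine I_conj x (fun k h1 h2 y hy => ?_) hg
  rw [show u * y * u⁻¹ = ⁅u, y⁆ * y by rw [commutatorElement_def]; group]
  exact mul_mem (I_mono' x i (j := 0) (m := k) (by omega) (by
    simpa using comm' x (n := k) ⟨rfl, h1, by omega⟩ hu hy)) (le_I x i h1 h2 hy)

theorem conj_right {i j : ZMod 12} {n : ℕ} (hn : j = i + n ∧ n ≤ 6) {u g : G} (hu : u ∈ x.X j)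
    (hg : g ∈ I x i n) : u * g * u⁻¹ ∈ I x i n := by
  refine I_conj x (fun k h1 h2 y hy => ?_) hg
  rw [show u * y * u⁻¹ = ⁅y, u⁆⁻¹ * y by rw [commutatorElement_def]; group]
  refine mul_mem (inv_mem (I_mono' x i (j := k) (m := n - k) (by omega) ?_)) (le_I x i h1 h2 hy)
  refine comm' x ⟨?_, by omega, by omega⟩ hy hu
  rw [hn.1, add_assoc, ← Nat.cast_add]
  congr 2; omega

theorem mem_I_succ {i j : ZMod 12} {n : ℕ} (hn : j = i + n ∧ n ≤ 6) {g : G}
    (hg : g ∈ I x i (n + 1)) : ∃ u ∈ I x i n, ∃ v ∈ x.X j, g = u * v := by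
  have h1 : I x i (n + 1) ≤ I x i n ⊔ x.X j := I_le x fun k h1 h2 => by
    rcases (show k < n ∨ k = n by omega) with h | rfl
    · exact (le_I x i h1 h).trans le_sup_left
    · rw [hn.1]; exact le_sup_right
  have h2 : x.X j ≤ normalizer (I x i n : Set G) := fun u hu => mem_normalizer_iff.2 fun g =>
    ⟨conj_right x hn hu, fun h => by simpa [mul_assoc] using conj_right x hn (inv_mem hu) h⟩
  have h3 := h1 hg
  rw [← SetLike.mem_coe, coe_mul_of_right_le_normalizer_left _ _ h2] at h3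
  obtain ⟨u, hu, v, hv, rfl⟩ := h3
  exact ⟨u, hu, v, hv, rfl⟩

theorem mem_I_succ' {i j : ZMod 12} {n : ℕ} (hn : j = i + 1 ∧ n ≤ 6) {g : G}
    (hg : g ∈ I x i (n + 1)) : ∃ v ∈ x.X j, ∃ u ∈ I x j n, g = v * u := by
  have h1 : I x i (n + 1) ≤ x.X j ⊔ I x j n := I_le x fun k h1 h2 => by
    rcases (show k = 1 ∨ 1 < k by omega) with rfl | h
    · rw [hn.1, Nat.cast_one]; exact le_sup_left
    · have := le_I x j (k := k - 1) (n := n) (by omega) (by omega)
      rw [hn.1, add_assoc, ← Nat.cast_one, ← Nat.cast_add, show 1 + (k - 1) = k by omega] at this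
      rw [hn.1, ← Nat.cast_one]
      exact this.trans le_sup_right
  have h2 : x.X j ≤ normalizer (I x j n : Set G) := fun u hu => mem_normalizer_iff.2 fun g =>
    ⟨conj_left x hn.2 hu, fun h => by simpa [mul_assoc] using conj_left x hn.2 (inv_mem hu) h⟩
  have h3 := h1 hg
  rw [← SetLike.mem_coe, coe_mul_of_left_le_normalizer_right _ _ h2] at h3
  obtain ⟨u, hu, v, hv, rfl⟩ := h3
  exact ⟨u, hu, v, hv, rfl⟩

/-- The Weyl element of the long simple root. -/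
def n0 : G := x.φ (weyl K)
/-- The Weyl element of the short simple root. -/
def n5 : G := x.ψ (weyl L)

theorem n0_X {r s : ZMod 12} (h : s = 6 - r) {y : G} (hy : y ∈ x.X r) :
    n0 x * y * (n0 x)⁻¹ ∈ x.X s := h ▸ hex_φ_conj x r hy

theorem n5_X {r s : ZMod 12} (h : s = 4 - r) {y : G} (hy : y ∈ x.X r) :
    n5 x * y * (n5 x)⁻¹ ∈ x.X s := h ▸ hex_ψ_conj x r hy

theorem n0_X' {r s : ZMod 12} (h : s = 6 - r) {y : G} (hy : y ∈ x.X s) :
    (n0 x)⁻¹ * y * n0 x ∈ x.X r := by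
  rw [h, ← x.φ_conj r] at hy
  obtain ⟨z, hz, rfl⟩ := hy
  simpa [n0, mul_assoc] using hz

theorem n5_X' {r s : ZMod 12} (h : s = 4 - r) {y : G} (hy : y ∈ x.X s) :
    (n5 x)⁻¹ * y * n5 x ∈ x.X r := by
  rw [h, ← x.ψ_conj r] at hy
  obtain ⟨z, hz, rfl⟩ := hy
  simpa [n5, mul_assoc] using hz

theorem shift (k : ℕ) (r : ZMod 12) (y : G) (hy : y ∈ x.X r) :
    (n0 x * n5 x) ^ k * y * ((n0 x * n5 x) ^ k)⁻¹ ∈ x.X (r + 2 * k) := by
  induction k with
  | zero => simpa using hy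
  | succ k ih =>
    have := n0_X x (s := r + 2 * ((k + 1 : ℕ) : ZMod 12)) (by push_cast; ring) (n5_X x rfl ih)
    convert this using 1
    rw [pow_succ']
    simp only [mul_inv_rev, mul_assoc]

theorem sep {m : G} {f : ZMod 12 → ZMod 12} (hm : ∀ r, ∀ y ∈ x.X r, m * y * m⁻¹ ∈ x.X (f r))
    {i r : ZMod 12} {n : ℕ} (h1 : ∀ k < n, 0 < k → (f (i + k)).val < 6) (h2 : ¬ (f r).val < 6)
    {u : G} (hu : u ∈ x.X r) (hu' : u ∈ I x i n) : u = 1 := by
  have := (hexGRD x).eq_one_of_mem_U_V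
    (I_conj x (fun k k1 k2 y hy => (hexGRD x).X_le_U (h1 k k2 k1) (hm _ y hy)) hu')
    ((hexGRD x).X_le_V h2 (hm _ u hu))
  rwa [mul_inv_eq_one, mul_eq_left] at this

theorem X_inf_I {i r : ZMod 12} (hr : r = i ∨ r = i + 6) {u : G} (hu : u ∈ x.X r)
    (hu' : u ∈ I x i 6) : u = 1 := by
  have : ∃ j < 6, ((∀ k < 6, 0 < k → (i + (k : ℕ) + 2 * (j : ℕ)).val < 6) ∧
      ¬ (r + 2 * (j : ℕ)).val < 6) ∨ ((∀ k < 6, 0 < k → (6 - (i + (k : ℕ)) + 2 * (j : ℕ)).val < 6) ∧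
      ¬ (6 - r + 2 * (j : ℕ)).val < 6) := by
    clear hu hu'
    revert i r; decide
  obtain ⟨j, -, h | h⟩ := this
  · exact sep x (shift x j) h.1 h.2 hu hu'
  · refine sep x (m := (n0 x * n5 x) ^ j * n0 x) (f := fun r => 6 - r + 2 * (j : ℕ))
      (fun r y hy => ?_) h.1 h.2 hu hu'
    convert shift x j _ _ (n0_X x rfl hy) using 1
    group

theorem comm_shift {r s : ZMod 12} (h : ∀ u ∈ x.X r, ∀ v ∈ x.X s, u * v = v * u) (k : ℕ)
    {r' s' : ZMod 12} (e : r = r' + 2 * k ∧ s = s' + 2 * k) {u v : G} (hu : u ∈ x.X r')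
    (hv : v ∈ x.X s') : u * v = v * u := by
  have := h _ (e.1 ▸ shift x k _ _ hu) _ (e.2 ▸ shift x k _ _ hv)
  rwa [conj_mul, conj_mul, mul_left_inj, mul_right_inj] at this

theorem long63 (u : G) (hu : u ∈ x.X 6) (v : G) (hv : v ∈ x.X 3) : u * v = v * u := by
  have := x.long3 _ (n0_X x (by decide) hu) _ (n0_X x (by decide) hv)
  rwa [conj_mul, conj_mul, mul_left_inj, mul_right_inj] at this

/-- The coordinate of the long simple root group. -/
def a (t : K) : G := x.φ (upper t)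
/-- The coordinate of the short simple root group. -/
def b (y : L) : G := x.ψ (upper y)

theorem a_add (s t : K) : a x (s + t) = a x s * a x t := by rw [a, hx_upper_add, map_mul]; rfl
theorem b_add (s t : L) : b x (s + t) = b x s * b x t := by rw [b, hx_upper_add, map_mul]; rfl
theorem a_inj : Function.Injective (a x) := fun _ _ e => hx_upper_inj (x.φ_inj e)
theorem b_inj : Function.Injective (b x) := fun _ _ e => hx_upper_inj (x.ψ_inj e)
theorem mem_X0 {g : G} : g ∈ x.X 0 ↔ ∃ t, g = a x t := by rw [x.X0]; exact hx_mem_up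
theorem mem_X5 {g : G} : g ∈ x.X 5 ↔ ∃ t, g = b x t := by rw [x.X5]; exact hx_mem_up
theorem a_mem (t : K) : a x t ∈ x.X 0 := (mem_X0 x).2 ⟨t, rfl⟩
theorem b_mem (t : L) : b x t ∈ x.X 5 := (mem_X5 x).2 ⟨t, rfl⟩

include x in
theorem two_K : (2 : K) ≠ 0 := two_ne_zero' x.odd₁
include x in
theorem two_L : (2 : L) ≠ 0 := two_ne_zero' x.odd₂

theorem ex0 {h : G} (hh : h ∈ x.T) : ∃ c : Kˣ, (∀ t, h * a x t * h⁻¹ = a x (c * t)) ∧
    (n0 x)⁻¹ * h * n0 x = (x.φ (dU c))⁻¹ * h :=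
  scalar (two_K x) x.φ_inj (x.X0 ▸ x.T_conj h hh 0) (x.X6 ▸ x.T_conj h hh 6)
    (fun y hy => x.T_comm h hh y (hex_dgφ_le x hy))
    (x.X0 ▸ x.T_conj _ (mul_mem (x.φ_T h hh) (inv_mem hh)) 0)

theorem ex5 {h : G} (hh : h ∈ x.T) : ∃ c : Lˣ, (∀ t, h * b x t * h⁻¹ = b x (c * t)) ∧
    (n5 x)⁻¹ * h * n5 x = (x.ψ (dU c))⁻¹ * h :=
  scalar (two_L x) x.ψ_inj (x.X5 ▸ x.T_conj h hh 5) (x.X11 ▸ x.T_conj h hh 11)
    (fun y hy => x.T_comm h hh y (hex_dgψ_le x hy))
    (x.X5 ▸ x.T_conj _ (mul_mem (x.ψ_T h hh) (inv_mem hh)) 5)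

/-- The element `h` of the torus acts by the scalars `t` and `y` on the simple root groups. -/
def Ch (h : G) (t : K) (y : L) : Prop :=
  h ∈ x.T ∧ (∀ s, h * a x s * h⁻¹ = a x (t * s)) ∧ ∀ z, h * b x z * h⁻¹ = b x (y * z)

variable {x} in
theorem Ch.mul {h h' : G} {t t' : K} {y y' : L} (c : Ch x h t y) (c' : Ch x h' t' y') :
    Ch x (h * h') (t * t') (y * y') :=
  ⟨mul_mem c.1 c'.1, fun s => by rw [mul_assoc t, ← c.2.1, ← c'.2.1]; group,
    fun s => by rw [mul_assoc y, ← c.2.2, ← c'.2.2]; group⟩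

variable {x} in
theorem Ch.unique {h h' : G} {t : K} {y : L} (c : Ch x h t y) (c' : Ch x h' t y) : h = h' := by
  rw [← inv_mul_eq_one]
  refine x.faithful _ (mul_mem (inv_mem c.1) c'.1) (fun g hg => ?_) fun g hg => ?_
  · obtain ⟨s, rfl⟩ := (mem_X0 x).1 hg
    calc h⁻¹ * h' * a x s = h⁻¹ * (h' * a x s * h'⁻¹) * h' := by group
      _ = _ := by rw [c'.2.1, ← c.2.1]; group
  · obtain ⟨s, rfl⟩ := (mem_X5 x).1 hg
    calc h⁻¹ * h' * b x s = h⁻¹ * (h' * b x s * h'⁻¹) * h' := by group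
      _ = _ := by rw [c'.2.2, ← c.2.2]; group

variable {x} in
theorem Ch.det {h : G} {t t' : K} {y y' : L} (c : Ch x h t y) (c' : Ch x h t' y') :
    t = t' ∧ y = y' :=
  ⟨by simpa using a_inj x ((c.2.1 1).symm.trans (c'.2.1 1)),
    by simpa using b_inj x ((c.2.2 1).symm.trans (c'.2.2 1))⟩

theorem ex_ch {h : G} (hh : h ∈ x.T) : ∃ (t : Kˣ) (y : Lˣ), Ch x h t y := by
  obtain ⟨t, ht, -⟩ := ex0 x hh
  obtain ⟨y, hy, -⟩ := ex5 x hh
  exact ⟨t, y, hh, ht, hy⟩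

theorem ch_surj {t : K} {y : L} (ht : t ≠ 0) (hy : y ≠ 0) : ∃ h, Ch x h t y := by
  classical
  choose f g hf using fun h : x.T => ex_ch x h.2
  have hc : Nat.card x.T = Nat.card (Kˣ × Lˣ) := by
    rw [x.card_T, Nat.card_prod, Nat.card_eq_fintype_card, Nat.card_eq_fintype_card,
      Fintype.card_units, Fintype.card_units]
  have inj : Function.Injective fun h => (f h, g h) := fun h h' e => by
    simp only [Prod.mk.injEq] at e
    exact Subtype.ext ((hf h).unique (e.1 ▸ e.2 ▸ hf h'))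
  obtain ⟨h, e⟩ := (inj.bijective_of_nat_card_le hc.ge).2 (Units.mk0 t ht, Units.mk0 y hy)
  simp only [Prod.mk.injEq] at e
  exact ⟨h, by simpa [e.1, e.2] using hf h⟩

open Classical in
/-- The element of the torus with prescribed simple characters. -/
noncomputable def τ (t : K) (y : L) : G := if h : ∃ g, Ch x g t y then h.choose else 1

theorem τ_ch {t : K} {y : L} (ht : t ≠ 0) (hy : y ≠ 0) : Ch x (τ x t y) t y := by
  rw [τ, dif_pos (ch_surj x ht hy)]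
  exact (ch_surj x ht hy).choose_spec

theorem τ_mem (t : K) (y : L) : τ x t y ∈ x.T := by
  rw [τ]
  split_ifs with h
  · exact h.choose_spec.1
  · exact one_mem _

theorem τ_mul {t t' : K} {y y' : L} (ht : t ≠ 0) (hy : y ≠ 0) (ht' : t' ≠ 0) (hy' : y' ≠ 0) :
    τ x (t * t') (y * y') = τ x t y * τ x t' y' :=
  (τ_ch x (mul_ne_zero ht ht') (mul_ne_zero hy hy')).unique ((τ_ch x ht hy).mul (τ_ch x ht' hy'))

theorem τ_a {t : K} {y : L} (ht : t ≠ 0) (hy : y ≠ 0) (s : K) :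
    τ x t y * a x s * (τ x t y)⁻¹ = a x (t * s) := (τ_ch x ht hy).2.1 s

theorem τ_b {t : K} {y : L} (ht : t ≠ 0) (hy : y ≠ 0) (s : L) :
    τ x t y * b x s * (τ x t y)⁻¹ = b x (y * s) := (τ_ch x ht hy).2.2 s

theorem τ_surj {h : G} (hh : h ∈ x.T) : ∃ t ≠ 0, ∃ y ≠ 0, h = τ x t y := by
  obtain ⟨t, y, c⟩ := ex_ch x hh
  exact ⟨t, t.ne_zero, y, y.ne_zero, c.unique (τ_ch x t.ne_zero y.ne_zero)⟩

theorem τ_inj {t t' : K} {y y' : L} (ht : t ≠ 0) (hy : y ≠ 0) (ht' : t' ≠ 0) (hy' : y' ≠ 0)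
    (e : τ x t y = τ x t' y') : t = t' ∧ y = y' := (τ_ch x ht hy).det (e ▸ τ_ch x ht' hy')

theorem ex_mu (t : K) : ∃ y : L, (t = 0 → y = 0) ∧
    ∀ u : Kˣ, t = u → y ≠ 0 ∧ x.φ (dU u) = τ x (t * t) y⁻¹ := by
  by_cases h : t = 0
  · exact ⟨0, fun _ => rfl, fun u e => absurd (e ▸ h) u.ne_zero⟩
  obtain ⟨s, hs, y, hy, e⟩ := τ_surj x (hex_dgφ_le x (dU_mem_dg x.φ (Units.mk0 t h)))
  refine ⟨y⁻¹, fun e => absurd e h, fun u hu => ⟨inv_ne_zero hy, ?_⟩⟩
  obtain rfl : u = Units.mk0 t h := Units.ext hu.symm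
  have := τ_a x hs hy 1
  rw [← e, a, ← map_inv, ← map_mul, ← map_mul, dU_conj] at this
  have h2 : t * t * 1 = s * 1 := a_inj x this
  rw [inv_inv, e, mul_right_cancel₀ one_ne_zero h2]

theorem ex_nu (y : L) : ∃ t : K, (y = 0 → t = 0) ∧
    ∀ u : Lˣ, y = u → t ≠ 0 ∧ x.ψ (dU u) = τ x t⁻¹ (y * y) := by
  by_cases h : y = 0
  · exact ⟨0, fun _ => rfl, fun u e => absurd (e ▸ h) u.ne_zero⟩
  obtain ⟨s, hs, z, hz, e⟩ := τ_surj x (hex_dgψ_le x (dU_mem_dg x.ψ (Units.mk0 y h)))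
  refine ⟨s⁻¹, fun e => absurd e h, fun u hu => ⟨inv_ne_zero hs, ?_⟩⟩
  obtain rfl : u = Units.mk0 y h := Units.ext hu.symm
  have := τ_b x hs hz 1
  rw [← e, b, ← map_inv, ← map_mul, ← map_mul, dU_conj] at this
  have h2 : y * y * 1 = z * 1 := b_inj x this
  rw [inv_inv, e, mul_right_cancel₀ one_ne_zero h2]

/-- The embedding of the first field into the second one, as a function. -/
noncomputable def mu0 (t : K) : L := (ex_mu x t).choose
/-- The norm from the second field to the first one, as a function. -/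
noncomputable def nu0 (y : L) : K := (ex_nu x y).choose

theorem mu0_zero : mu0 x 0 = 0 := (ex_mu x 0).choose_spec.1 rfl
theorem nu0_zero : nu0 x 0 = 0 := (ex_nu x 0).choose_spec.1 rfl
theorem mu0_ne {t : K} (h : t ≠ 0) : mu0 x t ≠ 0 :=
  ((ex_mu x t).choose_spec.2 (Units.mk0 t h) rfl).1
theorem nu0_ne {y : L} (h : y ≠ 0) : nu0 x y ≠ 0 :=
  ((ex_nu x y).choose_spec.2 (Units.mk0 y h) rfl).1
theorem h0_eq (u : Kˣ) : x.φ (dU u) = τ x (u * u) (mu0 x u)⁻¹ :=
  ((ex_mu x u).choose_spec.2 u rfl).2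
theorem h5_eq (u : Lˣ) : x.ψ (dU u) = τ x (nu0 x u)⁻¹ (u * u) :=
  ((ex_nu x u).choose_spec.2 u rfl).2

theorem mu0_mul (s t : K) : mu0 x (s * t) = mu0 x s * mu0 x t := by
  by_cases hs : s = 0
  · simp [hs, mu0_zero]
  by_cases ht : t = 0
  · simp [ht, mu0_zero]
  have := h0_eq x (Units.mk0 s hs * Units.mk0 t ht)
  have h1 := mu0_ne x hs
  have h2 := mu0_ne x ht
  have h3 := mu0_ne x (mul_ne_zero hs ht)
  rw [dU_mul, map_mul, h0_eq, h0_eq, ← τ_mul x (by simpa) (by simpa) (by simpa) (by simpa)] at this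
  have := (τ_inj x (by simp [hs, ht]) (by simp [h1, h2]) (by simp [hs, ht]) (by simpa) this).2
  simp only [Units.val_mk0, Units.val_mul] at this
  rw [← mul_inv, inv_inj] at this
  exact this.symm

theorem nu0_mul (s t : L) : nu0 x (s * t) = nu0 x s * nu0 x t := by
  by_cases hs : s = 0
  · simp [hs, nu0_zero]
  by_cases ht : t = 0
  · simp [ht, nu0_zero]
  have := h5_eq x (Units.mk0 s hs * Units.mk0 t ht)
  have h1 := nu0_ne x hs
  have h2 := nu0_ne x ht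
  have h3 := nu0_ne x (mul_ne_zero hs ht)
  rw [dU_mul, map_mul, h5_eq, h5_eq, ← τ_mul x (by simpa) (by simpa) (by simpa) (by simpa)] at this
  have := (τ_inj x (by simp [h1, h2]) (by simp [hs, ht]) (by simpa) (by simp [hs, ht]) this).1
  simp only [Units.val_mk0, Units.val_mul] at this
  rw [← mul_inv, inv_inj] at this
  exact this.symm

theorem mu0_one : mu0 x 1 = 1 :=
  mul_left_cancel₀ (mu0_ne x one_ne_zero) (by rw [← mu0_mul, mul_one, mul_one])

theorem nu0_one : nu0 x 1 = 1 :=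
  mul_left_cancel₀ (nu0_ne x one_ne_zero) (by rw [← nu0_mul, mul_one, mul_one])

/-- The embedding as a multiplicative map. -/
noncomputable def mu1 : K →*₀ L where
  toFun := mu0 x
  map_zero' := mu0_zero x
  map_one' := mu0_one x
  map_mul' := mu0_mul x

/-- The norm as a multiplicative map. -/
noncomputable def nu : L →*₀ K where
  toFun := nu0 x
  map_zero' := nu0_zero x
  map_one' := nu0_one x
  map_mul' := nu0_mul x

theorem h0_eq' (u : Kˣ) : x.φ (dU u) = τ x (u * u) (mu1 x u)⁻¹ := h0_eq x u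
theorem h5_eq' (u : Lˣ) : x.ψ (dU u) = τ x (nu x u)⁻¹ (u * u) := h5_eq x u

theorem n0_τ {t : K} {y : L} (ht : t ≠ 0) (hy : y ≠ 0) :
    (n0 x)⁻¹ * τ x t y * n0 x = τ x t⁻¹ (y * mu1 x t) := by
  obtain ⟨c, h1, h2⟩ := ex0 x (τ_mem x t y)
  obtain rfl : t = c := by simpa using a_inj x ((τ_a x ht hy 1).symm.trans (h1 1))
  rw [h2, h0_eq', inv_mul_eq_iff_eq_mul, ← τ_mul x (by simp) (by simp) (by simp) (by simp [hy])]
  congr 1 <;> field_simp

theorem n5_τ {t : K} {y : L} (ht : t ≠ 0) (hy : y ≠ 0) :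
    (n5 x)⁻¹ * τ x t y * n5 x = τ x (t * nu x y) y⁻¹ := by
  obtain ⟨c, h1, h2⟩ := ex5 x (τ_mem x t y)
  obtain rfl : y = c := by simpa using b_inj x ((τ_b x ht hy 1).symm.trans (h1 1))
  rw [h2, h5_eq', inv_mul_eq_iff_eq_mul, ← τ_mul x (by simp) (by simp) (by simp [ht]) (by simp)]
  congr 1 <;> field_simp

end H64.Hx
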