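import Cfsg.Agent.H64.SFEF
import Cfsg.Agent.H64.SGAsm
import Cfsg.Agent.H59.SOAsm
import Cfsg.Agent.H26.TGP3d

/-! STD-F4: the assembly of the slots. -/

set_option autoImplicit false
set_option linter.unusedSectionVars false

namespace H64.SF

open Cfsg Cfsg.Lie Subgroup
open H64.SG (Syl Cz Cs Ns cjs Is2 Inv2 Cov UF Cfg mapE)
open H67.SA (Gen)
open H59.SO (NS CE CW G12 twe range_twe cfg_facts)
open H86.WR (XF US UF4 JobWR)
open H86.NU (NUm JobNF JobNE JobNT)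

universe u

theorem jCH (a1 : JobP2a.{u}) (a2 : JobP2b.{u}) (a3 : JobP3a.{u}) (a4 : JobP3b.{u}) (ja : JobJA.{u})
    (tl : JobTL.{u}) (x4 : JobX4.{u}) (mx : JobMX.{u}) (fy : JobFY.{u}) (rf : JobRF.{u})
    (re : JobRE.{u}) (rt : JobRT.{u}) : JobCH.{u} := by
  intro F _ _ _ G _ _ e t h
  have sy : ∀ e : XF F →* G, CH e t → ∃ (kb : Bool) (R : Type) (_ : CommRing R) (ι : F →+* R)
      (σ : RingAut R) (η : R) (y : ℕ → R → G), SY e (MulAut.conj t) kb ι σ η y := fun e h => by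
    obtain ⟨k, h1⟩ := a1 F G e t h
    obtain ⟨A, h2⟩ := a2 F G e t k h h1
    exact a4 F G e t k A h (a3 F G e t k A h h2)
  obtain ⟨kb, R, _, ι, σ, η, y, s⟩ := sy e h
  have m := mir_gam (F := F) e
  have b1 := h.toCE.toB1
  obtain ⟨t1, t2, t3⟩ := tl F G e t R ι σ η y
  cases kb
  · have h' := m.ch h (t2 _ m b1 s)
    obtain ⟨k', R', _, ι', σ', η', y', s'⟩ := sy _ h'
    obtain rfl := mx F G _ t R' ι' σ' η' y' e R ι σ η y k' false h' m.symm s' s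
      (x4 F G _ t R' ι' σ' η' y' e R ι σ η y k' false h' m.symm s' s).1
    obtain ⟨c4, c0⟩ := x4 F G e t R ι σ η y _ R' ι' σ' η' y' false false h m s s'
    obtain ⟨z, hz⟩ := fy F G e t R ι σ η y _ R' ι' σ' η' y' false false h m s s' rfl rfl c4 (c0 rfl rfl)
    rcases rf F G e t R ι σ η z b1 hz with k | ⟨K, _, _, _, x, G₁, c, k⟩
    · exact Or.inl k
    · exact Or.inr (Or.inr ⟨K, _, _, ‹_›, x, Or.inl ⟨G₁, c, k, fun _ _ => Or.inr trivial⟩⟩)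
  have nl : ∀ c, c ≠ 0 → ¬ TT e t (x F 47 c) := fun c hc h1 => by
    have h' := m.ch h ((ja F G e t h.toCE.b0 ⟨_, Or.inr (lg_x (by decide +kernel) hc), h1⟩).2 _ m h.mv
      ⟨c, hc, h1⟩)
    obtain ⟨k', R', _, ι', σ', η', y', s'⟩ := sy _ h'
    exact absurd (mx F G e t R ι σ η y _ R' ι' σ' η' y' true k' h m s s'
      (x4 F G e t R ι σ η y _ R' ι' σ' η' y' true k' h m s s').1) (by decide)
  have gd := t3 b1 s nl
  have hR := s.rg
  obtain ⟨w, hw⟩ := H26.TG.Rg.ex_w hR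
  by_cases h0 : ∃ c : F, c * c + c = w
  · obtain ⟨c0, h0⟩ := h0
    obtain ⟨G₁, c, k⟩ := re F G e t R ι σ η y b1 (t1 _ s) (η + ι c0) (by
      have := congrArg ι h0
      rw [map_add, map_mul, hw] at this
      linear_combination this + H26.TG.Rg.two hR (η * ι c0) - H26.TG.Rg.two hR (ι c0) +
        H26.TG.Rg.two hR (η * η)) (by rw [map_add, hR.eta, H26.TG.Rg.si hR]; ring)
    exact Or.inr (Or.inl ⟨G₁, c, k, gd⟩)
  · obtain ⟨K, _, _, _, x, G₁, c, k⟩ := rt F G e t R ι σ η y b1 (t1 _ s) (H26.TG.isField hR hw h0)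
    exact Or.inr (Or.inr ⟨K, _, _, ‹_›, x, Or.inr ⟨G₁, c, k, gd⟩⟩)

/-- The slots used by the assembly. -/
structure Slots : Prop where
  kit : JobKit.{u}
  jb : JobJB.{u}
  ja : JobJA.{u}
  ch : JobCH.{u}
  h : JobH.{u}
  wr : JobWR.{u}
  nf : JobNF.{u}
  ne : JobNE.{u}
  nt : JobNT.{u}
  f1 : JobMF1
  f2 : JobMF2
  m1 : JobM1
  m2 : JobM2
  mz : JobMZ
  m3e : JobM3E
  m3t : JobM3T
  mi : JobMI
  m4 : JobM4
  m5 : JobM5
  m9 : JobM9
  ea : JobEA.{u}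
  uf : JobUF.{u}
  cu : JobCU.{u}
  ev : JobEV.{u}
  di : JobDI.{u}
  d4 : JobD4.{u}

variable {G : Type u} [Group G] [Finite G] {F₀ L : Subgroup G} {t : G} {F : Type} [Field F] [Finite F]
  [CharP F 2] {e : XF F →* G}

theorem Slots.fin (S : Slots.{u}) (h : Cfg F₀ L t) (gen : Gen t) (ce : CE e t) {Y : Type} [Group Y]
    {ι : XF F →* Y} {τ : MulAut Y} {Gd : XF F → Prop} {U : Subgroup Y} {A : ℕ → Y → Prop}
    (mf : MF ι τ Gd U A) (nu : NUm.{u} ι τ U) {G₁ : Subgroup G} {c : Cov Y G₁}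
    (b : Bl ι τ Gd e t G₁ c) : Nonempty (F₀ ≃* Y) := by
  have := c.finite_X
  obtain ⟨Us, u1, u2, u3, -⟩ := c.exists_up mf.syl.2.1
  have e0 : E0 ι τ Gd U e t G₁ c Us := ⟨b, ce, u2, u1, u3⟩
  have ea := S.ea F Y G ι τ Gd U A e t G₁ c Us mf e0
  have uf := S.uf F Y G ι τ Gd U A e t G₁ c Us mf e0 ea
  have ec := S.cu F Y G ι τ Gd U A e t G₁ c Us mf e0 ea uf
  obtain ⟨K₀, k⟩ := S.ev F Y G ι τ Gd U A e t G₁ c Us mf e0 ea uf gen
  have : G₁.Normal := normalizer_eq_top_iff.1 (jobEF F Y G ι τ Gd U A e t G₁ c Us mf e0 ea uf ec K₀ k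
    (S.di F Y G ι τ Gd U A e t G₁ c Us mf e0 ea uf ec)
    (S.d4 F Y G ι τ Gd U A e t G₁ c Us mf e0 ea uf ec K₀ k) nu)
  have := h.normal
  have key : ∀ g : G, (g : G ⧸ F₀) = 1 ∨ (g : G ⧸ F₀) = (t : G ⧸ F₀)⁻¹ := fun g =>
    (h.top g).imp (QuotientGroup.eq_one_iff g).2 fun h1 =>
      eq_inv_of_mul_eq_one_left ((QuotientGroup.eq_one_iff (g * t)).2 h1)
  obtain rfl : F₀ = G₁ := le_antisymm (ns.F0_le h ce.inj b.le) (b.perf.trans (commutator_le.2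
    fun a _ b _ => (QuotientGroup.eq_one_iff _).1 (by
      change QuotientGroup.mk' F₀ _ = 1
      rw [map_commutatorElement, commutatorElement_eq_one_iff_mul_comm]
      change (a : G ⧸ F₀) * (b : G ⧸ F₀) = (b : G ⧸ F₀) * (a : G ⧸ F₀)
      rcases key a with h1 | h1 <;> rcases key b with h2 | h2 <;> simp [h1, h2])))
  refine ⟨MulEquiv.ofBijective c.piH ⟨(MonoidHom.ker_eq_bot_iff _).1
    ((h.simple.eq_bot_or_eq_top_of_normal _ inferInstance).resolve_right fun h1 => ?_),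
      c.piH_surjective⟩⟩
  obtain ⟨a, ha⟩ := mf.ns.exists_ne
  obtain ⟨l, rfl⟩ := c.piH_surjective a
  exact ha (h1.ge (mem_top l))

theorem Slots.core (S : Slots.{u}) (hk : Function.Injective e) (h : Cfg F₀ e.range t) :
    Nonempty (F₀ ≃* chevE6.group F) ∨ ∃ (K : Type) (_ : Field K) (_ : Fintype K),
      Fintype.card K = Nat.card F ^ 2 ∧
        (Nonempty (F₀ ≃* twistedE6 K (Nat.card F)) ∨ Nonempty (F₀ ≃* chevF4.group K)) := by
  have hX : NS (XF F) := ns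
  obtain ⟨b0, h1, -, -, gen⟩ := cfg_facts hX hk h
  obtain ⟨β, ca⟩ := (S.ja F G e t b0 (S.jb F G e t b0 h1)).1
  rcases S.h S.ch F G _ t ca with ⟨e₁, e₂, c⟩ | ⟨G₁, c, b⟩ | ⟨K, _, _, _, x, ⟨G₁, c, b⟩ | ⟨G₁, c, b⟩⟩
  · exfalso
    have : (G12 e₁ e₂).Normal := normalizer_eq_top_iff.1 (S.wr F G _ e₁ e₂ t ca.toCE c)
    have h5 : F₀ ≤ G12 e₁ e₂ := hX.F0_le h c.inj le_sup_left
    have h6 := hX.range_le_F0 h e₁
    obtain ⟨a, ha⟩ := hX.exists_ne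
    rcases h.simple.eq_bot_or_eq_top_of_normal (e₁.range.subgroupOf F₀)
      ((normal_subgroupOf_iff_le_normalizer h6).2 (h5.trans c.G12_le_Ns)) with h7 | h7
    · exact ha (c.inj ((mem_bot.1 ((subgroupOf_eq_bot.1 h7).eq_bot ▸
        (⟨⟨a, rfl⟩, h6 ⟨a, rfl⟩⟩ : _ ∈ e₁.range ⊓ F₀))).trans e₁.map_one.symm))
    · exact c.ne hX ((hX.range_le_F0 h e₂).trans (subgroupOf_eq_top.1 h7))
  · exact Or.inl (S.fin h gen ca.toCE ⟨S.m1.1 F, S.m2.1 F, S.m3e F, S.m4.1 F, S.m5.1 F, S.mz.1 F,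
      S.mi.1 F, S.m9.1 F⟩ (S.ne F) b)
  · obtain ⟨k1, k2, k3⟩ := S.f1 F K x
    obtain ⟨k4, k5, k6, k7⟩ := S.f2 F K x
    exact Or.inr ⟨K, _, _, x.hK, Or.inr (S.fin h gen ca.toCE
      ⟨k1, k2, k4, k5, k6, fun _ _ k => absurd trivial k, k3, k7⟩ (S.nf F K x) b)⟩
  · exact Or.inr ⟨K, _, _, x.hK, Or.inl (S.fin h gen ca.toCE ⟨S.m1.2 F K x, S.m2.2 F K x, S.m3t F K x,
      S.m4.2 F K x, S.m5.2 F K x, S.mz.2 F K x, S.mi.2 F K x, S.m9.2 F K x⟩ (S.nt F K x) b)⟩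

theorem Slots.exists_e (S : Slots.{u}) (c : Cov (XF F) L) (hp : L ≤ ⁅L, L⁆) :
    ∃ e : XF F →* G, Function.Injective e ∧ e.range = L := by
  have hi := (S.kit F L).2 c.piH c.piH_surjective
    (fun l hl => mem_center_iff.2 fun a => Subtype.ext (c.ker_cen l l.2 hl a a.2)) (by
      rw [eq_top_iff, commutator_def, ← map_le_map_iff_of_injective L.subtype_injective,
        map_commutator, ← MonoidHom.range_eq_map, range_subtype]; exact hp)
    (H64.SG.odd_card_of_forall fun l hl => by rw [← orderOf_coe]; exact c.ker_odd l l.2 hl)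
  let ε := MulEquiv.ofBijective c.piH ⟨hi, c.piH_surjective⟩
  refine ⟨L.subtype.comp ε.symm.toMonoidHom, L.subtype_injective.comp ε.symm.injective, ?_⟩
  rw [← MonoidHom.map_range, MonoidHom.range_eq_top.2 ε.symm.surjective, ← MonoidHom.range_eq_map,
    range_subtype]

theorem Slots.main {G : Type u} [Group G] [Finite G] (S : Slots.{u})
    (hF : IsSimpleGroup ↥(generalizedFittingSubgroup G))
    (hF' : ¬ IsMulCommutative ↥(generalizedFittingSubgroup G)) (L : Subgroup G)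
    (hL : IsStandardSubgroup L)
    (hR : ∀ R : Sylow 2 ↥(Subgroup.centralizer (L : Set G)),
      IsCyclic ↥(R : Subgroup ↥(Subgroup.centralizer (L : Set G))))
    (n : ℕ) (hn : 1 ≤ n) {F : Type*} [Field F] [Fintype F] (hFq : Fintype.card F = 2 ^ n)
    (hLX : Nonempty ((↥L ⧸ oddCore ↥L) ≃* ↥(chevF4.group F))) :
    Nonempty (↥(generalizedFittingSubgroup G) ≃* ↥(chevE6.group F)) ∨
      ∃ (K : Type) (_ : Field K) (_ : Fintype K), Fintype.card K = (2 ^ n) ^ 2 ∧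
        (Nonempty (↥(generalizedFittingSubgroup G) ≃* ↥(twistedE6 K (2 ^ n))) ∨
          Nonempty (↥(generalizedFittingSubgroup G) ≃* ↥(chevF4.group K))) := by
  obtain ⟨ε⟩ := hLX
  have hc : Nat.card (GaloisField 2 n) = 2 ^ n := GaloisField.card 2 n (by omega)
  let _ : Fintype (GaloisField 2 n) := Fintype.ofFinite _
  let φ : F ≃+* GaloisField 2 n := FiniteField.ringEquivOfCardEq (by
    rw [hFq, ← hc, Nat.card_eq_fintype_card])
  have hX : NS (XF (GaloisField 2 n)) := ns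
  obtain ⟨H, t, h1, h2, cfg⟩ := H67.SA.exists_cfg hF hF' L hL hR
  obtain ⟨c⟩ := H67.SA.exists_cov hL.1 h1 hX.simple (fun h => by
    obtain ⟨a, ha⟩ := hX.exists_ne
    exact ha (hX.eq_one fun b => h.is_comm.comm a b)) (ε.trans (mapE chevF4 φ)) cfg.perf
  obtain ⟨e, hi, he⟩ := S.exists_e c cfg.perf
  have ν := (subgroupOfEquivOfLe h2).symm
  rcases S.core hi (he ▸ cfg) with ⟨⟨k⟩⟩ | ⟨K, _, _, k1, k2⟩
  · exact Or.inl ⟨ν.trans (k.trans (mapE chevE6 φ).symm)⟩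
  · rw [hc] at k1 k2
    exact Or.inr ⟨K, _, _, k1, k2.imp (fun ⟨k⟩ => ⟨ν.trans k⟩) fun ⟨k⟩ => ⟨ν.trans k⟩⟩

end H64.SF
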