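import Cfsg.Agent.H86.WRDef
import Cfsg.Agent.H46.SFE6
import Cfsg.Agent.H68.IsogF4

/-! STD-F4 (row S3328), spec piece 1: definitions and the facts on `X = F₄(F)`, `F` finite of
characteristic `2`, `q = |F|`.  Proof notes: `blueprints/STDF4.md`.  API: `H64/SFBasic.lean`.
Roots are numbers `r < 48`, `-r = 47 - r`, `σ = 44` (short) and `θ = 47` (long) are dominant. -/

set_option autoImplicit false

namespace H64.SF

open Cfsg.Lie H63 H65 H64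
open H64.SG (O2 Syl Cz Cs Ns cjs Is2 Inv2 IsO2 fx)
open H67.SA (St cI cm)
open H59.SO (NS AutOn)
open H86.WR (XF US UF4)
open H46.SF (sh)

universe u

/-- Twice the coordinates of the root number `r`. -/
def vc (r : ℕ) : ℤ × ℤ × ℤ × ℤ :=
  [(-2, -2, 0, 0), (-2, 0, -2, 0), (-2, 0, 0, -2), (-2, 0, 0, 0), (-2, 0, 0, 2), (-2, 0, 2, 0),
   (-2, 2, 0, 0), (-1, -1, -1, -1), (-1, -1, -1, 1), (-1, -1, 1, -1), (-1, 1, -1, -1), (-1, -1,
   1, 1), (-1, 1, -1, 1), (-1, 1, 1, -1), (-1, 1, 1, 1), (0, -2, -2, 0), (0, -2, 0, -2), (0, 0,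
   -2, -2), (0, -2, 0, 0), (0, 0, -2, 0), (0, 0, 0, -2), (0, -2, 0, 2), (0, 0, -2, 2), (0, -2,
   2, 0), (0, 2, -2, 0), (0, 0, 2, -2), (0, 2, 0, -2), (0, 0, 0, 2), (0, 0, 2, 0), (0, 2, 0, 0),
   (0, 0, 2, 2), (0, 2, 0, 2), (0, 2, 2, 0), (1, -1, -1, -1), (1, -1, -1, 1), (1, -1, 1, -1),
   (1, 1, -1, -1), (1, -1, 1, 1), (1, 1, -1, 1), (1, 1, 1, -1), (1, 1, 1, 1), (2, -2, 0, 0), (2,
   0, -2, 0), (2, 0, 0, -2), (2, 0, 0, 0), (2, 0, 0, 2), (2, 0, 2, 0), (2, 2, 0, 0)].getD r (9, 9, 9, 9)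

/-- Four times the inner product. -/
def ip (r s : ℕ) : ℤ :=
  (vc r).1 * (vc s).1 + (vc r).2.1 * (vc s).2.1 + (vc r).2.2.1 * (vc s).2.2.1 +
    (vc r).2.2.2 * (vc s).2.2.2

/-- The number of the root `a r + b s` (`48` if this is not a root). -/
def lc (a : ℤ) (r : ℕ) (b : ℤ) (s : ℕ) : ℕ := (List.range 48).findIdx fun v =>
  vc v == (a * (vc r).1 + b * (vc s).1, a * (vc r).2.1 + b * (vc s).2.1,
    a * (vc r).2.2.1 + b * (vc s).2.2.1, a * (vc r).2.2.2 + b * (vc s).2.2.2)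

/-- `r + s` -/
def ad (r s : ℕ) : ℕ := lc 1 r 1 s
/-- The image of `r` under the reflection in `s`. -/
def rf (s r : ℕ) : ℕ := lc 1 r (-(2 * ip r s / ip s s)) s

/-- A short root. -/
abbrev S (r : ℕ) : Prop := r < 48 ∧ sh r = true
/-- A long root. -/
abbrev L (r : ℕ) : Prop := r < 48 ∧ sh r = false

/-- The roots of `C(X_r)`. -/
def lP (r : ℕ) : List ℕ := (List.range 48).filter fun s => 0 ≤ ip r s
/-- The roots of `O₂(C(X_r))`. -/
def lQ (r : ℕ) : List ℕ := (List.range 48).filter fun s => 0 < ip r s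
/-- The roots of `Q_r` and the roots of the other length orthogonal to `r`. -/
def lY (r : ℕ) : List ℕ :=
  (List.range 48).filter fun s => 0 < ip r s ∨ (ip r s = 0 ∧ sh s ≠ sh r)
/-- The roots of `Z(Q_r)`: `r` and the roots of the other length in `Q_r`. -/
def lV (r : ℕ) : List ℕ := (List.range 48).filter fun s => s = r ∨ (0 < ip r s ∧ sh s ≠ sh r)

section Defs

variable (F : Type) [Field F]

/-- The root elements. -/
noncomputable abbrev x (r : ℕ) (c : F) : XF F := xG chevF4 F r c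
/-- `n_r(1)` -/
noncomputable abbrev n (r : ℕ) : XF F := nn chevF4 (xG chevF4 F) r 1
/-- `h_r(l)` -/
noncomputable abbrev h (r : ℕ) (l : F) : XF F := hh chevF4 (xG chevF4 F) r l
/-- The copy of the Weyl group generated by the `n_r(1)`. -/
noncomputable def NW : Subgroup (XF F) := Subgroup.closure {g | ∃ r < 48, g = n F r}
/-- `X_r` -/
noncomputable abbrev Z (r : ℕ) : Subgroup (XF F) := US F [r]
/-- `P_r = C(X_r)` -/
noncomputable abbrev P (r : ℕ) : Subgroup (XF F) := US F (lP r)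
/-- `Q_r = O₂(P_r)` -/
noncomputable abbrev Q (r : ℕ) : Subgroup (XF F) := US F (lQ r)
/-- `Y_r` -/
noncomputable abbrev Y (r : ℕ) : Subgroup (XF F) := US F (lY r)
/-- `V_r = Z(Q_r)` -/
noncomputable abbrev V (r : ℕ) : Subgroup (XF F) := US F (lV r)
/-- The third `2`-central class. -/
noncomputable abbrev xm : XF F := x F 44 1 * x F 47 1
/-- The class that is not `2`-central. -/
noncomputable abbrev xd : XF F := x F 39 1 * x F 45 1
/-- `O₂(C xm)` -/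
noncomputable abbrev Qm : Subgroup (XF F) :=
  US F [24, 26, 29, 31, 32, 33, 34, 35, 36, 37, 38, 39, 40, 41, 42, 43, 44, 45, 46, 47]
/-- `O₂(C xd)` -/
noncomputable abbrev Qd : Subgroup (XF F) :=
  US F [28, 29, 30, 31, 32, 35, 36, 37, 38, 39, 40, 41, 42, 43, 44, 45, 46, 47]
/-- The subgroup that centralises the big root subgroups at `40` and `44`. -/
noncomputable abbrev Yl : Subgroup (XF F) :=
  US F [21, 22, 23, 24, 25, 26, 30, 31, 32, 37, 38, 39, 40, 41, 42, 43, 44, 45, 46, 47]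

variable {F}

/-- `u` is conjugate to an element `≠ 1` of `X_r`. -/
def Rt (r : ℕ) (u : XF F) : Prop := ∃ g c, c ≠ 0 ∧ u = g * x F r c * g⁻¹
/-- A short root element. -/
abbrev Sh (u : XF F) : Prop := Rt 44 u
/-- A long root element. -/
abbrev Lg (u : XF F) : Prop := Rt 47 u

variable (F)

/-- An automorphism that is not inner. -/
def Outer {X : Type*} [Group X] (α : MulAut X) : Prop := ∀ g, α ≠ MulAut.conj g

/-- An automorphism fixing the root subgroups in `l` pointwise is induced by an element of `US l'`. -/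
def CA (l l' : List ℕ) : Prop := ∀ α : MulAut (XF F), (∀ r ∈ l, ∀ c, α (x F r c) = x F r c) →
  ∃ ζ ∈ US F l', α = MulAut.conj ζ

/-- Automorphisms. -/
structure FA : Prop where
  ns : NS (XF F)
  a3 : ∀ α : MulAut (XF F), Is2 α → α ∈ O2 (⊤ : Subgroup (MulAut (XF F))) → ∃ g, α = MulAut.conj g
  sol : ∀ D : Subgroup (MulAut (XF F)), D ≤ ⁅D, D⁆ → D ≤ Cfsg.Inn (XF F)
  lin : ∀ r < 48, ∀ α : MulAut (XF F), (∀ c, α (x F r c) = x F r c) → ∃ g, α = MulAut.conj g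
  inv : ∀ α : MulAut (XF F), α * α = 1 → Outer α → ∀ z, z * α z = 1 → ∃ l, z = l * (α l)⁻¹
  oi : ∀ α : MulAut (XF F), α * α = 1 → Outer α → ∃ z ∈ O2 (fx α), Inv2 z

/-- Root elements and their centralisers. -/
structure FR : Prop where
  cz : ∀ r < 48, ∀ c : F, c ≠ 0 → Cz (x F r c) = P F r
  o2 : ∀ r < 48, IsO2 (Q F r) (P F r)
  perf : ∀ r < 48, P F r ≤ ⁅P F r, P F r⁆
  zq : ∀ r < 48, ⁅Q F r, Q F r⁆ = Z F r
  cq : ∀ r < 48, Cs (Q F r) = V F r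
  card : ∀ r < 48, Nat.card (Q F r) = Nat.card F ^ 15
  /-- four root elements whose common centraliser lies in `B` -/
  bor : ∀ g : XF F, (∀ r ∈ [40, 44, 46, 47], g ∈ Cz (x F r 1)) →
    g ∈ UF4 F ⊔ HH chevF4 (xG chevF4 F)
  gQ : Q F 44 ≤ Subgroup.closure {u | u ∈ Q F 44 ∧ Sh u}
  gP : ∀ r, r = 44 ∨ r = 47 → P F r ≤ Subgroup.closure {u | u ∈ P F r ∧ Sh u}
  top : P F 44 ⊔ P F 47 = ⊤
  /-- a short root element of `U` is `U`-conjugate to an element of a short root subgroup -/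
  shU : ∀ u ∈ UF4 F, Sh u → ∃ g ∈ UF4 F, ∃ s c, S s ∧ 24 ≤ s ∧ c ≠ 0 ∧ u = g * x F s c * g⁻¹
  shV : ∀ u ∈ V F 44, Sh u → u ∈ Z F 44
  shL : ∀ u ∈ US F [24, 25, 26, 30, 31, 32, 41, 42, 43, 45, 46, 47], ¬ Sh u

/-- The four classes of involutions. -/
structure FI : Prop where
  cls : ∀ u : XF F, Inv2 u → Sh u ∨ Lg u ∨ IsConj (xm F) u ∨ IsConj (xd F) u
  o2m : IsO2 (Qm F) (Cz (xm F))
  o2d : IsO2 (Qd F) (Cz (xd F))
  card : Nat.card (Qm F) = Nat.card F ^ 20 ∧ Nat.card (Qd F) = Nat.card F ^ 18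
  oq : ∀ (u : XF F) A, Inv2 u → IsO2 A (Cz u) → A ≤ O2 (Cz u)
  cta : ∀ (u : XF F) A, Inv2 u → IsO2 A (Cz u) → ∀ α : MulAut (XF F), Odd (orderOf α) →
    (∀ a ∈ A, α a = a) → α = 1
  tri : Nat.card F = 2 → (∃ N : Subgroup (XF F), N ≤ Cz (x F 40 1) ⊓ Cz (x F 44 1) ∧ N ≤ ⁅N, N⁆ ∧
    7 ∣ Nat.card N) ∧ ∀ u : XF F, Inv2 u → 7 ∣ Nat.card (Cz u) → Sh u ∨ Lg u

/-- Centralisers in `Aut X`. -/
structure FC : Prop where
  cS : CA F (lQ 44) (lV 44)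
  cT : CA F (lQ 47) (lV 47)
  cY : CA F (lQ 44 ++ [21, 22, 23, 24, 25, 26]) [44]
  cL : CA F [21, 22, 23, 24, 25, 26, 30, 31, 32, 37, 38, 39, 40, 41, 42, 43, 44, 45, 46, 47] [40, 44]
  cP : CA F [17, 22, 24, 25, 26, 30, 31, 32, 36, 38, 39, 40, 42, 43, 45, 46, 47] [29, 44, 47]
  cB : CA F [17, 22, 25, 30, 36, 38, 39, 40, 42, 43, 45, 46, 47] [29, 41, 44, 47]
  c45 : CA F [24, 26, 31, 32, 33, 34, 35, 36, 37, 38, 39, 40, 42, 43, 44, 45, 46, 47] [44, 47]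
  c90 : CA F ((lP 39).filter (· ∈ lP 45)) [39, 45]
  cZ : CA F (lP 47) [47]

/-- Automorphisms of `Q = Q_σ` and `P = P_σ`. -/
structure FE : Prop where
  qe : ∀ θ, AutOn (Q F 44) θ →
    (∀ p ∈ P F 44, ∀ u ∈ Q F 44, θ (p * u * p⁻¹) * (p * θ u * p⁻¹)⁻¹ ∈ Z F 44) →
    ∃ l : F, l ≠ 0 ∧ ∀ u ∈ Q F 44, θ u * (h F 44 l * u * (h F 44 l)⁻¹)⁻¹ ∈ Z F 44
  hq : ∀ θ, AutOn (Q F 44) θ → (∀ u ∈ Q F 44, θ u * u⁻¹ ∈ Z F 44) →
    (∀ p ∈ P F 44, ∃ ζ ∈ Q F 44, ∀ u ∈ Q F 44, θ (p * u * p⁻¹) = ζ * (p * θ u * p⁻¹) * ζ⁻¹) →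
    ∃ ζ ∈ Q F 44, ∀ u ∈ Q F 44, θ u = ζ * u * ζ⁻¹
  cE : ∀ p ∈ P F 44, (∀ u ∈ Q F 44, cm p u ∈ Z F 44) → p ∈ Q F 44
  coc : ∀ θ, AutOn (P F 44) θ → (∀ u ∈ Q F 44, θ u = u) → ∃ v ∈ V F 44, ∃ κ : F,
    (∀ y ∈ Y F 44, θ y = v * y * v⁻¹) ∧ ∀ s, S s → ip 44 s = 0 → ∀ c,
      θ (x F s c) = v * (x F s c * x F (ad 44 s) (κ * c)) * v⁻¹

/-- `q = 2`: the automorphisms of `P / Q = Sp₆(2)` are inner. -/
def FB : Prop := Nat.card F = 2 → ∀ θ, AutOn (P F 44) θ → ∃ p ∈ P F 44, ∀ y ∈ P F 44,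
  θ y * (p * y * p⁻¹)⁻¹ ∈ Q F 44

/-- No affine map of `Qm` (resp. `Qd`) moves `1` and respects the classes. -/
structure FM : Prop where
  m : ∀ θ, AutOn (Qm F) θ → ∀ T : XF F → Prop, T 1 → (∀ w, IsConj (xm F) w → T w) →
    (∀ w, Sh w ∨ Lg w → ¬ T w) → ¬ ∀ w ∈ Qm F, T w ↔ T (xm F * θ w)
  d : ∀ θ, AutOn (Qd F) θ → ∀ T : XF F → Prop, (∀ w, T w ↔ w = 1 ∨ IsConj (xd F) w) →
    ¬ ∀ w ∈ Qd F, T w ↔ T (xd F * θ w)

end Defs

/-- A statement for all finite fields of characteristic `2`. -/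
def All (P : ∀ (F : Type) [Field F], Prop) : Prop :=
  ∀ (F : Type) [Field F] [Finite F] [CharP F 2], P F

def JobFA : Prop := All fun F _ => FA F
def JobFR : Prop := All fun F _ => FR F
def JobFI : Prop := All fun F _ => FI F
def JobFC : Prop := All fun F _ => FC F
def JobFE : Prop := All fun F _ => FE F
def JobFB : Prop := All fun F _ => FB F
def JobFM : Prop := All fun F _ => FM F

end H64.SF
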