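import Cfsg.Agent.H64.SFMod
import Cfsg.Agent.H64.SGK89
import Cfsg.Agent.H86.NUA

/-! STD-F4, slot EF: elements fixing one point, and the `W`-lemma. -/

set_option autoImplicit false
set_option linter.unusedSectionVars false

namespace H64.SF

open Cfsg.Lie Subgroup
open H64.SG (Syl Cz Cs Ns cjs Is2 Inv2 Cov UF mem_Cs mem_Cz is2_of_sq isPGroup_iff_is2 Cs_le_Ns
  mem_Cs_zpowers syl_iff)
open H67.SA (cm mem_sup_zp)
open H86.WR (XF US UF4)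
open H86.NU (NUm NH)
open H98 (conj_mem_of_mem_normalizer mem_normalizer_of_cj_le)

universe u

variable {G : Type u} [Group G] [Finite G] {M : Subgroup G} {d m t : G}

/-- `d` fixes no coset of `M` other than `M`. -/
def Fx (M : Subgroup G) (d : G) : Prop := ∀ g, g * d * g⁻¹ ∈ M → g ∈ M

theorem Fx.conj (h : Fx M d) (hm : m ∈ M) : Fx M (m * d * m⁻¹) := fun g hg =>
  (mul_mem_cancel_right hm).1 (h (g * m) (by
    rwa [show g * m * d * (g * m)⁻¹ = g * (m * d * m⁻¹) * g⁻¹ by group]))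

theorem fus (uf : UF M t) {z g a : G} (hz : Inv2 z) (ht : z * t = t * z) (c : IsConj t a)
    (ha : a ∈ M) (hc : g * z * g⁻¹ * a = a * (g * z * g⁻¹)) : ∃ m ∈ M, ∃ n ∈ Cz z, g = m * n := by
  obtain ⟨m, hm, n, hn, e⟩ := (H9.UF.jobK2 uf (IsConj.refl t) uf.mem).2 (zpowers z) g a
    (Cs_le_Ns _ (mem_Cs_zpowers.2 ht)) c ha (by
      rw [cjs, MonoidHom.map_zpowers]; exact Cs_le_Ns _ (mem_Cs_zpowers.2 hc))
  exact ⟨m, hm, n, mem_Cz.2 (H86.NU.cz_of_nor hz.1 hz.2 hn), e⟩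

variable {F : Type} [Field F] [Finite F] [CharP F 2] {Y : Type} [Group Y] [Finite Y]
  {ι : XF F →* Y} {τ : MulAut Y} {Gd : XF F → Prop} {U : Subgroup Y} {A : ℕ → Y → Prop}
  {e : XF F →* G} {G₁ : Subgroup G} {c : Cov Y G₁} {Us K₀ : Subgroup G}

theorem Q_le_U : Q F 44 ≤ UF4 F :=
  H86.F4.GS_le_UU (x := H63.xG chevF4 F) (S := lQ 44) (by decide +kernel)

namespace E0

variable (h : E0 ι τ Gd U e t G₁ c Us)
include h

theorem eG (u : XF F) : e u ∈ G₁ := h.le ⟨u, rfl⟩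
theorem tG {g : G} (hg : g ∈ G₁) : t * g * t⁻¹ ∈ G₁ := conj_mem_of_mem_normalizer h.tn hg
theorem pi_t {g : G} (hg : g ∈ G₁) : c.pi (t * g * t⁻¹) = τ (c.pi g) := by
  rw [c.ac_pi t h.tn g hg, h.act]
theorem leU : Us ≤ G₁ := fun g hg => ((h.up g).1 hg).1
theorem is2 {g : G} (hg : g ∈ Us) : Is2 g := ((h.up g).1 hg).2.1
theorem piU {g : G} (hg : g ∈ Us) : c.pi g ∈ U := ((h.up g).1 hg).2.2
theorem ex {u : Y} (hu : u ∈ U) : ∃ g ∈ Us, c.pi g = u := by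
  obtain ⟨g, h1, -, h2⟩ := c.mem_im.1 (h.im ▸ hu)
  exact ⟨g, h1, h2⟩
theorem tinv : t⁻¹ = t := h.toCE.toB1.inv_eq

theorem tU' (hτ : τ ∈ H67.SA.St U) {g : G} (hg : g ∈ Us) : t * g * t⁻¹ ∈ Us :=
  (h.up _).2 ⟨h.tG (h.leU hg), (h.is2 hg).conj t, by
    rw [h.pi_t (h.leU hg)]; exact (hτ _).1 (h.piU hg)⟩

theorem tU (hτ : τ ∈ H67.SA.St U) : t ∈ Ns Us :=
  mem_normalizer_of_cj_le (by rintro _ ⟨g, hg, rfl⟩; exact h.tU' hτ hg)

theorem memS (hτ : τ ∈ H67.SA.St U) {g : G} : g ∈ Us ⊔ zpowers t ↔ g ∈ Us ∨ g * t ∈ Us :=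
  mem_sup_zp (h.tU hτ) h.inv.1

theorem sq_vt (v : G) : v * t * (v * t) = v * (t * v * t⁻¹) := by rw [h.tinv]; group

/-- The square of `a t`. -/
theorem sq4 (mf : MF ι τ Gd U A) {b : ℕ} {i : Y} {T : F} (k : D4 ι τ A b i T) {a : G} (ha : a ∈ G₁)
    (a2 : Is2 a) (hi : c.pi a = i) : b < 48 ∧ a * a = 1 ∧ a * (t * a * t⁻¹) = e (x F b T) := by
  obtain ⟨h1, h2⟩ := mf.bb b i k.1
  have hb : b < 48 := by omega
  have i2 := mf.ce b h1 i h2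
  have h3 : i * τ i * (i * τ i) = 1 := by rw [k.2.2, ← map_mul, x_sq hb, map_one]
  have h4 : τ i * τ i = 1 := by rw [← map_mul, i2, map_one]
  have h5 : i * τ i = τ i * i := by
    rw [← inv_eq_of_mul_eq_one_right h3, mul_inv_rev, inv_eq_of_mul_eq_one_right h4,
      inv_eq_of_mul_eq_one_right i2]
  refine ⟨hb, c.sq_of_pi ha a2 (by rw [hi, i2]), c.eq_of_pi_eq (mul_mem ha (h.tG ha)) (h.eG _)
    (a2.mul (a2.conj t) (c.comm_of_pi (h.tG ha) ha (a2.conj t) (by rw [h.pi_t ha, hi, h5])))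
    (is2_of_sq (by rw [← map_mul, x_sq hb, map_one])) ?_⟩
  rw [c.pi_mul _ ha _ (h.tG ha), h.pi_t ha, hi, h.pi, k.2.2]

end E0

namespace EK

variable (k : EK t G₁ Us K₀)
include k

theorem not_mem {v : G} (hv : v ∈ G₁) : v * t ∉ K₀ := fun h1 =>
  k.nt ((mul_mem_cancel_left (k.le hv)).1 h1)

theorem conj_not {g : G} (h : d ∉ K₀) : g * d * g⁻¹ ∉ K₀ := fun h1 =>
  h (by simpa [mul_assoc] using k.nor.conj_mem _ h1 g⁻¹)

theorem of_S (h : E0 ι τ Gd U e t G₁ c Us) (hτ : τ ∈ H67.SA.St U) (h1 : d ∈ Us ⊔ zpowers t)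
    (h2 : d ∉ K₀) : ∃ v ∈ Us, d = v * t :=
  ((h.memS hτ).1 h1).elim (fun h3 => absurd (k.le (h.leU h3)) h2) fun h3 =>
    ⟨_, h3, by rw [mul_assoc, h.inv.1, mul_one]⟩

theorem into (h : E0 ι τ Gd U e t G₁ c Us) (hτ : τ ∈ H67.SA.St U) (h1 : d ∈ Ns G₁) (h2 : Is2 d)
    (h3 : d ∉ K₀) : ∃ m ∈ Ns G₁, ∃ v ∈ Us, m * d * m⁻¹ = v * t := by
  obtain ⟨m, hm, h4⟩ := (syl_iff.1 k.syl).exists_cj_le h2.zpowers (zpowers_le.2 h1)
  exact ⟨m, hm, k.of_S h hτ (h4 ⟨d, mem_zpowers d, rfl⟩) (k.conj_not h3)⟩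

end EK

variable (mf : MF ι τ Gd U A) (h : E0 ι τ Gd U e t G₁ c Us) (ea : EA Gd e t G₁ c Us)
  (uf : UF (Ns G₁) t) (k : EK t G₁ Us K₀) (ei : EI Gd e t G₁)
include mf h ea uf k ei

/-- The involutions of `G₁ t`. -/
theorem fx_inv {v : G} (hv : v ∈ G₁) (h2 : v * t * (v * t) = 1) : Fx (Ns G₁) (v * t) := by
  obtain ⟨g, hg, h3 | ⟨a, a0, a1, h3⟩⟩ := ea.cl v hv h2 <;> rw [h3] <;>
    refine Fx.conj ?_ (le_normalizer hg)
  · exact uf.uf
  intro g hg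
  have b1 := h.toCE.toB1
  have h4 : t * e (x F 47 a) ∉ K₀ := b1.comm _ ▸ k.not_mem (h.eG _)
  have h5 : t * e (x F 47 a) * (t * e (x F 47 a)) = 1 := by
    rw [mul_assoc, ← mul_assoc (e _), ← b1.comm, mul_assoc, ← map_mul, x_sq (by decide), map_one,
      mul_one, h.inv.1]
  obtain ⟨m, hm, w, hw, h6⟩ := k.into h mf.stU hg ((is2_of_sq h5).conj g) (k.conj_not h4)
  have h7 : m * g * (t * e (x F 47 a)) * (m * g)⁻¹ = w * t := by rw [← h6]; group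
  obtain ⟨g', hg', h8⟩ := ea.cl w (h.leU hw) (by
    rw [← h7, conj_mul, h5, mul_one, mul_inv_cancel])
  obtain ⟨m', hm', n, hn, h9⟩ := fus uf (g := m * g) ⟨h5, fun e => h4 (e ▸ one_mem _)⟩
    (by rw [mul_assoc, ← b1.comm]) (isConj_iff.2 ⟨g', rfl⟩)
    (mul_mem (mul_mem (le_normalizer hg') h.tn) (inv_mem (le_normalizer hg'))) (by
      rw [h7]
      rcases h8 with h8 | ⟨a', -, -, h8⟩ <;> rw [h8]
      rw [conj_mul, conj_mul, mul_assoc t, ← b1.comm])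
  exact (mul_mem_cancel_left hm).1 (h9 ▸ mul_mem hm' (ei a a0 a1 hn))

/-- The elements `a t` of order `4`. -/
theorem fx_four (e4 : E4 ι τ A t G₁ c) {b : ℕ} {i : Y} {T : F} (kd : D4 ι τ A b i T) {a : G}
    (ha : a ∈ G₁) (a2 : Is2 a) (hi : c.pi a = i) : Fx (Ns G₁) (a * t) := by
  intro g hg
  obtain ⟨hb, -, h1⟩ := h.sq4 mf kd ha a2 hi
  have b1 := h.toCE.toB1
  have z2 : Inv2 (e (x F b T)) := (H59.SO.inv2_e h.inj).2 (inv2_x hb kd.2.1)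
  rw [← h.sq_vt] at h1
  have d2 : Is2 (a * t) := Is2.of_pow (k := 1) (is2_of_sq (by rw [pow_one, pow_two, h1, z2.1]))
  obtain ⟨m, hm, v, hv, h2⟩ := k.into h mf.stU hg (d2.conj g) (k.conj_not (k.not_mem ha))
  have vG := h.leU hv
  have h3 : m * g * (a * t) * (m * g)⁻¹ = v * t := by rw [← h2]; group
  obtain ⟨z, hz⟩ : ∃ z, z = v * (t * v * t⁻¹) := ⟨_, rfl⟩
  have h4 : m * g * e (x F b T) * (m * g)⁻¹ = z := by rw [hz, ← h.sq_vt, ← h3, conj_mul, h1]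
  have zG : z ∈ G₁ := hz ▸ mul_mem vG (h.tG vG)
  have zz : z * z = 1 := by rw [← h4, conj_mul, z2.1, mul_one, mul_inv_cancel]
  obtain ⟨g', hg', u, h5⟩ := ea.ic z zG zz
  obtain ⟨m', hm', n, hn, h6⟩ := fus uf (g := m * g) z2 (b1.comm _).symm (isConj_iff.2 ⟨g', rfl⟩)
    (mul_mem (mul_mem (le_normalizer hg') h.tn) (inv_mem (le_normalizer hg'))) (by
      rw [h4, h5, conj_mul, conj_mul, b1.comm])
  have h7 : c.pi z = c.ac m' (ι (x F b T)) := by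
    rw [← h.pi, ← c.ac_pi m' hm' _ (h.eG _), ← h4, h6, mul_assoc m' n, ← mem_Cz.1 hn]
    congr 1; group
  obtain ⟨j, j1, j2, j3⟩ := mf.e9 b i T kd (c.pi v) _ _ h7 (by
    rw [hz, c.pi_mul _ vG _ (h.tG vG), h.pi_t vG])
  obtain ⟨l, lG, l2, rfl⟩ := c.exists_lift2 (is2_of_sq j1)
  have l1 : l * l = 1 := c.sq_of_pi lG l2 j1
  have l3 : l * z = z * l := (c.comm_of_pi lG zG l2 j2.symm).symm
  have l4 : v * (t * l * t⁻¹) * v⁻¹ = l * z := by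
    refine c.eq_of_pi_eq (mul_mem (mul_mem vG (h.tG lG)) (inv_mem vG)) (mul_mem lG zG)
      ((l2.conj t).conj v) (l2.mul (is2_of_sq zz) l3) ?_
    rw [c.pi_conj vG (h.tG lG), h.pi_t lG, c.pi_mul _ lG _ zG, ← j3, ← mul_assoc, j1, one_mul]
  have h8 : v * t * (v * t) = z := by rw [hz, h.sq_vt]
  have l5 : v * t * l = l * z * (v * t) := by rw [← l4]; group
  have s2 : l * v * t * (l * v * t) = 1 := by
    rw [show l * v * t * (l * v * t) = l * (v * t * l) * (v * t) by group, l5,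
      show l * (l * z * (v * t)) * (v * t) = l * l * (z * (v * t * (v * t))) by group, l1, h8, zz,
      mul_one]
  have s3 : l * v * t * (v * t) * (l * v * t)⁻¹ = (v * t)⁻¹ := by
    rw [inv_eq_of_mul_eq_one_right s2, eq_inv_iff_mul_eq_one,
      show l * v * t * (v * t) * (l * v * t) * (v * t) =
        l * (v * t * (v * t)) * (l * (v * t * (v * t))) by group, h8, mul_assoc, ← mul_assoc z, ← l3,
      mul_assoc l z, zz, mul_one, l1]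
  have h9 : (m * g)⁻¹ * (l * v * t) * (m * g)⁻¹⁻¹ ∈ Ns G₁ := e4 b i T kd a ha a2 hi
    (H9.UF.mem_nor_zp (by
      rw [show a * t = (m * g)⁻¹ * (v * t) * (m * g)⁻¹⁻¹ by rw [← h3]; group, conj_mul,
        conj_inv (a := l * v * t), conj_mul, s3, conj_inv]))
  exact (mul_mem_cancel_left hm).1 (inv_mem_iff.1 (fx_inv mf h ea uf k ei (mul_mem lG vG) s2 _ h9))

omit mf h ea uf k ei in
theorem jobEF : JobEF.{u} := by
  intro F _ _ _ Y _ _ G _ _ ι τ Gd U A e t G₁ c Us mf h ea uf ec K₀ k ei e4 nu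
  by_contra hM
  obtain ⟨W, a, b, w1, -, a1, -, -, b1, b2, -, w2, -, w3, -⟩ := H9.UF.jobK4 uf hM _ k.syl
  have tT : ∀ {s}, IsConj t s → s ∉ K₀ := fun {s} hs => by
    obtain ⟨g, rfl⟩ := isConj_iff.1 hs
    exact k.conj_not k.nt
  by_cases hU : U ≤ c.im (W ⊓ Us)
  · have h1 : Us ≤ W := fun g hg => (c.mem_of_pi_mem_im (h.twoU.to_le inf_le_right) (h.leU hg)
      (h.is2 hg) (hU (h.piU hg))).1
    have h2 : W = Us := le_antisymm (fun w hw => ((h.memS mf.stU).1 (w1 hw)).resolve_right fun h3 =>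
      w2 t ((mul_mem_cancel_left hw).1 (h1 h3)) (IsConj.refl t)) h1
    exact b2 (nu G e t G₁ c Us ⟨h.toBl0, h.toCE, uf, ea.odd, h.leU, h.twoU, h.im, ec.cuS, ec.cuT, k.syl,
      fun m m1 m2 => ec.co 44 (Or.inl rfl) m m1 (centralizer_le (map_mono (f := e) Q_le_U) m2), ea.cob⟩ (h2 ▸ b1))
  obtain ⟨N, n1, n2, n3, i, i1, i2, i3, i4⟩ :=
    mf.lay _ ((c.im_mono inf_le_right).trans h.im.le) hU
  obtain ⟨l, l1, rfl⟩ := h.ex i1
  have lG := h.leU l1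
  have mem : ∀ g ∈ Us, c.pi g ∈ c.im (W ⊓ Us) → g ∈ W := fun g hg h1 =>
    (c.mem_of_pi_mem_im (h.twoU.to_le inf_le_right) (h.leU hg) (h.is2 hg) h1).1
  have cmN : ∀ u ∈ Us, ∀ g ∈ Us, c.pi (cm u g) = cm (c.pi u) (c.pi g) := fun u hu g hg => by
    have := h.leU hu
    have := h.leU hg
    simp only [cm]
    rw [c.pi_mul, c.pi_conj, c.pi_inv] <;> aesop
  have cU : ∀ u ∈ Us, ∀ g ∈ Us, cm u g ∈ Us := fun u hu g hg =>
    mul_mem (mul_mem (mul_mem hu hg) (inv_mem hu)) (inv_mem hg)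
  have tl := h.tU' mf.stU l1
  have key : l * l = 1 ∧ l * (t * l * t⁻¹) ∈ W ∧ Fx (Ns G₁) (l * t) := by
    rcases i4 with ⟨j1, j2⟩ | ⟨g, b, j, T, kd, j1, j2⟩
    · have h1 := c.sq_of_pi lG (h.is2 l1) j1
      have h2 : t * l * t⁻¹ = l := c.eq_of_pi_eq (h.tG lG) lG (h.is2 tl) (h.is2 l1) (by
        rw [h.pi_t lG, j2])
      exact ⟨h1, by rw [h2, h1]; exact one_mem _, fx_inv mf h ea uf k ei lG (by rw [h.sq_vt, h2, h1])⟩
    · have aG : (e g)⁻¹ * l * (e g)⁻¹⁻¹ ∈ G₁ :=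
        mul_mem (mul_mem (inv_mem (h.eG g)) lG) (inv_mem (inv_mem (h.eG g)))
      have h1 : c.pi ((e g)⁻¹ * l * (e g)⁻¹⁻¹) = j := by
        rw [c.pi_conj (inv_mem (h.eG g)) lG, c.pi_inv (h.eG g), h.pi, j1]; group
      have h2 := (h.sq4 mf kd aG ((h.is2 l1).conj _) h1).2.1
      rw [conj_mul, conj_eq_one_iff] at h2
      refine ⟨h2, mem _ (mul_mem l1 tl) (by rwa [c.pi_mul _ lG _ (h.tG lG), h.pi_t lG]), ?_⟩
      have := (fx_four mf h ea uf k ei e4 kd aG ((h.is2 l1).conj _) h1).conj (le_normalizer (h.eG g))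
      rwa [show e g * ((e g)⁻¹ * l * (e g)⁻¹⁻¹ * t) * (e g)⁻¹ = l * (e g * t * (e g)⁻¹) by group,
        h.toCE.toB1.conj_t] at this
  obtain ⟨l2, l3, l4⟩ := key
  have li : l⁻¹ = l := inv_eq_of_mul_eq_one_right l2
  have lW : l ∈ Ns W := mem_normalizer_of_cj_le (by
    rintro _ ⟨w, hw, rfl⟩
    change l * w * l⁻¹ ∈ W
    rcases (h.memS mf.stU).1 (w1 hw) with h1 | h1
    · rw [show l * w * l⁻¹ = (cm w l)⁻¹ * w by simp only [cm]; group]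
      exact mul_mem (inv_mem (mem _ (cU w h1 l l1) (by
        rw [cmN w h1 l l1]; exact n1 (i3 _ (h.piU h1))))) hw
    · have h2 : cm (w * t) (t * l * t⁻¹) ∈ W := mem _ (cU _ h1 _ tl) (by
        obtain ⟨v, hv, e⟩ : ∃ v ∈ U, τ v = c.pi (w * t) :=
          ⟨τ⁻¹ _, (inv_mem mf.stU _).1 (h.piU h1), τ.apply_symm_apply _⟩
        rw [cmN _ h1 _ tl, h.pi_t lG, ← e]
        have := (n3 _).1 (i3 v hv)
        simp only [cm, map_mul, map_inv] at this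
        exact n1 this)
      have h3 : (t * l * t⁻¹)⁻¹ = t * l * t⁻¹ := by rw [conj_inv, li]
      have h4 : cm w l = cm (w * t) (t * l * t⁻¹) * (l * (t * l * t⁻¹))⁻¹ := by
        rw [mul_inv_rev, h3, cm, cm, h3, mul_assoc _ (t * l * t⁻¹), ← mul_assoc (t * l * t⁻¹), conj_mul,
          l2, mul_one, mul_inv_cancel, one_mul, ← mul_assoc, ← mul_assoc, mul_assoc w t t, h.inv.1,
          mul_inv_rev, h.tinv, ← mul_assoc, mul_assoc _ t t, h.inv.1, mul_one, mul_one]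
      rw [show l * w * l⁻¹ = (cm w l)⁻¹ * w by simp only [cm]; group, h4]
      exact mul_mem (inv_mem (mul_mem h2 (inv_mem l3))) hw)
  obtain ⟨w, hw, n, -, h1⟩ := w3 l lW (fun h1 => i2 (c.pi_mem_im ⟨h1, l1⟩ lG)) (l2 ▸ one_mem _)
  have h2 : IsConj t (l * w) := a1.trans (isConj_iff.2 ⟨n, h1.symm⟩)
  obtain ⟨v, hv, h3⟩ := k.of_S h mf.stU (mul_mem (mem_sup_left l1) (w1 hw)) (tT h2)
  obtain ⟨u, hu, h4⟩ := ea.cob v hv (h3 ▸ h2)
  have h5 : u * (l * t) * u⁻¹ ∈ W := by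
    rw [show u * (l * t) * u⁻¹ = cm u l * (l * (u * t * u⁻¹)) by simp only [cm]; group, ← h4, ← h3,
      ← mul_assoc l, l2, one_mul]
    exact mul_mem (mem _ (cU u hu l l1) (by rw [cmN u hu l l1]; exact n1 (i3 _ (h.piU hu)))) hw
  exact b2 (l4.conj (le_normalizer (h.leU hu)) b
    (k.syl.1 (w1 (conj_mem_of_mem_normalizer b1 h5))))

end H64.SF
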