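import Cfsg.Agent.H64.SFSpec
import Cfsg.Agent.H86.F4FA
import Cfsg.Agent.H68.Aut

/-! STD-F4: root tables and the commutator formulas in characteristic two. -/

set_option autoImplicit false
set_option linter.unusedSectionVars false
set_option synthInstance.maxSize 2000

namespace H64.SF

open Cfsg.Lie H63 H65 H64 Subgroup
open H67.SA (cm)
open H46.SF (sh)
open H68 (rhoF4 expF4)

/-! ### Tables -/

theorem sh_iff : ∀ r < 48, (sh r = true ↔ ip r r = 4) := by decide +kernel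
theorem ip_comm (r s : ℕ) : ip r s = ip s r := by simp only [ip]; ring
theorem ip_pos : ∀ s < 48, 0 < ip s s := by decide +kernel
theorem neg_eq : ∀ r < 48, chevF4.neg r = 47 - r := by decide +kernel
theorem pairing_eq : ∀ r < 48, ∀ s < 48, chevF4.pairing r s = 2 * ip r s / ip r r := by
  decide +kernel
theorem rf_lt : ∀ s < 48, ∀ r < 48, rf s r < 48 ∧ rf s (rf s r) = r ∧ sh (rf s r) = sh r ∧
    rf s (47 - r) = 47 - rf s r := by decide +kernel
theorem rf_rt : ∀ s < 48, ∀ r < 48, ∀ i < 4, certF4.rtc (rf s r) i =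
    certF4.rtc r i - chevF4.pairing s r * certF4.rtc s i := by decide +kernel
theorem rf_simple : ∀ i < 4, ∀ s < 48, chevF4.reflectRoot i s = rf (chevF4.simple i) s := by
  decide +kernel
theorem vc_inj : ∀ r < 48, ∀ s < 48, vc r = vc s → r = s := by decide +kernel
theorem ip_dvd : ∀ s < 48, ∀ r < 48, 2 * ip r s / ip s s * ip s s = 2 * ip r s := by decide +kernel

theorem vc_lc {a b : ℤ} {r s : ℕ} (h : lc a r b s < 48) : vc (lc a r b s) =
    (a * (vc r).1 + b * (vc s).1, a * (vc r).2.1 + b * (vc s).2.1,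
      a * (vc r).2.2.1 + b * (vc s).2.2.1, a * (vc r).2.2.2 + b * (vc s).2.2.2) := by
  have := List.findIdx_getElem (xs := List.range 48) (w := by simpa [lc] using h)
  simpa [lc] using this

theorem lc_eq {a b : ℤ} {r s v : ℕ} (hv : v < 48) (h : vc v =
    (a * (vc r).1 + b * (vc s).1, a * (vc r).2.1 + b * (vc s).2.1,
      a * (vc r).2.2.1 + b * (vc s).2.2.1, a * (vc r).2.2.2 + b * (vc s).2.2.2)) :
    lc a r b s = v := by
  have h1 : lc a r b s < 48 := by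
    have := List.findIdx_lt_length_of_exists (xs := List.range 48) (p := fun v => vc v ==
      (a * (vc r).1 + b * (vc s).1, a * (vc r).2.1 + b * (vc s).2.1,
      a * (vc r).2.2.1 + b * (vc s).2.2.1, a * (vc r).2.2.2 + b * (vc s).2.2.2))
      ⟨v, List.mem_range.2 hv, by simpa using h⟩
    simpa [lc] using this
  exact vc_inj _ h1 _ hv ((vc_lc h1).trans h.symm)

theorem ip_lc {a b : ℤ} {r s : ℕ} (h : lc a r b s < 48) (v : ℕ) :
    ip v (lc a r b s) = a * ip v r + b * ip v s := by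
  simp only [ip, vc_lc h]; ring

theorem ip_ad {r s : ℕ} (h : ad r s < 48) (v : ℕ) : ip v (ad r s) = ip v r + ip v s := by
  rw [ad, ip_lc h]; ring

theorem ip_rf {s a b : ℕ} (hs : s < 48) (ha : a < 48) (hb : b < 48) :
    ip (rf s a) (rf s b) = ip a b := by
  have h1 := ip_dvd s hs a ha
  have h2 := ip_dvd s hs b hb
  have e1 := ip_lc (rf_lt s hs b hb).1 (rf s a)
  have e2 := ip_lc (rf_lt s hs a ha).1 b
  have e3 := ip_lc (rf_lt s hs a ha).1 s
  change ip (rf s a) (rf s b) = _ at e1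
  change ip b (rf s a) = _ at e2
  change ip s (rf s a) = _ at e3
  rw [e1, ip_comm (rf s a) b, ip_comm (rf s a) s, e2, e3, ip_comm b a, ip_comm s a]
  generalize 2 * ip a s / ip s s = α at *
  generalize 2 * ip b s / ip s s = β at *
  have : 2 * (α * ip b s) = 2 * (β * ip a s) := by linear_combination β * h1 - α * h2
  have : α * ip b s = β * ip a s := by omega
  linear_combination β * h1 - this

theorem ad_rf {s a b : ℕ} (hs : s < 48) (ha : a < 48) (hb : b < 48) (h : ad a b < 48) :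
    ad (rf s a) (rf s b) = rf s (ad a b) := by
  have h1 := ip_dvd s hs a ha
  have h2 := ip_dvd s hs b hb
  have h3 := ip_dvd s hs _ h
  have h5 : 2 * ip (ad a b) s / ip s s = 2 * ip a s / ip s s + 2 * ip b s / ip s s := by
    refine mul_right_cancel₀ (ip_pos s hs).ne' ?_
    rw [h3, add_mul, h1, h2, ip_comm, ip_ad h, ip_comm s a, ip_comm s b]; ring
  refine lc_eq (rf_lt s hs _ h).1 ?_
  have e1 := vc_lc (rf_lt s hs _ h).1
  have e2 := vc_lc (rf_lt s hs a ha).1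
  have e3 := vc_lc (rf_lt s hs b hb).1
  have e4 := vc_lc h
  change vc (rf s (ad a b)) = _ at e1
  change vc (rf s a) = _ at e2
  change vc (rf s b) = _ at e3
  change vc (ad a b) = _ at e4
  rw [e1, e2, e3, h5, e4]
  simp only [Prod.mk.injEq]
  refine ⟨?_, ?_, ?_, ?_⟩ <;> ring

theorem rho_lt : ∀ r < 48, rhoF4 r < 48 ∧ rhoF4 (rhoF4 r) = r ∧ sh (rhoF4 r) = (!sh r) ∧
    expF4 r = (if sh r then 2 else 1) ∧ rhoF4 (47 - r) = 47 - rhoF4 r := by decide +kernel
theorem ip_rho : ∀ r < 48, ∀ s < 48, (0 ≤ ip (rhoF4 r) (rhoF4 s) ↔ 0 ≤ ip r s) ∧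
    (0 < ip (rhoF4 r) (rhoF4 s) ↔ 0 < ip r s) ∧ rf (rhoF4 r) (rhoF4 s) = rhoF4 (rf r s) := by
  decide +kernel

/-- The commutator terms modulo `2`. -/
def ct (r s : ℕ) : List (ℕ × ℤ × ℕ × ℕ) :=
  if 0 ≤ ip r s then (if sh r && sh s && ip r s == 0 then [(ad r s, 0, 1, 1)] else [])
  else if sh r = sh s then [(ad r s, 1, 1, 1)]
  else if sh r then [(ad r s, 1, 1, 1), (ad r (ad r s), 1, 2, 1)]
  else [(ad s r, 1, 1, 1), (ad s (ad s r), 1, 1, 2)]

theorem ct_eq : ∀ r < 48, ∀ s < 48, s ≠ r → s ≠ 47 - r →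
    (chevF4.commTerms r s).map (fun c => (c.1, c.2.1 % 2, c.2.2)) = ct r s := by decide +kernel

/-- Sums of roots of the same length, and of orthogonal short roots. -/
theorem ad_lt : ∀ r < 48, ∀ s < 48, (sh r = sh s ∧ ip r s < 0 ∧ s ≠ 47 - r →
    ad r s < 48 ∧ ad s r = ad r s ∧ sh (ad r s) = sh r ∧ 0 < ip r (ad r s) ∧ 0 < ip s (ad r s) ∧ s ≠ r) ∧
    (sh r = true ∧ sh s = true ∧ ip r s = 0 → ad r s < 48 ∧ ad s r = ad r s ∧ sh (ad r s) = false ∧
      0 < ip r (ad r s) ∧ 0 < ip s (ad r s)) ∧ (s = 47 - r → ip r s < 0) ∧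
      (ip r s = -2 → s ≠ 47 - r ∧ sh r = true ∧ sh s = true) := by decide +kernel

/-- A short and a long root at an obtuse angle. -/
theorem ad_lt2 : ∀ r < 48, ∀ l < 48, sh r = true → sh l = false → ip r l < 0 →
    ad r l < 48 ∧ ad r (ad r l) < 48 ∧ sh (ad r l) = true ∧ sh (ad r (ad r l)) = false ∧
      ip r (ad r l) = 0 ∧ 0 < ip l (ad r l) ∧ 0 < ip r (ad r (ad r l)) ∧ ip l (ad r (ad r l)) = 0 ∧
      0 < ip (ad r l) (ad r (ad r l)) ∧ l ≠ r ∧ l ≠ 47 - r := by decide +kernel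

theorem mem_lP {r s : ℕ} : s ∈ lP r ↔ s < 48 ∧ 0 ≤ ip r s := by simp [lP]
theorem mem_lQ {r s : ℕ} : s ∈ lQ r ↔ s < 48 ∧ 0 < ip r s := by simp [lQ]
theorem mem_lY {r s : ℕ} : s ∈ lY r ↔ s < 48 ∧ (0 < ip r s ∨ (ip r s = 0 ∧ sh s ≠ sh r)) := by
  simp [lY]
theorem mem_lV {r s : ℕ} : s ∈ lV r ↔ s < 48 ∧ (s = r ∨ (0 < ip r s ∧ sh s ≠ sh r)) := by
  simp [lV]

/-! ### Steinberg's relations in characteristic two -/

section StF

variable {F : Type*} [Field F] [CharP F 2] {G : Type*} [Group G] {y : ℕ → F → G}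

theorem wd_ct (y : ℕ → F → G) {r s : ℕ} (hr : r < 48) (hs : s < 48) (h1 : s ≠ r) (h2 : s ≠ 47 - r)
    (a b : F) : wd y (chevF4.commWord F r s a b) =
      wd y ((ct r s).map fun c => (c.1, (c.2.1 : F) * a ^ c.2.2.1 * b ^ c.2.2.2)) := by
  rw [← ct_eq r hr s hs h1 h2, List.map_map, ChevalleyDatum.commWord]
  congr 1
  refine List.map_congr_left fun c _ => ?_
  simp only [Function.comp, CharTwo.neg_eq]
  rw [show ((c.2.1 % 2 : ℤ) : F) = c.2.1 from
    (CharP.intCast_eq_intCast F 2).2 (Int.mod_modEq _ _)]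

theorem cm_of {a b w : G} (h : a * b = b * a * w) (h1 : a * w = w * a) (h2 : b * w = w * b) :
    cm a b = w := by
  rw [cm, h, mul_assoc b, h1, ← mul_assoc, h2]; group

theorem of_cm {a b w : G} (h : cm a b = w) (h1 : a * w = w * a) (h2 : b * w = w * b) :
    a * b = b * a * w := by
  rw [mul_assoc, h1, ← mul_assoc, h2, ← h]; simp only [cm]; group

variable (h : H64.St chevF4 y)
include h

theorem st_comm {r s : ℕ} (hr : r < 48) (hs : s < 48) (h1 : s ≠ r) (h2 : s ≠ 47 - r) (a b : F) :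
    y s b * y r a = y r a * y s b *
      wd y ((ct r s).map fun c => (c.1, (c.2.1 : F) * a ^ c.2.2.1 * b ^ c.2.2.2)) := by
  rw [← wd_ct y hr hs h1 h2]; exact h.comm r s hr hs h1 (by rwa [neg_eq r hr]) a b

theorem st_c0 {r s : ℕ} (hr : r < 48) (hs : s < 48) (e : 0 ≤ ip r s) (a b : F) :
    y r a * y s b = y s b * y r a := by
  by_cases h1 : s = r
  · subst h1; exact h.x_comm ⟨s, hs⟩ a b
  have h2 : s ≠ 47 - r := fun k => by have := (ad_lt r hr s hs).2.2.1 k; omega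
  rw [st_comm h hr hs h1 h2, ct, if_pos e]
  split_ifs with k
  · simp only [Bool.and_eq_true, beq_iff_eq] at k
    have := h.x_zero ⟨_, ((ad_lt r hr s hs).2.1 ⟨k.1.1, k.1.2, k.2⟩).1⟩
    simp only at this
    simp [this]
  · simp

theorem st_c1 {r s : ℕ} (hr : r < 48) (hs : s < 48) (e1 : sh r = sh s) (e2 : ip r s < 0)
    (e3 : s ≠ 47 - r) (a b : F) : cm (y r a) (y s b) = y (ad r s) (a * b) := by
  obtain ⟨k1, k2, -, k4, k5, k6⟩ := (ad_lt r hr s hs).1 ⟨e1, e2, e3⟩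
  refine cm_of ?_ (st_c0 h hr k1 k4.le _ _) (st_c0 h hs k1 k5.le _ _)
  rw [st_comm h hs hr k6.symm (by omega), ct, if_neg (by rw [ip_comm]; omega), if_pos e1.symm, k2]
  simp [mul_comm]

theorem st_c2 {r l : ℕ} (hr : S r) (hl : L l) (e : ip r l < 0) (a b : F) :
    cm (y r a) (y l b) = y (ad r l) (a * b) * y (ad r (ad r l)) (a ^ 2 * b) := by
  obtain ⟨k1, k2, -, -, k5, k6, k7, k8, -, k9, k10⟩ := ad_lt2 r hr.1 l hl.1 hr.2 hl.2 e
  refine cm_of ?_ ?_ ?_
  · rw [st_comm h hl.1 hr.1 k9.symm (by have := hr.1; have := hl.1; omega), ct,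
      if_neg (by rw [ip_comm]; omega), if_neg (by simp [hr.2, hl.2]), if_neg (by simp [hl.2])]
    simp [mul_comm]
  · rw [← mul_assoc, st_c0 h hr.1 k1 k5.ge, mul_assoc, st_c0 h hr.1 k2 k7.le, mul_assoc]
  · rw [← mul_assoc, st_c0 h hl.1 k1 k6.le, mul_assoc, st_c0 h hl.1 k2 k8.ge, mul_assoc]

omit h in
/-- Steinberg's relations from the three shapes. -/
theorem st_of (add : ∀ r < 48, ∀ a b, y r a * y r b = y r (a + b))
    (c0 : ∀ r < 48, ∀ s < 48, 0 ≤ ip r s → ∀ a b, y r a * y s b = y s b * y r a)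
    (c1 : ∀ r < 48, ∀ s < 48, sh r = sh s → ip r s < 0 → s ≠ 47 - r → ∀ a b,
      cm (y r a) (y s b) = y (ad r s) (a * b))
    (c2 : ∀ r l, S r → L l → ip r l < 0 → ∀ a b,
      cm (y r a) (y l b) = y (ad r l) (a * b) * y (ad r (ad r l)) (a ^ 2 * b)) :
    H64.St chevF4 y := by
  have z : ∀ r < 48, y r 0 = 1 := fun r hr => by
    have := add r hr 0 0
    rwa [add_zero, mul_eq_left] at this
  have sq : ∀ r < 48, ∀ a, (y r a)⁻¹ = y r a := fun r hr a =>
    inv_eq_of_mul_eq_one_right (by rw [add r hr, CharTwo.add_self_eq_zero, z r hr])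
  have d2 : ∀ r l, S r → L l → ip r l < 0 → ∀ a b, y r a * y l b =
      y l b * y r a * (y (ad r l) (a * b) * y (ad r (ad r l)) (a ^ 2 * b)) ∧ y l b * y r a =
      y r a * y l b * (y (ad r l) (a * b) * y (ad r (ad r l)) (a ^ 2 * b)) := fun r l hr hl e a b => by
    obtain ⟨k1, k2, -, -, k5, k6, k7, k8, k9, -⟩ := ad_lt2 r hr.1 l hl.1 hr.2 hl.2 e
    have : y r a * y l b =
        y l b * y r a * (y (ad r l) (a * b) * y (ad r (ad r l)) (a ^ 2 * b)) := by
      refine of_cm (c2 r l hr hl e a b) ?_ ?_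
      · rw [← mul_assoc, c0 _ hr.1 _ k1 k5.ge, mul_assoc, c0 _ hr.1 _ k2 k7.le, mul_assoc]
      · rw [← mul_assoc, c0 _ hl.1 _ k1 k6.le, mul_assoc, c0 _ hl.1 _ k2 k8.ge, mul_assoc]
    refine ⟨this, ?_⟩
    rw [this, mul_assoc (y l b * y r a), left_eq_mul, mul_eq_one_iff_inv_eq, mul_inv_rev, sq _ k1,
      sq _ k2, c0 _ k1 _ k2 k9.le]
  refine ⟨add, fun r s hr hs h1 h2 a b => ?_⟩
  change r < 48 at hr
  change s < 48 at hs
  rw [neg_eq r hr] at h2
  rw [wd_ct y hr hs h1 h2, ct]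
  split_ifs with k1 k2 k3 k4
  · simp only [Bool.and_eq_true, beq_iff_eq] at k2
    simp [z _ ((ad_lt r hr s hs).2.1 ⟨k2.1.1, k2.1.2, k2.2⟩).1, c0 r hr s hs k1]
  · simp [c0 r hr s hs k1]
  · obtain ⟨j1, j2, -, j4, j5, -⟩ := (ad_lt r hr s hs).1 ⟨k3, by omega, h2⟩
    have := of_cm (c1 s hs r hr k3.symm (by rw [ip_comm]; omega) (by omega) b a)
      (by rw [j2]; exact c0 _ hs _ j1 j5.le _ _) (by rw [j2]; exact c0 _ hr _ j1 j4.le _ _)
    rw [this, j2]; simp [mul_comm]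
  · rw [(d2 r s ⟨hr, k4⟩ ⟨hs, by simpa [k4] using k3⟩ (by omega) a b).2]; simp
  · have k5 : sh r = false := by simpa using k4
    rw [(d2 s r ⟨hs, by simpa [k5] using k3⟩ ⟨hr, k5⟩ (by rw [ip_comm]; omega) b a).1]
    simp [mul_comm]

end StF

end H64.SF
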