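import Cfsg.Agent.H67.SPAsm
import Cfsg.Agent.H1.SP3RS
import Cfsg.Agent.H13.SPTL
import Cfsg.Agent.H15.SWCM
import Cfsg.Agent.H17.SP3CU
import Cfsg.Agent.H18.SWFT
import Cfsg.Agent.H20.SWTO
import Cfsg.Agent.H21.SPPP
import Cfsg.Agent.H23.SP3T2
import Cfsg.Agent.H25.SP3SD
import Cfsg.Agent.H26.SWTP
import Cfsg.Agent.H3.SwNO
import Cfsg.Agent.H35.S3GK
import Cfsg.Agent.H35.S3MS
import Cfsg.Agent.H35.S3MU
import Cfsg.Agent.H37.SPPR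
import Cfsg.Agent.H4.SP3TE
import Cfsg.Agent.H4.SWFD
import Cfsg.Agent.H45.SWW1
import Cfsg.Agent.H49.SWCA
import Cfsg.Agent.H5.SPWOC
import Cfsg.Agent.H59.S3MU1
import Cfsg.Agent.H6.Sp3T1a
import Cfsg.Agent.H61.SP3CL
import Cfsg.Agent.H62.SP3PN
import Cfsg.Agent.H62.SP3ML
import Cfsg.Agent.H63.S3AW
import Cfsg.Agent.H69.SP3Q
import Cfsg.Agent.H69.SP3GX
import Cfsg.Agent.H69.SWWA
import Cfsg.Agent.H7.SP3T3
import Cfsg.Agent.H73.SwNK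
import Cfsg.Agent.H74.SP3T1
import Cfsg.Agent.H74.SP3T4
import Cfsg.Agent.H76.SPWSW
import Cfsg.Agent.H77.SWCZ
import Cfsg.Agent.H78.S3B
import Cfsg.Agent.H81.SP3RW
import Cfsg.Agent.H82.SWSZ
import Cfsg.Agent.H83.SP3TD
import Cfsg.Agent.H83.SWNU
import Cfsg.Agent.H94.SWCL
import Cfsg.Agent.H94.SP3TB
import Cfsg.Agent.H95.SWWU
import Cfsg.Agent.H96.SWN2
import Cfsg.Agent.H98.SwUB
import Cfsg.Agent.H99.SWC2

/-! STD-SP (row S3129): chapter III and the wreath endgame from their slots. -/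

set_option autoImplicit false

namespace H64.SPF

open H67.SP
open H78.S2 (base fc)

universe u

theorem c2 : H67.SW.JobC2 := fun n F _ _ _ _ _ p b c o =>
  @H99.SWC2.jobC2 n F _ _ _ _ _ b p n F _ _ _ _ _ p b c o

theorem jobWR : H67.SW.JobWR.{u} :=
  H67.SW.Sl.jobWR
    { sw := H76.SPWSW.jobSW, wu := H95.SW.jobWU, w1 := H45.SW.jobW1, n2 := H96.SW.jobN2
      nk := H73.SwNK.jobNK, nu := H83.SWNU.jobNU, w3 := H95.SW.jobW3, we := H95.SW.jobWE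
      wa := H69.SWA.jobWA, cl := H94.SW.jobCL, ub := H98.SwUB.jobUB, tp := H26.SWTP.jobTP
      sz := H82.SWZ.jobSZ, ft := H18.SWFT.jobFT, fd := H4.SWFD.jobFD, oc := H5.SPWOC.jobOC
      cz := H77.SWCZ.jobCZ, c2 := c2, cm := H15.SW.jobCM, ca := H49.SWCA.jobCA
      no := H3.SwNO.jobNO, tr := H20.SWTO.jobTO }

theorem jobIII : JobIII.{u} := by
  intro n F _ _ _ _ _ _ G _ _ e t h0 h1
  have b := base n F
  have c := fc n F
  have w := H63.S3.jobAW n F G e t b c h0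
  obtain ⟨τ, β, ρ, a1, a2, a3⟩ := H6.Sp3T1a.jobT1a n F G e t b c w h1
  have a4 := H74.SP3.jobT4 n F b G e τ β (H7.SP3.jobT3 n F G e t b c w τ β
    (H23.SP3T2.jobT2 n F G e t b c w τ β ρ (H74.SP3.jobT1b n F G e t b c w τ β ρ a1 a2 a3) a2 a3) a2)
  obtain ⟨rfl | rfl, δ, a5⟩ := H94.SP3.jobTB n F G e t b c w τ β a4 a2
  · have a6 := H83.SP3TD.jobTD n F G e t b c w τ δ a4 a2 a5
    by_cases h : ∃ ε, ε ^ 2 + ε = δ
    · obtain ⟨ε, h⟩ := h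
      exact Or.inr (Or.inl (H81.SPW.jobRW n F G e t b c w τ δ ε a6 a2 h))
    · obtain ⟨K, _, _, _, x, η, h5, ⟨st, h6⟩, -⟩ := H35.S3GK.jobK F δ (not_exists.1 h)
      exact Or.inl (H1.SP3RS.jobRS H35.S3GK.jobGR H37.SPPR.jobPR H69.SP3.jobGX H25.SP3.jobSD
        H35.S3MS.jobMS H69.SP3.jobQS base n F b K x δ η h5 h6 G e t τ w a6 a2)
  · have a6 := H4.SP3TE.jobTE n F G e t b c w τ δ a4 a2 a5
    have a7 := a4.toR1.toR0.sv w.cen a2 1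
    by_cases h : ∃ ε, ε ^ 2 + ε = δ
    · obtain ⟨ε, h⟩ := h
      obtain ⟨Φ, h5, h6⟩ := H78.S3.bL n F G e t b c _ δ ε h w.inj w.cen a6 a7
      obtain ⟨j, hj⟩ := H62.SP3W.jobML1 n F b ε
      exact Or.inr (Or.inr (Or.inl (H61.SP3CL.jobCL H13.SPTL.jobTL H21.SPP.jobPP H69.SP3.jobQL
        n F G e t b c ε j hj τ Φ w.inj a4 a2 h5 h6)))
    · obtain ⟨K, _, _, _, x, η, h5, -, st, h6⟩ := H35.S3GK.jobK F δ (not_exists.1 h)
      obtain ⟨Φ, h7, h8⟩ := H78.S3.bU n F b K x δ η h5 h6 G e t _ w.inj w.cen a6 a7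
      have m := H35.S3MU.jobMU n F b K x δ η h5 h6
      exact Or.inr (Or.inr (Or.inr (H17.SP3CU.jobCU H13.SPTL.jobTL H62.SP3PN.jobPN H69.SP3.jobQU
        n F b K x δ η h5 h6 m (H59.S3MU1.jobMU1 H62.SP3PN.jobPN n F b K x δ η h5 h6 m)
        G e t τ Φ w.inj a4 a2 h7 h8)))

end H64.SPF
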