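import Cfsg.Agent.H64.YEKit2
import Cfsg.Agent.H59.SOAsm
import Cfsg.Agent.H86.SPIFin

/-! STD-SP endgame (row S3129): the assembly of the slots. -/

set_option autoImplicit false
set_option linter.unusedSectionVars false

namespace H64.YE

open H64.SG (O2 Syl Cz Cs Ns cjs Is2 Inv2 UF Cfg mem_Cs mem_Cz is2_of_sq)
open Subgroup H67.UA H67.SP H98
open H67.SA (cm Gen SLn)
open H59.SO (Ind NS CE Om map_mem_Cs mem_Cs_map cfg_facts)
open H86.SPI (QD iO tO)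

universe u

/-- The type-free slots. -/
structure Slots : Prop where
  gc : JobGC.{u}
  ea : JobEA.{u}
  bg : JobBG.{u}
  no : JobNO.{u}
  uf : JobUF.{u}
  ev : JobEV.{u}
  ei : JobEI.{u}
  co : JobCO.{u}
  cq : JobCQ.{u}
  ss : JobSS.{u}
  ca : JobCA.{u}
  hs : JobHS.{u}
  cb : JobCB.{u}
  hu : JobHU.{u}
  nz : JobNZ.{u}
  sz : JobSZ.{u}
  z1 : JobZ1.{u}
  ht : JobHT.{u}
  ro : JobRO.{u}
  ho : JobHO.{u}
  sr : JobSR.{u}
  c3 : JobC3.{u}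
  uy : JobUY.{u}
  so : JobSO.{u}
  la : JobLA.{u}
  lb : JobLB.{u}
  lc : JobLC.{u}
  l4 : JobL4.{u}

variable {n : ℕ} {F : Type} [Field F] [StarRing F] [TrivialStar F] [CharP F 2] [Finite F]
  {Y : Type} [Group Y]

/-- Orthogonal route without `MC Q`. -/
def RtP (ι : XU n F →* Y) (τ : MulAut Y) (U : Subgroup Y) : Prop :=
  ON ι ∧ NA Y ∧ ME ι τ Lr Sr ∧ ∃ r Z Q c R R₀ R₁,
    MC ι τ LS U R ∧ RD ι τ LS U r Z Q ∧ RA τ Z Q (PO c Z) ∧ RZ τ r Z Q ∧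
      OB ι τ r c ∧ OH τ r R ∧ OS ι τ c R ∧ OC ι τ LS c R R₀ R₁ ∧ OU ι r c R ∧ OQ U Z Q c

/-- `JobMO` without `MC Q`. -/
def JobMP : Prop := AllM fun n F _ _ _ _ _ => ∀ δ, ∃ U, MB (iO n F δ) (tO n F δ) Lr U ∧
  RtP (iO n F δ) (tO n F δ) U

variable [H67.SP.Par n F] [Finite Y] [QS Y] {G : Type u} [Group G] [Finite G] {ι : XU n F →* Y}
  {τ : MulAut Y} {Gd Go : XU n F → Prop} {U : Subgroup Y} {e : XU n F →* G} {t : G} {Φ : Y →* G}
  {K₀ F₀ : Subgroup G}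

theorem cfg_perf (c : Cfg F₀ e.range t) (hX : NS (XU n F)) (hi : Function.Injective e) :
    F₀ ≤ ⁅F₀, F₀⁆ := by
  have := c.normal
  obtain ⟨a, ha⟩ := hX.exists_ne
  rcases c.simple.eq_bot_or_eq_top_of_normal ((⁅F₀, F₀⁆).subgroupOf F₀) inferInstance with h | h
  · exact absurd (hi ((mem_bot.1 ((subgroupOf_eq_bot.1 h).eq_bot ▸ (⟨(c.perf.trans
      (commutator_mono c.le c.le)) ⟨a, rfl⟩, c.le ⟨a, rfl⟩⟩ : _ ∈ ⁅F₀, F₀⁆ ⊓ F₀))).trans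
        e.map_one.symm)) ha
  · exact subgroupOf_eq_top.1 h

theorem EK.eq (k : EK U t Φ K₀) (c : Cfg F₀ e.range t) (p : F₀ ≤ ⁅F₀, F₀⁆) : K₀ = F₀ := by
  have := k.nor
  have key : ∀ g : G, (g : G ⧸ K₀) = 1 ∨ (g : G ⧸ K₀) = (t : G ⧸ K₀)⁻¹ := fun g =>
    (k.top g).imp (QuotientGroup.eq_one_iff g).2 fun h1 =>
      eq_inv_of_mul_eq_one_left ((QuotientGroup.eq_one_iff (g * t)).2 h1)
  have h1 : F₀ ≤ K₀ := p.trans (commutator_le.2 fun a _ b _ => (QuotientGroup.eq_one_iff _).1 (by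
    change QuotientGroup.mk' K₀ _ = 1
    rw [map_commutatorElement, commutatorElement_eq_one_iff_mul_comm]
    change (a : G ⧸ K₀) * (b : G ⧸ K₀) = (b : G ⧸ K₀) * (a : G ⧸ K₀)
    rcases key a with h1 | h1 <;> rcases key b with h2 | h2 <;> simp [h1, h2]))
  exact le_antisymm (fun g hg => (c.top g).resolve_right fun h2 =>
    k.nt ((mul_mem_cancel_left hg).1 (h1 h2))) h1

theorem iso_of_le (hk : Φ.ker ≤ center Y) (hs : IsSimpleGroup K₀) (h1 : Φ.range ≤ K₀)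
    (h2 : K₀ ≤ Ns Φ.range) (h3 : Φ.range ≠ ⊥) : Nonempty (K₀ ≃* Y ⧸ center Y) := by
  obtain rfl : K₀ = Φ.range := le_antisymm (subgroupOf_eq_top.1
    ((hs.eq_bot_or_eq_top_of_normal _ ((normal_subgroupOf_iff_le_normalizer h1).2 h2)).resolve_left
      fun h => h3 (by simpa [inf_eq_left.2 h1] using (subgroupOf_eq_bot.1 h).eq_bot))) h1
  have h4 : Φ.rangeRestrict.ker = center Y := by
    rw [MonoidHom.ker_rangeRestrict]
    refine le_antisymm hk fun z hz => ?_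
    rcases hs.eq_bot_or_eq_top_of_normal (center Φ.range) inferInstance with h | h
    · have : Φ.rangeRestrict z ∈ center Φ.range := mem_center_iff.2 fun a =>
        Subtype.ext ((e_mem_Cs hk).2 hz a a.2)
      rw [h] at this
      exact congrArg Subtype.val (mem_bot.1 this)
    · refine absurd (eq_bot_iff.2 ((range_perfect (e := Φ)).trans (commutator_le.2 fun a ha b hb =>
        mem_bot.2 (commutatorElement_eq_one_iff_mul_comm.2 ?_)))) h3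
      exact congrArg Subtype.val (mem_center_iff.1 (h.ge (mem_top (⟨b, hb⟩ : Φ.range))) ⟨a, ha⟩)
  exact ⟨(QuotientGroup.quotientKerEquivOfSurjective _ Φ.rangeRestrict_surjective).symm.trans
    (QuotientGroup.quotientMulEquivOfEq h4)⟩

theorem EA.go (a : EA Gd e t Φ) (u : UF (Ns Φ.range) t) (v : XU n F) (v2 : v * v = 1) (g : Gd v) :
    Cz (t * e v) ≤ Ns Φ.range := by
  obtain ⟨w, hw⟩ := a.tx v v2 g
  rw [hw]
  exact ((Fx.of_uf u).conj (Φ_mem w)).cz (mul_mem (mul_mem (Φ_mem w) u.mem) (inv_mem (Φ_mem w)))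

theorem E1.peU (h : E1 ι τ Gd Go U e t Φ K₀) {Z : Subgroup Y} (hz : ∀ z ∈ Z, τ z = z) :
    PE Φ Z (PU τ Z) := by
  have t1 : t ∈ Cs (Z.map Φ) := mem_Cs_map.2 fun z z1 => (h.act.comm (hz z z1)).symm
  refine map_le_iff_le_comap.2 ((closure_le _).2 ?_)
  rintro _ ⟨p, hp, rfl⟩
  obtain ⟨a1, a2, a3⟩ := h.fxt p
  have : Φ (p * (τ p)⁻¹) = tt Φ t p * t⁻¹ := by rw [map_mul, map_inv, ← h.act p, tt]; group
  refine mem_comap.2 (this ▸ mul_mem (subset_closure ⟨a3, ?_, a2.cz a1⟩)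
    (inv_mem (subset_closure ⟨h.inv.1, t1, h.ct⟩)))
  exact mul_mem (mul_mem (map_mem_Cs hp) t1) (inv_mem (map_mem_Cs hp))

theorem peO {Z : Subgroup Y} {c : Y} (c2 : c * c = 1) (f : Fx (Ns Φ.range) (Φ c)) :
    PE Φ Z (PO c Z) := by
  refine map_le_iff_le_comap.2 ((closure_le _).2 ?_)
  rintro y ⟨h1, h2⟩
  obtain ⟨w, rfl⟩ := isConj_iff.1 h2
  refine mem_comap.2 (subset_closure ⟨by rw [← map_mul, conj_mul, c2]; simp, map_mem_Cs h1, ?_⟩)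
  refine Fx.cz ?_ (Φ_mem _)
  simpa using f.conj (Φ_mem w)

variable (S : Slots.{u}) (b : Base n F) (fc : FC n F) (fo : FO n F) (c : Cfg F₀ e.range t)
  (h : E0 ι τ Gd U e t Φ) (m3 : M3 ι τ Gd)
include S b fc fo c h m3

/-- The common start. -/
theorem Slots.start (nr : EA Gd e t Φ → BG n F t → NR t Φ)
    (go : EA Gd e t Φ → UF (Ns Φ.range) t → ∀ v, v * v = 1 → Go v → Cz (t * e v) ≤ Ns Φ.range) :
    E1 ι τ Gd Go U e t Φ F₀ := by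
  have ea := S.ea n F G e t b fc fo Y ι τ Gd U Φ h
  have bg := (S.bg n F G e t b fc fo Y ι τ Gd U Φ h).1
  have uf := S.uf n F G e t b fc fo Y ι τ Gd U Φ h m3 ea bg (nr ea bg)
  obtain ⟨K₀, k⟩ := S.ev n F G e t b fc fo Y ι τ Gd U Φ h ea uf (cfg_facts FA.ns h.inj c).2.2.2.2
  obtain rfl := k.eq c (cfg_perf c FA.ns h.inj)
  exact { h, ea, k with uf := uf, go := go ea uf }

theorem Slots.big (hb : BigI n F Y) : E1 ι τ Gd Gd U e t Φ F₀ :=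
  S.start b fc fo c h m3 (fun _ _ => (S.bg n F G e t b fc fo Y ι τ Gd U Φ h).2 hb) EA.go

omit fo m3 h fc b in
theorem Slots.fin (h : E1 ι τ Gd Go U e t Φ F₀) {r : Y} {Z Q : Subgroup Y} (d : RD ι τ Go U r Z Q)
    (na : NA Y) (rf : RF Φ r) (k : F₀ ⊓ Cz (Φ r) ≤ Ns Φ.range) : Nonempty (F₀ ≃* Y ⧸ center Y) :=
  iso_of_le h.ker c.simple h.le (S.ht n F G e t Y ι τ Gd Go U Φ F₀ h r Z Q d c.simple na rf k)
    fun k => (inv2_e h.ker d.inv).2 (mem_bot.1 (k ▸ ⟨r, rfl⟩))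

omit fo m3 h fc b in
theorem Slots.finZ (h : E1 ι τ Gd Go U e t Φ F₀) {r : Y} {Z Q : Subgroup Y} (d : RD ι τ Go U r Z Q)
    (na : NA Y) (rf : RF Φ r) (z : RZ τ r Z Q) (k : F₀ ⊓ Ns (Z.map Φ) ≤ Ns Φ.range) :
    Nonempty (F₀ ≃* Y ⧸ center Y) :=
  S.fin c h d na rf (S.z1 S.gc n F G e t Y ι τ Gd Go U Φ F₀ h r Z Q d z
    (S.sz n F G e t Y ι τ Gd Go U Φ F₀ h r Z Q d z rf) k)

theorem Slots.rtS (r : RtS ι τ Gd U) : Nonempty (F₀ ≃* Y ⧸ center Y) := by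
  obtain ⟨hb, na, mi, r, Z, Q, mc, d, rs, rb, rn, rz⟩ := r
  have k := S.big b fc fo c h m3 hb
  have rf := k.rf mi d.inv.1
  have cq := S.cq n F G e t Y ι τ Gd Gd U Φ F₀ k r Z Q d (S.co n F G e t Y ι τ Gd Gd U Φ F₀ k Q mc)
  have hs := S.hs n F G e t Y ι τ Gd Gd U Φ F₀ k r Z Q d mi rb cq
  have cn := S.cb S.gc n F G e t Y ι τ Gd Gd U Φ F₀ k r Z Q d rb
    (S.ss n F G e t Y ι τ Gd Gd U Φ F₀ k r Z Q d mi rs) hs
  exact S.finZ c k d na rf rz (S.nz n F G e t Y ι τ Gd Gd U Φ F₀ k r Z Q d rn rf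
    fun g g1 g2 g3 => k.two2 g (hs ⟨⟨g1, g2⟩, cn ⟨g1, g2⟩⟩) g3 g1)

theorem Slots.rtU (r : RtU ι τ Gd U) : Nonempty (F₀ ≃* Y ⧸ center Y) := by
  obtain ⟨hb, na, mi, r, Z, Q, mc, d, rs, ra, rh, rn, rz⟩ := r
  have k := S.big b fc fo c h m3 hb
  have rf := k.rf mi d.inv.1
  have cq := S.cq n F G e t Y ι τ Gd Gd U Φ F₀ k r Z Q d (S.co n F G e t Y ι τ Gd Gd U Φ F₀ k Q mc)
  have cn := S.ca S.gc n F G e t Y ι τ Gd Gd U Φ F₀ k r Z Q _ d ra (k.peU ra.tz)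
    (S.ss n F G e t Y ι τ Gd Gd U Φ F₀ k r Z Q d mi rs)
  exact S.finZ c k d na rf rz (S.nz n F G e t Y ι τ Gd Gd U Φ F₀ k r Z Q d rn rf
    (S.hu n F G e t Y ι τ Gd Gd U Φ F₀ k r Z Q d rh rf cn cq))

theorem Slots.rtL (r : RtL ι τ Gd U) : Nonempty (F₀ ≃* Y ⧸ center Y) := by
  obtain ⟨hb, na, mi, r, Z, Q, A, A', mc, d, l⟩ := r
  have k := S.big b fc fo c h m3 hb
  have rf := k.rf mi d.inv.1
  obtain ⟨s1, s2⟩ := S.la n F G e t Y ι τ Gd Gd U Φ F₀ k r Z Q A A' d l rf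
  obtain ⟨c1, c2⟩ := S.lb n F G e t Y ι τ Gd Gd U Φ F₀ k r Z Q A A' d l s1 s2
  exact S.fin c k d na rf (S.lc n F G e t Y ι τ Gd Gd U Φ F₀ k r Z Q A A' d l c1 c2
    (S.cq n F G e t Y ι τ Gd Gd U Φ F₀ k r Z Q d (S.co n F G e t Y ι τ Gd Gd U Φ F₀ k Q mc)))

theorem Slots.rtM (r : RtM n F Y) : Nonempty (F₀ ≃* Y ⧸ center Y) := by
  obtain ⟨hb, h4, m, hm, ⟨ψ⟩⟩ := r
  have k := S.big b fc fo c h m3 hb
  have hc : (center Y).map ψ.toMonoidHom = center (SLn m F) := by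
    ext a
    constructor
    · rintro ⟨y, hy, rfl⟩
      exact mem_center_iff.2 fun z => by simpa using congrArg ψ (mem_center_iff.1 hy (ψ.symm z))
    · exact fun ha => ⟨ψ.symm a, mem_center_iff.2 fun z => ψ.injective (by
        simpa using mem_center_iff.1 ha (ψ z)), ψ.apply_symm_apply a⟩
  have : Finite (SLn m F) := Finite.of_equiv _ ψ.toEquiv
  obtain ⟨ε⟩ := S.l4 m F G (Φ.comp ψ.symm.toMonoidHom) (U.map ψ.toMonoidHom) F₀ hm h4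
    (fun a ha => hc ▸ ⟨ψ.symm a, h.ker ha, ψ.apply_symm_apply a⟩) (by
      have := H59.SO.syl_map (e := ψ.toMonoidHom) h.syl
      rwa [← MonoidHom.range_eq_map, MonoidHom.range_eq_top.2 ψ.surjective] at this)
    (by rw [map_map, MonoidHom.comp_assoc, MulEquiv.toMonoidHom_eq_coe, MulEquiv.toMonoidHom_eq_coe,
      MulEquiv.coe_monoidHom_symm_comp_coe_monoidHom, MonoidHom.comp_id]; exact k.sylK) c.simple
  exact ⟨ε.trans (QuotientGroup.congr _ _ ψ hc).symm⟩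

theorem Slots.rtP (g : ∀ u, Gd u ↔ Lr u) (hc : center Y = ⊥) (r : RtP ι τ U) :
    Nonempty (F₀ ≃* Y ⧸ center Y) := by
  obtain rfl : Gd = Lr := funext fun u => propext (g u)
  obtain ⟨on, na, me, r, Z, Q, x, R, R₀, R₁, mc, d, ra, rz, ob, oh, os, oc, ou, oq⟩ := r
  have k : E1 ι τ Lr LS U e t Φ F₀ := S.start b fc fo c h m3
    (fun ea _ => S.no n F G e t b fc fo Y ι τ Lr U Φ h g on ea) fun ea uf v v2 g => g.elim
      (ea.go uf v v2) (S.ei n F G e t b fc fo Y ι τ Lr U Φ h ea uf Sr me v)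
  have rf := S.ro n F G e t Y ι τ Lr LS U Φ F₀ k r Z Q x d ob
  have nR := S.ho n F G e t Y ι τ Lr LS U Φ F₀ k r Z Q R d mc.1 oh rf
    (S.co n F G e t Y ι τ Lr LS U Φ F₀ k R mc)
  have f := S.uy n F G e t Y ι τ Lr LS U Φ F₀ k r Z Q x R hc d mc.1 ob os.cr ou rf nR
    (S.c3 S.gc n F G e t Y ι τ Lr LS U Φ F₀ k x R R₀ R₁ ob.tc mc.1 os oc
      (S.sr n F G e t Y ι τ Lr LS U Φ F₀ k x R ob.inv os) nR)
  have cn := S.ca S.gc n F G e t Y ι τ Lr LS U Φ F₀ k r Z Q _ d ra (peO ob.inv.1 f)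
    (S.so n F G e t Y ι τ Lr LS U Φ F₀ k r Z Q x d ob.inv.1 oq f)
  obtain ⟨w, hw⟩ := oq.ex
  have f' : Fx (Ns Φ.range) (Φ (w * x * w⁻¹)) := by simpa using f.conj (Φ_mem w)
  have k1 : F₀ ⊓ Cs (Z.map Φ) ≤ Ns Φ.range := fun g hg => f' g (le_normalizer (map_le_range Φ Q
    (conj_mem_of_mem_normalizer (cn hg) (mem_map_of_mem Φ hw))))
  exact S.finZ c k d na rf rz fun g hg => f' g (k1 ⟨k.conjK (k.ΦK _) g, conj_mem_of_mem_normalizer
    (normalizer_le_normalizer_centralizer _ hg.2) (map_mem_Cs (d.qc hw))⟩)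

omit S b fc fo c h m3

omit [QS Y] in
theorem Slots.mod (S : Slots.{u}) (b : Base n F) (fc : FC n F) (fo : FO n F) (m : Mod ι τ Gd)
    (g1 : Gd 1 ∨ center Y = ⊥) : Fn.{u} ι τ fun _ _ e t => ∀ v, Fu e t v → v = 1 ∨ Gd v := by
  intro G _ _ e t F₀ Φ c ce hm gd
  obtain ⟨U, mb, r⟩ := m
  have := mb.qs
  have h : E0 ι τ Gd U e t Φ := { ce, hm, mb.toM1, mb.toM2 with gd := gd }
  rcases r with r | r | r | r | ⟨g, r1, r2, r3, r, Z, Q, x, R, R₀, R₁, -, k⟩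
  exacts [S.rtS b fc fo c h mb.m3 r, S.rtU b fc fo c h mb.m3 r, S.rtL b fc fo c h mb.m3 r,
    S.rtM b fc fo c h mb.m3 r, S.rtP b fc fo c h mb.m3 g (g1.resolve_left fun g1 =>
      ((FR.rk 1).1.1 ((g 1).1 g1)).1.2 rfl) ⟨r1, r2, (funext fun u => propext (g u) : Gd = Lr) ▸ r3,
        r, Z, Q, x, R, R₀, R₁, k⟩]

omit [QS Y] [Finite Y] in
theorem gd_alt (na : NAl ι τ) (ce : CE e t) (hm : Hm ι τ e t Φ) (h : ¬ Fu e t (xb n F)) (v : XU n F)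
    (hv : Fu e t v) : v = 1 ∨ Alt v := by
  by_contra hn
  rw [not_or] at hn
  have cv := ce.toB1.comm v
  have v2 : v * v = 1 := ce.inj (by
    have := (H9.UF.inv2_conj ce.inv hv).1
    rwa [mul_assoc, ← mul_assoc (e v), ← cv, mul_assoc, ← mul_assoc, ce.inv.1, one_mul, ← map_mul,
      ← map_one e] at this)
  obtain ⟨g, hg⟩ := na v ⟨v2, hn.1⟩ hn.2
  refine h (hv.trans (isConj_iff.2 ⟨(Φ g)⁻¹, ?_⟩))
  rw [cv, ce.toB1.comm, ← hm.res, ← hm.res, hg, map_mul, map_mul, map_inv, ← hm.act g]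
  group

theorem Slots.jobFin (S : Slots.{u}) (s : JobMS) (u0 : JobMU0) (u1 : JobMU1) (l0 : JobML0)
    (l1 : JobML1) (o : JobMO ∨ JobMP) : JobFin.{u} where
  s n F _ _ _ _ _ _ b fc fo K _ _ _ _ x h G _ _ e t F₀ Φ c ce hm _ :=
    S.mod b fc fo (s n F b fc fo K x h) (Or.inl trivial) G e t F₀ Φ c ce hm fun _ _ => Or.inr trivial
  u0 n F _ _ _ _ _ _ b fc fo K _ _ _ _ x h G _ _ e t F₀ Φ c ce hm k :=
    S.mod b fc fo (u0 n F b fc fo K x h).1 (Or.inl fun v => by rw [ac_one]; exact FV.iso v) G e t F₀ Φ c ce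
      hm (gd_alt (u0 n F b fc fo K x h).2 ce hm k)
  u1 n F _ _ _ _ _ _ b fc fo K _ _ _ _ x h G _ _ e t F₀ Φ c ce hm _ :=
    S.mod b fc fo (u1 n F b fc fo K x h) (Or.inl trivial) G e t F₀ Φ c ce hm fun _ _ => Or.inr trivial
  l0 n F _ _ _ _ _ _ b fc fo G _ _ e t F₀ Φ c ce hm k :=
    S.mod b fc fo (l0 n F b fc fo).1 (Or.inl fun v => by rw [ac_one]; exact FV.iso v) G e t F₀ Φ c ce hm
      (gd_alt (l0 n F b fc fo).2 ce hm k)
  l1 n F _ _ _ _ _ _ b fc fo G _ _ e t F₀ Φ c ce hm _ :=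
    S.mod b fc fo (l1 n F b fc fo) (Or.inl trivial) G e t F₀ Φ c ce hm fun _ _ => Or.inr trivial
  o n F _ _ _ _ _ _ b fc fo δ G _ _ e t F₀ Φ c ce hm k := by
    have hs := (H86.SPI.mi n F).simple δ
    have hc : QS (Om (QD n F δ)) → center (Om (QD n F δ)) = ⊥ := fun _ =>
      (hs.eq_bot_or_eq_top_of_normal _ inferInstance).resolve_right fun h => by
        obtain ⟨a, ha⟩ := exists_ne (1 : Om (QD n F δ))
        exact ha (hom_eq_one (MonoidHom.id _) (fun a b => mem_center_iff.1 (h.ge (mem_top b)) a) a)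
    rcases o with o | o
    · exact S.mod b fc fo (o n F b fc fo δ) (Or.inr (hc (o n F b fc fo δ).choose_spec.1.qs)) G e t F₀ Φ
        c ce hm k
    obtain ⟨U, mb, r⟩ := o n F b fc fo δ
    have := mb.qs
    exact S.rtP b fc fo c { ce, hm, mb.toM1, mb.toM2 with gd := k } mb.m3 (fun _ => Iff.rfl) (hc this) r

end H64.YE
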