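import Cfsg.Agent.H64.YESlots
import Cfsg.Agent.H19.YeBG
import Cfsg.Agent.H44.YEa
import Cfsg.Agent.H86.SPODef
import Cfsg.Agent.H58.SpoKG
import Cfsg.Agent.H1.SPOKR
import Cfsg.Agent.H49.SPOKN
import Cfsg.Agent.H37.SPOKL
import Cfsg.Agent.H45.SPOKS
import Cfsg.Agent.H18.SPOXS
import Cfsg.Agent.H26.SPODc
import Cfsg.Agent.H96.SPOKD
import Cfsg.Agent.H89.SPOQN
import Cfsg.Agent.H90.SpoL1
import Cfsg.Agent.H98.SpoM3
import Cfsg.Agent.H10.SPOMC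
import Cfsg.Agent.H17.SPORD
import Cfsg.Agent.H8.SPORA
import Cfsg.Agent.H43.SPOB
import Cfsg.Agent.H57.SPOOH
import Cfsg.Agent.H84.SpOS
import Cfsg.Agent.H76.SPOIR
import Cfsg.Agent.H86.SPOOC
import Cfsg.Agent.H29.SPOU1
import Cfsg.Agent.H97.SPOM1
import Cfsg.Agent.H16.SpoOU

/-! STD-SP (row S3129): the endgame. -/

set_option autoImplicit false

namespace H64.YE

universe u

theorem jobFin : JobFin.{u} :=
  jobFin_of H19.YeBG.jobBG (H86.SPO.jobMO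
    { kg := H58.SpoKG.jobKG, kr := H1.SPOKR.jobKR, kn := H49.SPOKN.jobKN, kl := H37.SPOKL.jobKL
      ks := H45.SPO.jobKS, xs := H18.SPOXS.jobXS, dc := H26.SPO.jobDc, kd := H96.SPO.jobKD
      qn := H89.SPOQN.jobQN, m1 := H97.SPO.jobM1, l1 := H90.SpoL1.jobL1, m3 := H98.SpoM3.jobM3
      mc := H10.OMC.jobMC, rd := H17.SPORD.jobRD, ra := H8.SPORA.jobRA, ob := H43.SPOB.jobOB
      oh := H57.SPOOH.jobOH, os := H84.SpOS.jobOS, ir := H76.SPOIR.jobIR, oc := H86.SPO.jobOC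
      u1 := H29.SPOU.jobU1, ou := H16.SpoOU.jobOU } H44.YE.jobNA)

end H64.YE
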