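import Cfsg.Agent.H67.SPDef

/-! STD-SP endgame (row S3129), kit: homomorphisms `e : X →* G` with central kernel from a
quasisimple group (`QS X`); port of `H67/GAInd` to `H59.SO.Ind`.  Call as `ind_unique hk h h'`. -/

set_option autoImplicit false
set_option linter.unusedSectionVars false

namespace H64.YE

open H64.SG (O2 Syl Cz Cs Ns cjs Is2 Inv2 UF IsO2 fx mem_Cs mem_Cz mem_fx)
open H57 Subgroup
open H67.SA (cI cm mem_St mem_St_iff_map mem_St_of_finite mem_cI cm_eq_one)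
open H67.GA (hom_eq_one' hom_eq_of_central' mem_center_of_cm' conj_eq_one)
open H59.SO (Ind cje twe ind_one ind_one_iff ind_conj ind_conj_iff mem_Cs_range mem_Cs_map)

universe u

/-- `X` is quasisimple with centre of odd order, automorphisms of `X / Z(X)` lift, and the
`2`-elements of `(Aut X)'` are inner. -/
class QS (X : Type) [Group X] : Prop where
  perf : commutator X = ⊤
  oddZ : Odd (Nat.card (center X))
  nrm : ∀ N : Subgroup X, N.Normal → N ≤ center X ∨ N = ⊤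
  qs : Function.Surjective (quotCenterAut X)
  k2 : ∀ β ∈ commutator (MulAut X), Is2 β → ∃ s, β = MulAut.conj s

section O

variable {X : Type} [Group X] [QS X]

theorem perfect : commutator X = ⊤ := QS.perf

theorem hom_eq_one {G : Type*} [Group G] (f : X →* G) (hf : ∀ a b, f a * f b = f b * f a) (s : X) :
    f s = 1 := hom_eq_one' perfect f hf s

theorem hom_eq_of_central {G : Type*} [Group G] (f g : X →* G)
    (hc : ∀ a b, Commute (f a * (g a)⁻¹) (g b)) (hc' : ∀ a b, Commute (f a * (g a)⁻¹) (f b)) :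
    f = g := hom_eq_of_central' perfect f g hc hc'

theorem mem_center_of_cm {g : X} (hg : ∀ a, cm g a ∈ center X) : g ∈ center X :=
  mem_center_of_cm' perfect hg

theorem normal_le_center_or (N : Subgroup X) [h : N.Normal] : N ≤ center X ∨ N = ⊤ := QS.nrm N h

theorem quot_surjective : Function.Surjective (quotCenterAut X) := QS.qs

theorem odd_card_center : Odd (Nat.card (center X)) := QS.oddZ

variable [Finite X]

theorem odd_of_center {g : X} (h : g ∈ center X) : Odd (orderOf g) :=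
  H64.SG.odd_orderOf_of_mem odd_card_center h

theorem eq_one_of_center {g : X} (h : g ∈ center X) (h2 : Is2 g) : g = 1 :=
  h2.eq_one (odd_of_center h)

/-- `2`-elements that differ by a central element are equal. -/
theorem eq_of_is2 {a b : X} (ha : Is2 a) (hb : Is2 b) (h : a * b⁻¹ ∈ center X) : a = b := by
  have hc : a * b⁻¹ = b⁻¹ * a := by
    have := mem_center_iff.1 h b
    rw [inv_mul_cancel_right, ← mul_assoc, mul_inv_eq_iff_eq_mul] at this
    rw [mul_inv_eq_iff_eq_mul, mul_assoc, ← this, inv_mul_cancel_left]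
  exact mul_inv_eq_one.1 (eq_one_of_center h (ha.mul hb.inv hc))

theorem conj_inj {a b : X} (ha : Is2 a) (hb : Is2 b) (h : MulAut.conj a = MulAut.conj b) :
    a = b := eq_of_is2 ha hb (conj_eq_one.1 (by rw [map_mul, map_inv, h, mul_inv_cancel]))

/-- A `2`-element with trivial outer part is inner. -/
theorem exists_is2_conj {β : MulAut X} (h1 : ∃ s, β = MulAut.conj s) (h2 : Is2 β) :
    ∃ s, Is2 s ∧ β = MulAut.conj s := by
  obtain ⟨s, rfl⟩ := h1
  obtain ⟨a, b, e, ha, hb⟩ := H64.SG.exists_two_odd s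
  have h3 : MulAut.conj (s ^ b) = 1 := by
    refine H64.SG.Is2.eq_one ?_ (hb.of_dvd_nat (orderOf_map_dvd _ _))
    rw [map_pow]; exact h2.pow b
  exact ⟨_, ha, by conv_lhs => rw [e, map_mul, h3, mul_one]⟩

end O

section Ind

variable {X : Type} [Group X] {G : Type u} [Group G] {e : X →* G} {g g' t : G}
  {β β' : MulAut X} {A : Subgroup X}

variable [Finite X] [QS X] (hk : e.ker ≤ center X)

theorem range_perfect : e.range ≤ ⁅e.range, e.range⁆ := by
  rw [MonoidHom.range_eq_map, ← map_commutator]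
  exact map_mono (perfect).ge

include hk

theorem e_mem_Cs {s : X} : e s ∈ Cs e.range ↔ s ∈ center X := by
  refine ⟨fun h => mem_center_of_cm fun a => hk ?_, fun h => mem_Cs_range.2 fun a => ?_⟩
  · simp only [MonoidHom.mem_ker, map_mul, map_inv]
    exact cm_eq_one.2 (h _ ⟨a, rfl⟩).symm
  · rw [← map_mul, ← map_mul, mem_center_iff.1 h a]

theorem ind_unique (h : Ind e g β) (h' : Ind e g β') : β = β' := by
  have key : ∀ a, β a * (β' a)⁻¹ ∈ center X := fun a => hk (by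
    rw [MonoidHom.mem_ker, map_mul, map_inv, ← h, ← h', mul_inv_cancel])
  exact MulEquiv.toMonoidHom_injective (hom_eq_of_central β.toMonoidHom β'.toMonoidHom
    (fun a b => (mem_center_iff.1 (key a) _).symm) fun a b => (mem_center_iff.1 (key a) _).symm)

theorem ind_eq_one_iff (h : Ind e g β) : β = 1 ↔ g ∈ Cs e.range :=
  ⟨fun e1 => ind_one_iff.1 (e1 ▸ h), fun e1 => ind_unique hk h (ind_one_iff.2 e1)⟩

theorem exists_ind (hg : g ∈ Ns e.range) : ∃ β, Ind e g β := by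
  obtain ⟨π, hπ⟩ : ∃ π : e.range →* X ⧸ center X,
      ∀ s, π (e.rangeRestrict s) = QuotientGroup.mk s :=
    ⟨e.rangeRestrict.liftOfSurjective e.rangeRestrict_surjective ⟨QuotientGroup.mk' _, by
      rwa [QuotientGroup.ker_mk', MonoidHom.ker_rangeRestrict]⟩, fun s =>
      MonoidHom.liftOfRightInverse_comp_apply _ _ _ _ _⟩
  have hs : Function.Surjective π := fun a => by
    obtain ⟨s, rfl⟩ := QuotientGroup.mk_surjective a
    exact ⟨_, hπ s⟩
  have hz : π.ker = center e.range := by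
    ext l
    obtain ⟨s, rfl⟩ := e.rangeRestrict_surjective l
    rw [MonoidHom.mem_ker, hπ, QuotientGroup.eq_one_iff, ← e_mem_Cs hk, mem_center_iff]
    exact ⟨fun h a => Subtype.ext (h a a.2), fun h a ha => congrArg Subtype.val (h ⟨a, ha⟩)⟩
  obtain ⟨β, hβ⟩ := quot_surjective (H64.SG.acOf π hs hz g hg)
  have key : ∀ a, g * e a * g⁻¹ * (e (β a))⁻¹ ∈ Cs e.range := fun a => by
    have h1 := H64.SG.acOf_apply π hs hz hg (e.rangeRestrict a)
    rw [← hβ, hπ, quotCenterAut_mk, ← hπ, eq_comm, ← mul_inv_eq_one, ← map_inv, ← map_mul,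
      ← MonoidHom.mem_ker, hz, mem_center_iff] at h1
    exact fun b hb => congrArg Subtype.val (h1 ⟨b, hb⟩)
  have := hom_eq_of_central (cje g e) (twe e β) (fun a b => (key a _ ⟨_, rfl⟩).symm)
    fun a b => (key a _ (H98.conj_mem_of_mem_normalizer hg ⟨b, rfl⟩)).symm
  exact ⟨β, fun s => DFunLike.congr_fun this s⟩

/-- The action of `N(L)`. -/
noncomputable def indH : Ns e.range →* MulAut X :=
  MonoidHom.mk' (fun g => (exists_ind hk g.2).choose) fun a b =>
    ind_unique hk (exists_ind hk (a * b).2).choose_spec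
      ((exists_ind hk a.2).choose_spec.mul (exists_ind hk b.2).choose_spec)

theorem ind_indH (g : Ns e.range) : Ind e g (indH hk g) := (exists_ind hk g.2).choose_spec

theorem indH_eq (h : Ind e g β) : indH hk ⟨g, h.mem_Ns⟩ = β := ind_unique hk (ind_indH hk _) h

theorem mem_ker_indH {g : Ns e.range} : indH hk g = 1 ↔ g.1 ∈ Cs e.range :=
  ind_eq_one_iff hk (ind_indH hk g)

theorem ind_pow_eq_one (h : Ind e g β) {k : ℕ} (h1 : g ^ k = 1) : β ^ k = 1 :=
  ind_unique hk (h.pow k) (h1 ▸ ind_one)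

theorem ind_is2 (h : Ind e g β) (h2 : Is2 g) : Is2 β := ⟨_, ind_pow_eq_one hk h h2.choose_spec⟩

theorem ind_sq (h : Ind e g β) (h2 : g * g = 1) : β * β = 1 := ind_unique hk (h.mul h) (h2 ▸ ind_one)

theorem ind_odd (h : Ind e g β) (h2 : Odd (orderOf g)) : Odd (orderOf β) :=
  H64.SG.odd_orderOf_of_pow h2 (ind_pow_eq_one hk h (pow_orderOf_eq_one g))

theorem ind_comm_of_comm (h : Ind e g β) (h' : Ind e g' β') (c : g * g' = g' * g) :
    β * β' = β' * β := ind_unique hk (h.mul h') (c ▸ h'.mul h)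

/-- A normal subgroup of `L` is central or `L`. -/
theorem normal_range {N : Subgroup G} (h2 : e.range ≤ Ns N) :
    N ⊓ e.range ≤ Cs e.range ∨ e.range ≤ N := by
  have : (N.comap e).Normal := ⟨fun a ha b => by
    simpa using H98.conj_mem_of_mem_normalizer (h2 ⟨b, rfl⟩) ha⟩
  rcases normal_le_center_or (N.comap e) with h | h
  · left; rintro _ ⟨h1, s, rfl⟩; exact (e_mem_Cs hk).2 (h h1)
  · right; rintro _ ⟨s, rfl⟩; exact (h ▸ mem_top s : s ∈ N.comap e)

/-- An element whose commutators with `L` centralise `L` centralises `L`. -/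
theorem mem_Cs_of_cm (hg : g ∈ Ns e.range) (h : ∀ s, cm g (e s) ∈ Cs e.range) : g ∈ Cs e.range := by
  have := hom_eq_of_central (cje g e) e (fun a b => (h a _ ⟨_, rfl⟩).symm)
    fun a b => (h a _ (H98.conj_mem_of_mem_normalizer hg ⟨b, rfl⟩)).symm
  exact ind_one_iff.1 fun s => DFunLike.congr_fun this s


theorem odd_of_ker {s : X} (h : e s = 1) : Odd (orderOf s) := odd_of_center (hk h)

theorem odd_card_ker : Odd (Nat.card e.ker) := odd_card_center.of_dvd_nat (card_dvd_of_le hk)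

theorem inj2 {a b : X} (ha : Is2 a) (hb : Is2 b) (h : e a = e b) : a = b :=
  eq_of_is2 ha hb (hk (by simp [MonoidHom.mem_ker, h]))

theorem eq_one2 {a : X} (ha : Is2 a) (h : e a = 1) : a = 1 := eq_one_of_center (hk h) ha

/-- `2`-elements of `e A` have preimages in `A` that are `2`-elements. -/
theorem exists_is2 {s : X} (h : Is2 (e s)) :
    ∃ s' ∈ zpowers s, Is2 s' ∧ e s' = e s := by
  obtain ⟨i, j, h1, h2, h3⟩ := H64.SG.exists_two_odd s
  have h4 : e (s ^ j) = 1 := (map_pow e s j ▸ h.pow j).eq_one (h3.of_dvd_nat (orderOf_map_dvd _ _))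
  exact ⟨s ^ i, pow_mem (mem_zpowers s) i, h2, by
    conv_rhs => rw [h1, map_mul, h4, mul_one]⟩

omit hk in
theorem exists_is2_range (hg : g ∈ e.range) (h : Is2 g) : ∃ s, Is2 s ∧ e s = g := by
  obtain ⟨s, rfl⟩ := hg
  obtain ⟨i, j, h1, h2, h3⟩ := H64.SG.exists_two_odd s
  have h4 : e (s ^ j) = 1 := (map_pow e s j ▸ h.pow j).eq_one (h3.of_dvd_nat (orderOf_map_dvd _ _))
  exact ⟨s ^ i, h2, by conv_rhs => rw [h1, map_mul, h4, mul_one]⟩

theorem sq_of_e {s : X} (h2 : Is2 s) (h : e s * e s = 1) : s * s = 1 :=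
  eq_one2 hk (h2.mul h2 rfl) (by rw [map_mul, h])

theorem exists_sq_range (hg : g ∈ e.range) (h : g * g = 1) : ∃ s, s * s = 1 ∧ e s = g := by
  obtain ⟨s, h1, rfl⟩ := exists_is2_range hg (H64.SG.is2_of_sq h)
  exact ⟨s, sq_of_e hk h1 h, rfl⟩

theorem inv2_e {s : X} (h : Inv2 s) : Inv2 (e s) :=
  ⟨by rw [← map_mul, h.1, map_one], fun h' => h.2 (eq_one2 hk (H64.SG.is2_of_sq h.1) h')⟩

theorem ind_eq_iff (h : Ind e g β) {a b : X} (ha : Is2 a) (hb : Is2 b) :
    g * e a * g⁻¹ = e b ↔ β a = b :=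
  ⟨fun h' => inj2 hk (ha.map β.toMonoidHom) hb ((h a).symm.trans h'), fun h' => h' ▸ h a⟩

theorem ind_comm_iff (h : Ind e g β) {a : X} (ha : Is2 a) : g * e a = e a * g ↔ β a = a := by
  rw [← ind_eq_iff hk h ha ha, mul_inv_eq_iff_eq_mul]

theorem e_comm_iff {a b : X} (ha : Is2 a) : e b * e a = e a * e b ↔ b * a = a * b := by
  rw [ind_comm_iff hk (ind_conj b) ha, MulAut.conj_apply, mul_inv_eq_iff_eq_mul]

theorem mem_map2 (hA : IsPGroup 2 A) {s : X} (hs : Is2 s) : e s ∈ A.map e ↔ s ∈ A := by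
  refine ⟨fun ⟨a, ha, h⟩ => ?_, mem_map_of_mem e⟩
  exact inj2 hk (H64.SG.isPGroup_iff_is2.1 hA a ha) hs h ▸ ha

theorem map_le_map2 (hA : IsPGroup 2 A) {B : Subgroup X} (hB : IsPGroup 2 B) :
    A.map e ≤ B.map e ↔ A ≤ B :=
  ⟨fun h a ha => (mem_map2 hk hB (H64.SG.isPGroup_iff_is2.1 hA a ha)).1 (h ⟨a, ha, rfl⟩), map_mono⟩

theorem map_inf2 (hA : IsPGroup 2 A) {B : Subgroup X} (hB : IsPGroup 2 B) :
    (A ⊓ B).map e = A.map e ⊓ B.map e := by
  refine le_antisymm (map_inf_le _ _ _) ?_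
  rintro _ ⟨⟨a, ha, rfl⟩, h⟩
  exact ⟨a, ⟨ha, (mem_map2 hk hB (H64.SG.isPGroup_iff_is2.1 hA a ha)).1 h⟩, rfl⟩

theorem card_map2 (hA : IsPGroup 2 A) : Nat.card (A.map e) = Nat.card A := by
  refine (Nat.card_congr (Equiv.ofBijective (e.subgroupMap A) ⟨fun a b h => Subtype.ext ?_,
    e.subgroupMap_surjective A⟩)).symm
  exact inj2 hk (H64.SG.isPGroup_iff_is2.1 hA a a.2) (H64.SG.isPGroup_iff_is2.1 hA b b.2)
    (congrArg Subtype.val h)

theorem ind_st (h : Ind e g β) (hA : IsPGroup 2 A) (hg : g ∈ Ns (A.map e)) : β ∈ H67.SA.St A :=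
  mem_St_of_finite fun a ha => (mem_map2 hk hA ((H64.SG.isPGroup_iff_is2.1 hA a ha).map
    β.toMonoidHom)).1 (h a ▸ H98.conj_mem_of_mem_normalizer hg ⟨a, ha, rfl⟩)

theorem ind_fix (h : Ind e g β) (hA : IsPGroup 2 A) (hg : g ∈ Cs (A.map e)) : ∀ a ∈ A, β a = a :=
  fun a ha => (ind_comm_iff hk h (H64.SG.isPGroup_iff_is2.1 hA a ha)).1 (hg _ ⟨a, ha, rfl⟩).symm

/-- The `2`-subgroups of `L` come from `X`. -/
theorem exists_pre {P : Subgroup G} (hP : IsPGroup 2 P) : ∃ A : Subgroup X, IsPGroup 2 A ∧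
    A.map e = P ⊓ e.range ∧ ∀ s, s ∈ A ↔ Is2 s ∧ e s ∈ P := by
  have h2 : ∀ a b : X, Is2 a → Is2 b → e a ∈ P → e b ∈ P → Is2 (a * b) := fun a b ha hb pa pb => by
    obtain ⟨S, hS⟩ := H98.exists_isSyl (p := 2) (P.comap e)
    have key : ∀ c, Is2 c → e c ∈ P → c ∈ S := fun c hc pc => by
      obtain ⟨d, hd, r, hr, rfl⟩ := hS.exists_mul_res (x := c) pc
      have hr' : r ∈ center X := hk (by
        rw [← H64.SG.O2_eq] at hr
        refine (closure_le (K := e.ker)).2 (fun y hy => ?_) hr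
        exact (H64.SG.isPGroup_iff_is2.1 hP _ hy.1).eq_one (hy.2.of_dvd_nat (orderOf_map_dvd _ _)))
      rw [eq_of_is2 hc (H64.SG.isPGroup_iff_is2.1 hS.2.1 d hd) (by
        rwa [mem_center_iff.1 hr' d, mul_inv_cancel_right])]
      exact hd
    exact H64.SG.isPGroup_iff_is2.1 hS.2.1 _ (mul_mem (key a ha pa) (key b hb pb))
  let A : Subgroup X :=
    { carrier := {s | Is2 s ∧ e s ∈ P}
      one_mem' := ⟨H64.SG.is2_one, by simp⟩
      mul_mem' := fun a b => ⟨h2 _ _ a.1 b.1 a.2 b.2, by rw [map_mul]; exact mul_mem a.2 b.2⟩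
      inv_mem' := fun a => ⟨a.1.inv, by rw [map_inv]; exact inv_mem a.2⟩ }
  refine ⟨A, H64.SG.isPGroup_iff_is2.2 fun _ h => h.1, le_antisymm ?_ ?_, fun _ => Iff.rfl⟩
  · rintro _ ⟨s, hs, rfl⟩; exact ⟨hs.2, s, rfl⟩
  · rintro a ⟨h1, h3⟩
    obtain ⟨s, h4, rfl⟩ := exists_is2_range h3 (H64.SG.isPGroup_iff_is2.1 hP _ h1)
    exact ⟨s, ⟨h4, h1⟩, rfl⟩

omit hk in
theorem syl_map [Finite G] {P : Subgroup X} (h : Syl P A) : Syl (P.map e) (A.map e) :=
  H64.SG.syl_iff.2 ((H64.SG.syl_iff.1 h).map e)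

theorem syl_of_map [Finite G] {P : Subgroup X} (hP : IsPGroup 2 P) (hA : P ≤ A)
    (h : Syl (P.map e) (A.map e)) : Syl P A := by
  obtain ⟨S, hS, h1⟩ := H98.exists_isSyl_le hP hA
  have h2 := (H64.SG.syl_iff.1 h).eq_of_le (hS.2.1.map e) (map_mono h1) (map_mono hS.1)
  rw [le_antisymm h1 ((map_le_map2 hk hS.2.1 hP).1 h2.le)]
  exact H64.SG.syl_iff.2 hS

theorem odd_of_Cs (h1 : g ∈ e.range) (h2 : g ∈ Cs e.range) : Odd (orderOf g) := by
  obtain ⟨s, rfl⟩ := h1
  exact (odd_of_center ((e_mem_Cs hk).1 h2)).of_dvd_nat (orderOf_map_dvd _ _)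

theorem eq_one_of_Cs (h1 : g ∈ e.range) (h2 : g ∈ Cs e.range) (h3 : Is2 g) : g = 1 :=
  h3.eq_one (odd_of_Cs hk h1 h2)


/-- A `2`-element acting as the `2`-element `e s`. -/
theorem ind_split {s : X} (h : Ind e g (MulAut.conj s)) (h2 : Is2 g) (hs : Is2 s) :
    ∃ k ∈ Cs e.range, Is2 k ∧ g = k * e s ∧ g * k = k * g := by
  have h1 := ind_conj_iff.1 h
  have h3 := h1 _ ⟨s, rfl⟩
  have h4 : g * e s = e s * g := h.comm (by simp)
  refine ⟨_, h1, h2.mul (hs.map e).inv ?_, by simp, ?_⟩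
  · exact (Commute.inv_right h4).eq
  · rw [mul_assoc, ← (Commute.inv_right h4).eq]

/-- `C_L(g)` for a `2`-element `g`. -/
theorem ind_map_fx [Finite G] (h : Ind e g β) (h2 : Is2 β) : (fx β).map e = e.range ⊓ Cz g := by
  refine le_antisymm ?_ ?_
  · rintro _ ⟨s, hs, rfl⟩; exact ⟨⟨s, rfl⟩, mem_Cz.2 (h.comm hs)⟩
  rintro _ ⟨⟨s, rfl⟩, hs⟩
  have h3 : ∀ a, e a = e s → e (β a) = e s := fun a ha => by
    rw [← h, ha, mem_Cz.1 hs, mul_inv_cancel_right]
  let T : SubMulAction (zpowers β) X := ⟨{a | e a = e s}, fun c a ha => by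
    obtain ⟨c, hc⟩ := c
    obtain ⟨k, rfl⟩ := (mem_powers_iff_mem_zpowers).2 hc
    change e ((β ^ k) a) = e s
    clear hc
    induction k with
    | zero => exact ha
    | succ k ih => rw [pow_succ', MulAut.mul_apply]; exact h3 _ ih⟩
  have hc : Nat.card T = Nat.card e.ker := Nat.card_congr
    ⟨fun a => ⟨a.1 * s⁻¹, by have : e a.1 = e s := a.2; simp [MonoidHom.mem_ker, this]⟩,
      fun a => ⟨a.1 * s, by have : e a.1 = 1 := a.2; change e _ = e s; simp [this]⟩,
      fun a => by simp, fun a => by simp⟩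
  obtain ⟨a, ha⟩ := h2.zpowers.nonempty_fixed_point_of_prime_not_dvd_card T
    (by rw [hc]; exact (odd_card_ker hk).not_two_dvd_nat)
  exact ⟨a.1, congrArg Subtype.val (ha ⟨β, mem_zpowers β⟩), a.2⟩

end Ind

end H64.YE
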