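import Cfsg.Agent.H64.YEKit
import Cfsg.Agent.H67.SPSpec

/-! STD-SP (row S3129), endgame, piece 1: the type-free steps.  Notes: `blueprints/STDSP_E.md`.
`X = Sp_(n+1)(q)`, `Φ : Y →* G`, `G₁ = Φ.range`, `M = N(G₁)`, `K₀` of index `2`, `T` = class of `t`. -/

set_option autoImplicit false
set_option linter.unusedSectionVars false

namespace H64.YE

open H64.SG (O2 Syl Cz Cs Ns cjs Is2 Inv2 UF IsO2 fx)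
open Subgroup H67.UA H67.SP
open H67.SA (cm Gen)
open H59.SO (Ind CE AutOn)
open H64.SF (Outer)

universe u

section Gen

variable {G : Type*} [Group G]

/-- `d` fixes no coset of `M` other than `M`. -/
def Fx (M : Subgroup G) (d : G) : Prop := ∀ g, g * d * g⁻¹ ∈ M → g ∈ M
/-- The subgroup generated by the `2`-elements of `A`. -/
def T2 (A : Subgroup G) : Subgroup G := closure {g | g ∈ A ∧ Is2 g}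
/-- conjugate under `Aut G` -/
def Ac (a b : G) : Prop := ∃ β : MulAut G, β a = b
/-- `β` fixes a `2`-subgroup of order greater than `N`. -/
def Big (N : ℕ) (β : MulAut G) : Prop := ∃ P ≤ fx β, IsPGroup 2 P ∧ N < Nat.card P
/-- the conjugate of `τ` by `w` -/
def tw (τ : MulAut G) (w : G) : MulAut G := MulAut.conj w * τ * (MulAut.conj w)⁻¹
/-- An automorphism of odd order that fixes `R` pointwise is trivial. -/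
def Co (R : Subgroup G) : Prop :=
  ∀ α : MulAut G, (∀ u ∈ R, α u = u) → Odd (orderOf α) → α = 1

/-- A component of `H / V O(H)` that is not centralised by `Q`: `N` is its preimage, `B` the
centraliser in `Q` of the image of `N` in `H / O(H)`. -/
structure GD (M H T V Q N B : Subgroup G) : Prop where
  nh : N ≤ H
  vb : V ≤ B
  bq : B ≤ Q
  dec : ∀ x ∈ Q, ∃ a ∈ Q ⊓ N, ∃ b ∈ B, x = a * b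
  four : ∃ x ∈ Q, ∃ y ∈ Q, x ∉ B ∧ y ∉ B ∧ x⁻¹ * y ∉ B
  tr : ∀ a ∈ Q, ∀ a' ∈ Q, a ∉ B → a' ∉ B →
    ∃ d ∈ N, d ∈ Ns Q ∧ d ∈ Cs B ∧ d * a * d⁻¹ * a'⁻¹ ∈ B
  om : ∀ x ∈ T ⊓ N, x * x ∈ V → x ∈ Q
  cj : ∀ h ∈ H ⊓ Ns Q, h ∈ Ns N ∧ h ∈ Ns B ∨ cjs h (Q ⊓ N) ≤ B
  inv : ∀ s ∈ H, s * s = 1 → Cz s ≤ M → s ∈ Ns N ∧ s ∈ Ns B

end Gen

/-- Goldschmidt's theorem in `H / O(H)` (`H32.SH.gold_z`). -/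
def JobGC : Prop := ∀ (G : Type u) [Group G] [Finite G] (M H T V Q : Subgroup G), Syl T H → V ≤ Q →
  Q ≤ T → H ≤ Cs V → (∀ x ∈ Q, x * x ∈ V) → (∀ x ∈ Q, ∀ h ∈ H, h * x * h⁻¹ ∈ T → h * x * h⁻¹ ∈ Q) →
  M ⊓ H ≤ Ns Q → (∃ O ≤ H, Odd (Nat.card O) ∧ Ns H ≤ Ns O ∧
    ∀ h ∈ H, ∃ o ∈ O, ∃ n ∈ H ⊓ Ns Q, h = o * n) ∨ ∃ N B, GD M H T V Q N B

/-- A large group of Lie type in characteristic `2` is not alternating (row S2363). -/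
def JobNA : Prop := ∀ (Y : Type) [Group Y] [Finite Y] (P : Subgroup Y), Cfsg.IsLieTypeChar 2 Y →
  IsPGroup 2 P → 2 ^ 20 ≤ Nat.card P → ∀ m, IsEmpty (Y ≃* alternatingGroup (Fin m))

section Mod

variable {n : ℕ} {F : Type} [Field F] [StarRing F] [TrivialStar F] [CharP F 2] [Finite F]
  {Y : Type} [Group Y] (ι : XU n F →* Y) (τ : MulAut Y) (Gd Go : XU n F → Prop) (U : Subgroup Y)

variable (n F) in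
/-- a bound for the `2`-subgroups of `C(t)` -/
noncomputable def bq : ℕ := Nat.card F ^ (kk n ^ 2 + 1)

/-- `y` is conjugate into `X`. -/
def MI (y : Y) : Prop := ∃ w u, y = w * ι u * w⁻¹

/-- Basic facts. -/
structure M1 : Prop where
  t2 : τ * τ = 1
  fix : ∀ y, τ y = y ↔ y ∈ ι.range
  syl : Syl U ⊤
  stU : τ ∈ H67.SA.St U
  tne : τ ∉ commutator (MulAut Y)
  gen : ∃ a u, a * (τ a)⁻¹ = ι u ∧ ι.range ⊔ cjs a ι.range = ⊤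

/-- The involutions of `Y τ`. -/
structure M2 : Prop where
  gdc : ∀ u, u * u = 1 → Gd u → ∃ g, ι u = g * (τ g)⁻¹
  cl : ∀ v, v * τ v = 1 → ∃ g u, u * u = 1 ∧ v = g * ι u * (τ g)⁻¹

/-- The other outer involutions. -/
def M3 : Prop := ∀ β : MulAut Y, β * β = 1 → Is2 (β * τ) → Outer β → Outer (β * τ) →
  Big (bq n F) β ∨ (∀ u, Inv2 u → Gd u → u ∈ O2 (Cz u)) ∧
    ∃ (y : Y) (β' : MulAut Y) (ψ : MulAut (XU n F)) (z : XU n F),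
      β' = MulAut.conj y * β * (MulAut.conj y)⁻¹ ∧ β' * τ = τ * β' ∧ (∀ u, β' (ι u) = ι (ψ u)) ∧
        Outer ψ ∧ z ∈ O2 (fx ψ) ∧ Inv2 z ∧ ¬ Gd z

/-- The normal closure in `B` of the involutions `ι v`, `Go v`. -/
def EG (B : Subgroup Y) : Subgroup Y :=
  closure {y | ∃ b ∈ B, ∃ v, v * v = 1 ∧ Go v ∧ ι v ∈ B ∧ y = b * ι v * b⁻¹}

/-- `R` is a self-centralising normal subgroup of `U ⟨τ⟩`. -/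
structure Good (R : Subgroup Y) : Prop where
  le : R ≤ U
  nr : U ≤ Ns R
  st : τ ∈ H67.SA.St R
  ce : Cs R ⊓ U ≤ R
  co : Co R

/-- The data for `JobCO`. -/
def MC (R : Subgroup Y) : Prop := Good τ U R ∧ U ≤ EG ι Go (Ns R) ⊔ R ∧
  ∃ R', Good τ U R' ∧ EG ι Go (Ns R) ⊔ EG ι Go (Ns R') ⊔ U = ⊤

variable (r : Y) (Z Q : Subgroup Y)

/-- A root involution `r`, its root group `Z`, `Q = O₂(C Z)`.  "Root" means `IsConj r y`. -/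
structure RD : Prop where
  inv : Inv2 r
  tr : τ r = r
  rz : r ∈ Z
  zq : Z ≤ Q
  qu : Q ≤ U
  uz : U ≤ Cs Z
  z2 : ∀ z ∈ Z, z * z = 1
  sq : ∀ x ∈ Q, x * x ∈ Z
  rt : ∀ z ∈ Z, z ≠ 1 → IsConj r z
  ra : ∀ α : MulAut Y, IsConj r (α r)
  str : ∀ α : MulAut Y, α r = r → α ∈ H67.SA.St Z
  stq : ∀ α ∈ H67.SA.St Z, α ∈ H67.SA.St Q
  co : Co Q
  ce : ∀ u ∈ U, (∀ x ∈ Q, cm u x ∈ Z) → u ∈ Q
  gq : Q ≤ EG ι Go (Cs Z)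

/-- For `JobZ1`. -/
structure RZ : Prop where
  qn : ∀ x ∈ Q, x ∉ Z → ∃ p ∈ Cs Z, cm p x * cm p x = 1 ∧ cm p x ∉ Z
  zq : ∀ α ∈ H67.SA.St Q, (∀ x ∈ Q, α x * x⁻¹ ∈ Z) → ∀ z ∈ Z, α z = z
  zs : ∀ u, IsConj r u → u * r = r * u → u * r = 1 ∨ IsConj r (u * r) →
    u ∈ Z ∨ (∀ z ∈ Z, τ z = z) ∧ ∃ w, tw τ w r = r ∧ tw τ w u = u

/-- For `JobNZ`. -/
structure RN : Prop where
  zp : ∀ z ∈ Z, z ≠ 1 → ∀ y, IsConj r y → y * z = z * y → y * z = 1 ∨ IsConj r (y * z) → y ∈ Z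
  tp : ∃ g, g * r * g⁻¹ ∉ Z ∧ cjs g Z ≤ Cs Z ∧
    (∀ d ∈ Cs Z, IsConj r d → d ∉ Z → ∃ p ∈ Cs Z, p * d * p⁻¹ ∈ cjs g Z) ∧
    T2 (Cs Z) ⊔ cjs g (T2 (Cs Z)) = ⊤

/-- For `JobCA`. -/
structure RA (P : Subgroup Y) : Prop where
  tz : ∀ z ∈ Z, τ z = z
  irr : ∀ B, Z ≤ B → B ≤ Q → P ≤ Ns B → B ≤ Z ∨ Q ≤ B
  sqs : ∃ x ∈ Q, ∃ y ∈ Q, x ∉ Z ∧ y ∉ Z ∧ x * x ≠ y * y

/-- For `JobCB`, `JobHS` (symplectic model). -/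
structure RB : Prop where
  tr : ∀ x ∈ Q, ∀ y ∈ Q, x ∉ Z → y ∉ Z → ∃ p ∈ Cs Z, p * x * p⁻¹ * y⁻¹ ∈ Z
  nb : ∀ N, Q ≤ N → N ≤ Cs Z → Cs Z ≤ Ns N → N ≤ Q ∨ Cs Z ≤ N
  ex : ∃ u ∈ U, u * u = 1 ∧ u ∉ Q
  mv : ∃ p ∈ Cs Z, ∃ x ∈ Q, ∃ y ∈ Q, x ∉ Z ∧ cm p x ∈ Z ∧ cm p y ∉ Z
  el : ∀ x ∈ Q, x * x = 1
  hs : ∀ θ, AutOn Q θ → (∀ z ∈ Z, θ z = z) → (∀ x ∈ Q, Ac x (θ x)) →
    ∃ p ∈ Cs Z, ∀ x ∈ Q, θ x * (p * x * p⁻¹)⁻¹ ∈ Z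

/-- For `JobHU` (unitary models). -/
structure RH : Prop where
  pd : U ≤ closure {d | d ∈ Cs Z ∧ IsConj r d}
  ha : ∀ θ δ : Y → Y, AutOn Q θ → (∀ z ∈ Z, θ z = z) → ∀ d ∈ Cs Z, IsConj r d → d ∉ Z →
    (∀ x ∈ Q, δ (θ x) = θ (d * x * d⁻¹)) → ∃ d₂ ∈ Cs Z, IsConj r d₂ ∧ d₂ ∉ Z ∧
      (∀ x ∈ Q, δ (d₂ * x * d₂⁻¹) * (d₂ * δ x * d₂⁻¹)⁻¹ ∈ Z) ∧
      (∃ x ∈ Q, ∃ x' ∈ Q, δ x * x⁻¹ ∉ Z ∧ δ x * x⁻¹ * (cm d₂ x')⁻¹ ∈ Z) ∧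
      ((∀ x ∈ Q, ∃ x' ∈ Q, δ x * x⁻¹ * (cm d₂ x')⁻¹ ∈ Z) →
        ∃ d₃ ∈ Cs Z, ∀ x ∈ Q, δ x * (d₃ * x * d₃⁻¹)⁻¹ ∈ Z)
  hb : ∀ d₁ ∈ U, ∀ d₂ ∈ U, IsConj r d₁ → IsConj r d₂ →
    (∃ x ∈ Q, ∃ x' ∈ Q, cm d₁ x ∉ Z ∧ cm d₁ x * (cm d₂ x')⁻¹ ∈ Z) →
      ∀ x ∈ Q, ∃ x' ∈ Q, cm d₁ x * (cm d₂ x')⁻¹ ∈ Z

/-- For `JobSS`. -/
structure RS : Prop where
  pat : ∀ v ∈ Cs Z, v * v = 1 → ∀ x ∈ Q, x * x = 1 → (∀ z ∈ Z, Ac (x * z) (v * z)) → v ∈ Q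
  gen : Q ≤ closure {x | x ∈ Q ∧ x * x = 1}
  scf : ∀ u ∈ U, ∀ x ∈ Q, x * x ≠ 1 → u * u = x * x →
    (∃ y ∈ closure {y | y ∈ Q ∧ y * y = 1 ∧ cm u y ∈ Z}, u * y * (u * y) = 1) ∨
      (∀ z ∈ Z, τ z = z) ∧ (∃ w ∈ Cs Z, tw τ w u * u⁻¹ ∈ Z) ∧ ∃ w ∈ Cs Z, tw τ w x * x⁻¹ ∈ Z

/-- For `JobEI`. -/
structure ME (Ge : XU n F → Prop) : Prop where
  mz : ∀ z, Ge z → ∀ α : MulAut Y, α * (MulAut.conj (ι z) * τ) = MulAut.conj (ι z) * τ * α →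
    α * τ = τ * α
  zp : ∀ z, Ge z → Inv2 z ∧ ∃ A, IsO2 A (Cz z) ∧ z ∈ closure {v | v ∈ A ∧ v * v = 1 ∧ Gd v}

variable (c : Y) (R : Subgroup Y)

/-- Orthogonal models: `c` of type `c₂`, `R = O₂(C c)`; the involutions that are not conjugate into
`X`. -/
structure OB : Prop where
  inv : Inv2 c
  tc : τ c = c
  ncr : ¬ IsConj r c
  b1 : ∀ y, y * y = 1 → ¬ MI ι y → ¬ IsConj r y ∧
    ∃ w, y * tw τ w y = tw τ w y * y ∧ IsConj c (y * tw τ w y)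
  b2 : ∀ y y', y * y = 1 → y' * y' = 1 → ¬ MI ι y → ¬ MI ι y' → IsConj y y' ∨ IsConj y (τ y')
  b3 : ∀ r' c', IsConj r r' → Ac c c' → MI ι c' → r' * c' = c' * r' →
    ∃ w, tw τ w r' = r' ∧ tw τ w c' = c'

/-- For `JobNO`. -/
def ON : Prop := ∀ y, y * y = 1 → ¬ MI ι y → ∃ A ≤ O2 (Cz y), Nat.card F < Nat.card A ∧
  ∀ a ∈ A, a * a = 1 ∧ IsConj y (y * a)

/-- For `JobHO`. -/
def OH : Prop := ∀ θ, AutOn R θ → (∀ x ∈ R, IsConj r x ↔ IsConj r (θ x)) →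
  ∃ p, ∀ x ∈ R, θ (τ x) = p * τ (θ x) * p⁻¹

/-- For `JobSR`. -/
structure OS : Prop where
  cr : c ∈ R
  el : ∀ x ∈ R, x * x = 1
  st : ∀ α : MulAut Y, α c = c → α ∈ H67.SA.St R
  sr : ∀ x ∈ R, ∃ w, tw τ w c = c ∧ tw τ w x = x
  scr : ∀ u, u * u = 1 → u * c = c * u → (¬ MI ι u ∨ ∃ x ∈ R, Ac x u) →
    (¬ MI ι (u * c) ∨ ∃ x ∈ R, Ac x (u * c)) → ∃ w, tw τ w c = c ∧ (tw τ w u = u ∨ tw τ w u = u * c)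

/-- For `JobC3`: `R₁ = E(e, F w)`, `R₀ = E(e, w^⊥)`. -/
structure OC (R₀ R₁ : Subgroup Y) : Prop where
  l1 : R₁ ≤ R₀
  l0 : R₀ ≤ R
  n1 : ¬ R₀ ≤ R₁
  n0 : ¬ R ≤ R₀
  irr : ∀ B ≤ R, (∀ p ∈ Cz c, p * (τ p)⁻¹ ∈ Ns B) → B ≤ R₁ ∨ R₀ ≤ B
  st : ∀ α : MulAut Y, α c = c → α ∈ H67.SA.St R₀
  tv : ∀ α ∈ H67.SA.St R, (∀ x ∈ R₀, α x = x) → ∀ x ∈ R, α x * x⁻¹ ∈ R₀
  gr : R₀ ≤ EG ι Go (Cz c)
  two : ∃ g ∈ Ns R, c ∈ cjs g R₀ ∧ R ≤ R₀ ⊔ cjs g R₀ ∧ Co (R₀ ⊓ cjs g R₀)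

/-- For `JobUZ`. -/
structure OU : Prop where
  o2c : IsO2 R (T2 (Cz c))
  o2r : IsO2 R (T2 (Ns R))
  max : ∀ A, T2 (Ns R) ≤ A → A ≤ Ns R ∨ A = ⊤
  d1 : ∀ y, y * y = 1 → ¬ MI ι y → Ac c y ∨ ∃ D : Set Y, y ∈ closure D ∧
    (∀ a ∈ D, IsConj r a ∧ a * y = y * a) ∧
      ∀ a ∈ D, ∀ b ∈ D, a * b = b * a ∧ MI ι (a * b) ∧ ¬ Ac c (a * b)
  d2 : ∀ D : Set Y, (∀ a ∈ D, IsConj r a) →
    (∀ a ∈ D, ∀ b ∈ D, a * b = b * a ∧ ¬ (MI ι (a * b) ∧ Ac c (a * b))) → c ∉ closure D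

/-- For `JobSO`. -/
structure OQ : Prop where
  ex : ∃ w, w * c * w⁻¹ ∈ Q
  fx : ∀ u ∈ U, u * u ∈ Z → ∃ w, w * c * w⁻¹ ∈ Cs Z ∧ cm (w * c * w⁻¹) u ∈ Z

/-- Linear models, `q = 2`. -/
structure LD (A A' : Subgroup Y) : Prop where
  z : ∀ z ∈ Z, z = 1 ∨ z = r
  sup : A ⊔ A' = Q
  inf : A ⊓ A' = Z
  sw : ∀ y, y ∈ A ↔ τ y ∈ A'
  el : ∀ a ∈ A, a * a = 1
  rt : ∀ a ∈ A, a ≠ 1 → IsConj r a
  pat : ∀ u, IsConj r u → u * r = r * u → u * r = 1 ∨ IsConj r (u * r) → u ∈ A ∨ u ∈ A'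
  nr : Cs Z ≤ Ns A
  ce : A ⊓ Cs A' ≤ Z
  zc : Z ≤ ⁅A, A'⁆
  hl : ∀ θ, AutOn A θ → θ r = r → ∃ p ∈ Cs Z, ∀ a ∈ A, θ a * (p * a * p⁻¹)⁻¹ ∈ Z

end Mod

section Amb

variable {n : ℕ} {F : Type} [Field F] [StarRing F] [TrivialStar F] [CharP F 2] [Finite F]
  {Y : Type} [Group Y] {G : Type u} [Group G] (ι : XU n F →* Y) (τ : MulAut Y)
  (Gd Go : XU n F → Prop) (U : Subgroup Y) (e : XU n F →* G) (t : G) (Φ : Y →* G) (K₀ : Subgroup G)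

/-- The start of the endgame. -/
structure E0 : Prop extends CE e t, Hm ι τ e t Φ, M1 ι τ U, M2 ι τ Gd where
  gd : ∀ u, Fu e t u → u = 1 ∨ Gd u

/-- The facts on the model, lifted to `G₁`. -/
structure EA : Prop where
  odd : Odd (Nat.card (Cs Φ.range))
  ct : Cz t ≤ Ns Φ.range
  tx : ∀ u, u * u = 1 → Gd u → ∃ w, t * e u = Φ w * t * (Φ w)⁻¹
  tc : ∀ v, IsConj t (Φ v * t) → ∃ w, Φ v * t = Φ w * t * (Φ w)⁻¹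
  inn : ∀ m y, Is2 m → Ind Φ m (MulAut.conj y) → m ∈ Φ.range

variable (n F) in
/-- The `2`-subgroups of `C(s)`, `s ∈ T`, are small. -/
def BG : Prop := ∀ s, IsConj t s → ∀ P ≤ Cz s, IsPGroup 2 P → Nat.card P ≤ bq n F

/-- `T` does not meet `G₁`. -/
def NR : Prop := ∀ y, ¬ IsConj t (Φ y)

/-- The result of the transfer. -/
structure EK : Prop where
  nor : K₀.Normal
  nt : t ∉ K₀
  le : Φ.range ≤ K₀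
  top : ∀ g, g ∈ K₀ ∨ g * t ∈ K₀
  two2 : ∀ m ∈ Ns Φ.range, Is2 m → m ∈ K₀ → m ∈ Φ.range
  sylS : Syl (U.map Φ ⊔ zpowers t) ⊤
  sylK : Syl (U.map Φ) K₀

/-- The standing hypotheses after the transfer. -/
structure E1 : Prop extends E0 ι τ Gd U e t Φ, EA Gd e t Φ, EK U t Φ K₀ where
  uf : UF (Ns Φ.range) t
  go : ∀ v, v * v = 1 → Go v → Cz (t * e v) ≤ Ns Φ.range

/-- `C_K(R) ≤ R C(G₁)` -/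
def CR (R : Subgroup Y) : Prop := ∀ g ∈ K₀, g ∈ Cs (R.map Φ) →
  ∃ y ∈ R, ∃ o ∈ Cs Φ.range, g = Φ y * o

/-- `M` controls the fusion of `r`. -/
def RF (r : Y) : Prop := ∀ g, g * Φ r * g⁻¹ ∈ Φ.range →
  ∃ m ∈ Ns Φ.range, ∃ c ∈ Cz (Φ r), g = m * c

/-- `A` is strongly closed in `U` with respect to `C_K(Z)`. -/
def SC (Z A : Subgroup Y) : Prop := ∀ x ∈ A, ∀ h ∈ K₀, h ∈ Cs (Z.map Φ) →
  h * Φ x * h⁻¹ ∈ U.map Φ → h * Φ x * h⁻¹ ∈ A.map Φ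

/-- `C_K(Z) ≤ N(A)` -/
def CN (Z A : Subgroup Y) : Prop := K₀ ⊓ Cs (Z.map Φ) ≤ Ns (A.map Φ)

/-- The elements that act trivially on `Z` and on `Q / Z`. -/
def CQ (Z Q : Subgroup Y) : Prop := ∀ g ∈ K₀, g ∈ Cs (Z.map Φ) → g ∈ Ns (Q.map Φ) →
  (∀ x ∈ Q, cm g (Φ x) ∈ Z.map Φ) → ∃ y ∈ Q, ∃ o ∈ Cs Φ.range, g = Φ y * o

/-- The `2`-elements of `C_K(Z)` lie in `G₁`. -/
def C2 (Z : Subgroup Y) : Prop := ∀ g ∈ K₀, g ∈ Cs (Z.map Φ) → Is2 g → g ∈ Φ.range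

/-- `P` is generated by involutions of `C(Z)` with centralisers in `M`. -/
def PE (Z P : Subgroup Y) : Prop :=
  P.map Φ ≤ closure {s | s * s = 1 ∧ s ∈ Cs (Z.map Φ) ∧ Cz s ≤ Ns Φ.range}

end Amb

/-- A statement at the start of the endgame. -/
def All0 (P : ∀ (n : ℕ) (F : Type) [Field F] [StarRing F] [TrivialStar F] [CharP F 2] [Finite F]
    (Y : Type) [Group Y] (G : Type u) [Group G], (XU n F →* Y) → MulAut Y → (XU n F → Prop) →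
      Subgroup Y → (XU n F →* G) → G → (Y →* G) → Prop) : Prop :=
  AllA.{u} fun n F _ _ _ _ _ G _ e t => FO n F → ∀ (Y : Type) [Group Y] [Finite Y] [QS Y]
    (ι : XU n F →* Y) (τ : MulAut Y) (Gd : XU n F → Prop) (U : Subgroup Y) (Φ : Y →* G),
      E0 ι τ Gd U e t Φ → P n F Y G ι τ Gd U e t Φ

/-- A statement after the transfer (no fact on `X` is needed). -/
def All1 (P : ∀ (n : ℕ) (F : Type) [Field F] [StarRing F] [TrivialStar F] [CharP F 2] [Finite F]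
    (Y : Type) [Group Y] (G : Type u) [Group G], (XU n F →* Y) → MulAut Y → (XU n F → Prop) →
      (XU n F → Prop) → Subgroup Y → (XU n F →* G) → G → (Y →* G) → Subgroup G → Prop) : Prop :=
  AllG.{u} fun n F _ _ _ _ _ G _ e t => ∀ (Y : Type) [Group Y] [Finite Y] [QS Y]
    (ι : XU n F →* Y) (τ : MulAut Y) (Gd Go : XU n F → Prop) (U : Subgroup Y) (Φ : Y →* G)
    (K₀ : Subgroup G), E1 ι τ Gd Go U e t Φ K₀ → P n F Y G ι τ Gd Go U e t Φ K₀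

def JobEA : Prop := All0.{u} fun _ _ _ _ _ _ _ _ _ _ _ _ _ Gd _ e t Φ => EA Gd e t Φ

def JobBG : Prop := All0.{u} fun n F _ _ _ _ _ Y _ _ _ _ _ _ _ _ t Φ => BG n F t ∧
  ((∀ y : Y, Inv2 y → Big (bq n F) (MulAut.conj y)) → NR t Φ)

def JobNO : Prop := All0.{u} fun _ _ _ _ _ _ _ _ _ _ _ ι _ Gd _ e t Φ => (∀ u, Gd u ↔ Lr u) →
  ON ι → EA Gd e t Φ → NR t Φ

def JobUF : Prop := All0.{u} fun n F _ _ _ _ _ _ _ _ _ ι τ Gd _ e t Φ => M3 ι τ Gd →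
  EA Gd e t Φ → BG n F t → NR t Φ → UF (Ns Φ.range) t

def JobEV : Prop := All0.{u} fun _ _ _ _ _ _ _ _ _ _ _ _ _ Gd U e t Φ => EA Gd e t Φ →
  UF (Ns Φ.range) t → Gen t → ∃ K₀, EK U t Φ K₀

def JobEI : Prop := All0.{u} fun _ _ _ _ _ _ _ _ _ _ _ ι τ Gd _ e t Φ => EA Gd e t Φ →
  UF (Ns Φ.range) t → ∀ Ge, ME ι τ Gd Ge → ∀ z, Ge z → Cz (t * e z) ≤ Ns Φ.range

def JobCO : Prop := All1.{u} fun _ _ _ _ _ _ _ _ _ _ _ ι τ _ Go U _ _ Φ K₀ =>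
  ∀ R, MC ι τ Go U R → CR Φ K₀ R

def JobCQ : Prop := All1.{u} fun _ _ _ _ _ _ _ _ _ _ _ ι τ _ Go U _ _ Φ K₀ =>
  ∀ r Z Q, RD ι τ Go U r Z Q → CR Φ K₀ Q → CQ Φ K₀ Z Q

def JobSS : Prop := All1.{u} fun _ _ _ _ _ _ _ _ _ _ _ ι τ _ Go U _ _ Φ K₀ =>
  ∀ r Z Q, RD ι τ Go U r Z Q → (∀ y, y * y = 1 → MI ι y) → RS τ U Z Q → SC U Φ K₀ Z Q

def JobCA : Prop := JobGC.{u} → All1.{u} fun _ _ _ _ _ _ _ _ _ _ _ ι τ _ Go U _ _ Φ K₀ =>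
  ∀ r Z Q P, RD ι τ Go U r Z Q → RA τ Z Q P → PE Φ Z P → SC U Φ K₀ Z Q → CN Φ K₀ Z Q

def JobHS : Prop := All1.{u} fun _ _ _ _ _ _ _ _ _ _ _ ι τ _ Go U _ _ Φ K₀ =>
  ∀ r Z Q, RD ι τ Go U r Z Q → (∀ y, y * y = 1 → MI ι y) → RB U Z Q → CQ Φ K₀ Z Q →
    K₀ ⊓ Cs (Z.map Φ) ⊓ Ns (Q.map Φ) ≤ Ns Φ.range

def JobCB : Prop := JobGC.{u} → All1.{u} fun _ _ _ _ _ _ _ _ _ _ _ ι τ _ Go U _ _ Φ K₀ =>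
  ∀ r Z Q, RD ι τ Go U r Z Q → RB U Z Q → SC U Φ K₀ Z Q →
    K₀ ⊓ Cs (Z.map Φ) ⊓ Ns (Q.map Φ) ≤ Ns Φ.range → CN Φ K₀ Z Q

def JobHU : Prop := All1.{u} fun _ _ _ _ _ _ _ _ _ _ _ ι τ _ Go U _ _ Φ K₀ =>
  ∀ r Z Q, RD ι τ Go U r Z Q → RH U r Z Q → RF Φ r → CN Φ K₀ Z Q → CQ Φ K₀ Z Q → C2 Φ K₀ Z

def JobNZ : Prop := All1.{u} fun _ _ _ _ _ _ _ _ _ _ _ ι τ _ Go U _ _ Φ K₀ =>
  ∀ r Z Q, RD ι τ Go U r Z Q → RN r Z → RF Φ r → C2 Φ K₀ Z → K₀ ⊓ Ns (Z.map Φ) ≤ Ns Φ.range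

def JobSZ : Prop := All1.{u} fun _ _ _ _ _ _ _ _ _ _ _ ι τ _ Go U _ _ Φ K₀ =>
  ∀ r Z Q, RD ι τ Go U r Z Q → RZ τ r Z Q → RF Φ r → SC U Φ K₀ (zpowers r) Z

def JobZ1 : Prop := JobGC.{u} → All1.{u} fun _ _ _ _ _ _ _ _ _ _ _ ι τ _ Go U _ _ Φ K₀ =>
  ∀ r Z Q, RD ι τ Go U r Z Q → RZ τ r Z Q → SC U Φ K₀ (zpowers r) Z →
    K₀ ⊓ Ns (Z.map Φ) ≤ Ns Φ.range → K₀ ⊓ Cz (Φ r) ≤ Ns Φ.range

def JobHT : Prop := All1.{u} fun _ _ _ _ _ _ _ Y _ _ _ ι τ _ Go U _ _ Φ K₀ =>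
  ∀ r Z Q, RD ι τ Go U r Z Q → IsSimpleGroup K₀ →
    (∀ m, IsEmpty (Y ⧸ center Y ≃* alternatingGroup (Fin m))) → RF Φ r →
      K₀ ⊓ Cz (Φ r) ≤ Ns Φ.range → K₀ ≤ Ns Φ.range

def JobRO : Prop := All1.{u} fun _ _ _ _ _ _ _ _ _ _ _ ι τ _ Go U _ _ Φ _ =>
  ∀ r Z Q c, RD ι τ Go U r Z Q → OB ι τ r c → RF Φ r

def JobHO : Prop := All1.{u} fun _ _ _ _ _ _ _ _ _ _ _ ι τ _ Go U _ _ Φ K₀ =>
  ∀ r Z Q R, RD ι τ Go U r Z Q → Good τ U R → OH τ r R → RF Φ r → CR Φ K₀ R →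
    Ns (R.map Φ) ≤ Ns Φ.range

def JobSR : Prop := All1.{u} fun _ _ _ _ _ _ _ _ _ _ _ ι τ _ _ _ _ _ Φ _ =>
  ∀ c R, Inv2 c → OS ι τ c R → ∀ x ∈ R, ∀ h ∈ Cz (Φ c), h * Φ x * h⁻¹ ∈ Φ.range →
    h * Φ x * h⁻¹ ∈ R.map Φ

def JobC3 : Prop := JobGC.{u} → All1.{u} fun _ _ _ _ _ _ _ _ _ _ _ ι τ _ Go U _ _ Φ _ =>
  ∀ c R R₀ R₁, τ c = c → Good τ U R → OS ι τ c R → OC ι τ Go c R R₀ R₁ →
    (∀ x ∈ R, ∀ h ∈ Cz (Φ c), h * Φ x * h⁻¹ ∈ Φ.range → h * Φ x * h⁻¹ ∈ R.map Φ) →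
      Ns (R.map Φ) ≤ Ns Φ.range → Cz (Φ c) ≤ Ns Φ.range

def JobUZ : Prop := All1.{u} fun _ _ _ _ _ _ _ _ _ _ _ ι τ _ Go U _ _ Φ _ =>
  ∀ r Z Q c R, RD ι τ Go U r Z Q → Good τ U R → OB ι τ r c → c ∈ R → OU ι r c R → RF Φ r →
    Ns (R.map Φ) ≤ Ns Φ.range → Cz (Φ c) ≤ Ns Φ.range → Fx (Ns Φ.range) (Φ c)

def JobSO : Prop := All1.{u} fun _ _ _ _ _ _ _ _ _ _ _ ι τ _ Go U _ _ Φ K₀ =>
  ∀ r Z Q c, RD ι τ Go U r Z Q → c * c = 1 → OQ U Z Q c → Fx (Ns Φ.range) (Φ c) → SC U Φ K₀ Z Q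

def JobLA : Prop := All1.{u} fun _ _ _ _ _ _ _ _ _ _ _ ι τ _ Go U _ _ Φ K₀ =>
  ∀ r Z Q A A', RD ι τ Go U r Z Q → LD τ r Z Q A A' → RF Φ r → SC U Φ K₀ Z A ∧ SC U Φ K₀ Z A'

def JobLB : Prop := All1.{u} fun _ _ _ _ _ _ _ _ _ _ _ ι τ _ Go U _ _ Φ K₀ =>
  ∀ r Z Q A A', RD ι τ Go U r Z Q → LD τ r Z Q A A' → SC U Φ K₀ Z A → SC U Φ K₀ Z A' →
    CN Φ K₀ Z A ∧ CN Φ K₀ Z A'

def JobLC : Prop := All1.{u} fun _ _ _ _ _ _ _ _ _ _ _ ι τ _ Go U _ _ Φ K₀ =>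
  ∀ r Z Q A A', RD ι τ Go U r Z Q → LD τ r Z Q A A' → CN Φ K₀ Z A → CN Φ K₀ Z A' → CQ Φ K₀ Z Q →
    K₀ ⊓ Cz (Φ r) ≤ Ns Φ.range

/-- Row S1769. -/
def JobL4 : Prop := ∀ (m : ℕ) (F : Type) [Field F] [Finite F] [CharP F 2] (G : Type u) [Group G]
  [Finite G] (Φ : H67.SA.SLn m F →* G) (U : Subgroup (H67.SA.SLn m F)) (K₀ : Subgroup G), 5 ≤ m →
  4 ≤ Nat.card F → Φ.ker ≤ center _ → Syl U ⊤ → Syl (U.map Φ) K₀ → IsSimpleGroup K₀ →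
    Nonempty (K₀ ≃* Matrix.ProjectiveSpecialLinearGroup (Fin (m + 1)) F)

end H64.YE
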