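import Cfsg.Agent.H64.YEAsm
import Cfsg.Agent.H83.YEGC
import Cfsg.Agent.H98.YeEA
import Cfsg.Agent.H29.YENO
import Cfsg.Agent.H99.YEUF
import Cfsg.Agent.H70.YEEV
import Cfsg.Agent.H5.YEEI
import Cfsg.Agent.H24.YECO
import Cfsg.Agent.H37.YECQ
import Cfsg.Agent.H45.YESS
import Cfsg.Agent.H5.YECA
import Cfsg.Agent.H54.YEHS
import Cfsg.Agent.H46.YECB
import Cfsg.Agent.H71.YeHU
import Cfsg.Agent.H44.YEa
import Cfsg.Agent.H13.YESZ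
import Cfsg.Agent.H87.YeZ1
import Cfsg.Agent.H46.YEHT
import Cfsg.Agent.H43.YERO
import Cfsg.Agent.H1.YEHO
import Cfsg.Agent.H72.YESR
import Cfsg.Agent.H4.YEC3
import Cfsg.Agent.H9.YEUY
import Cfsg.Agent.H95.YESO
import Cfsg.Agent.H24.YELA
import Cfsg.Agent.H94.YELB
import Cfsg.Agent.H84.YELC
import Cfsg.Agent.H16.YEL4
import Cfsg.Agent.H54.YSFin
import Cfsg.Agent.H78.YUFin
import Cfsg.Agent.H81.YLAsm

/-! STD-SP endgame (row S3129): the landed slots. -/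

set_option autoImplicit false

namespace H64.YE

universe u

theorem slots (bg : JobBG.{u}) : Slots.{u} :=
  ⟨H83.YEGC.jobGC, H98.YeEA.jobEA, bg, H29.YEN.jobNO, H99.YEUF.jobUF, H70.YEEV.jobEV, H5.YEEI.jobEI,
    H24.YECO.jobCO, H37.YECQ.jobCQ, H45.YE.jobSS, H5.YECA.jobCA, H54.YE.jobHS, H46.YECB.jobCB,
    H71.YeHU.jobHU, H44.YE.jobNZ, H13.YESZ.jobSZ, H87.YeZ1.jobZ1, H46.YEHT.jobHT, H43.YERO.jobRO,
    H1.YEHO.jobHO, H72.YESR.jobSR, H4.YEC3.jobC3, H9.UY.jobUY, H95.YE.jobSO, H24.YELA.jobLA,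
    H94.YE.jobLB, H84.YELC.jobLC, H16.YEL4.jobL4⟩

theorem jobFin_of (bg : JobBG.{u}) (o : JobMO) : JobFin.{u} :=
  (slots bg).jobFin H54.YS.jobMS H78.YU.jobMU0 H78.YU.jobMU1 H81.YL.jobML0 H81.YL.jobML1 (Or.inl o)

end H64.YE
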